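import Cfsg.Agent.Lib.PolarAut.Three

/-!
Automorphisms of `PSU_n(q)`, `n ≥ 3`.
-/

set_option autoImplicit false

namespace CfsgLib.PolarAut

open Matrix CfsgLib.UnitaryTransvection CfsgLib.UnitarySimple CfsgLib.PSUGraph
open scoped MatrixGroups

variable {F : Type*} [Field F] [Fintype F] {n q : ℕ} (hF : Fintype.card F = q ^ 2)

include hF in
/-- Conversion of a semilinear similitude into a unitary semilinear map inducing `β`. -/
theorem psu_of_similitude (hn : 3 ≤ n) (β : MulAut (Cfsg.PSU n F q))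
    (h : ∃ (T : (Fin n → F) → (Fin n → F)) (σ : F ≃+* F) (m : F), m ≠ 0 ∧ frob hF m = m ∧
      (∀ x y, T (x + y) = T x + T y) ∧ (∀ (c : F) x, T (c • x) = σ c • T x) ∧ Function.Bijective T ∧
      (∀ x y, Cfsg.hermForm n F q (T x) (T y) = m * σ (Cfsg.hermForm n F q x y)) ∧
      ∀ s k, β ((suGeo hF hn).pr s) = (suGeo hF hn).pr k →
        ∃ c : F, ∀ x, mat k *ᵥ (T x) = c • T (mat s *ᵥ x)) :
    ∃ (g : GL (Fin n) F) (σ : F ≃+* F), g ∈ Cfsg.GU n F q ∧ Cfsg.IsInducedBySemilinearPSU g σ β := by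
  obtain ⟨T, σ, m, hm0, hτm, Tadd, Tsmul, Tbij, Th, Tequiv⟩ := h
  obtain ⟨g₀, hg₀⟩ := exists_matrix σ Tadd Tsmul Tbij
  obtain ⟨t, ht⟩ := exists_norm_eq hF (c := m⁻¹) (by rw [map_inv₀, hτm])
  have ht0 : t ≠ 0 := fun h => inv_ne_zero hm0 (by rw [← ht, h, zero_mul])
  set g : GL (Fin n) F := scal (Units.mk0 t ht0) * g₀ with hg
  have hgv : ∀ x, g.1 *ᵥ x = t • (g₀.1 *ᵥ x) := fun x => by
    rw [hg, scal_mul_val, Units.val_mk0, Matrix.smul_mulVec]
  refine ⟨g, σ, fun u v => ?_, fun s s' hs => ?_⟩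
  · obtain ⟨u', rfl⟩ : ∃ u', u = fun i => σ (u' i) := ⟨fun i => σ.symm (u i), by funext i; simp⟩
    obtain ⟨v', rfl⟩ : ∃ v', v = fun i => σ (v' i) := ⟨fun i => σ.symm (v i), by funext i; simp⟩
    show Cfsg.hermForm n F q (g.1 *ᵥ fun i => σ (u' i)) (g.1 *ᵥ fun i => σ (v' i)) = _
    rw [hgv, hgv, h_smul_left, h_smul_right hF, ← hg₀, ← hg₀, map_pow_comm, Th, ← mul_assoc,
      ← mul_assoc, ht, inv_mul_cancel₀ hm0, one_mul]
  · obtain ⟨k, hk⟩ := (suGeo hF hn).surj (β ((suGeo hF hn).pr s))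
    obtain ⟨c, hc⟩ := Tequiv s k hk.symm
    show β ((suGeo hF hn).pr s) = (suGeo hF hn).pr s'
    rw [← hk, (suGeo hF hn).pr_eq_iff]
    refine ⟨c, fun x => ?_⟩
    obtain ⟨y, rfl⟩ := Tbij.2 x
    show mat k *ᵥ T y = _
    rw [hc]
    congr 1
    show T (mat s *ᵥ y) = mat s' *ᵥ T y
    rw [hg₀, hg₀, show mat s' = g.1 * (mat s).map σ * (g⁻¹).1 from hs,
      show (fun i => σ ((mat s *ᵥ y) i)) = (mat s).map σ *ᵥ (fun i => σ (y i)) from
        funext fun i => RingHom.map_mulVec σ.toRingHom (mat s) y i]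
    set v := fun i => σ (y i)
    apply smul_right_injective (Fin n → F) ht0
    show t • (g₀.1 *ᵥ _) = t • _
    rw [← Matrix.mulVec_smul (g.1 * (mat s).map σ * (g⁻¹).1), ← hgv, ← hgv, mulVec_mulVec,
      mulVec_mulVec, Matrix.mul_assoc (g.1 * (mat s).map σ), Units.inv_mul, Matrix.mul_one]

include hF in
theorem norm_one_ne (hq : 3 ≤ q) : ∃ c : F, c * frob hF c = 1 ∧ frob hF c * frob hF c / c ≠ 1 := by
  classical
  obtain ⟨g, hg⟩ := IsCyclic.exists_ofOrder_eq_natCard (α := Fˣ)
  rw [Nat.card_eq_fintype_card, Fintype.card_units, hF] at hg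
  have hord : (q + 1) * (q - 1) = q ^ 2 - 1 := by rw [← Nat.sq_sub_sq, one_pow]
  refine ⟨((g ^ (q - 1) : Fˣ) : F), ?_, ?_⟩
  · rw [frob_apply, ← pow_succ', ← Units.val_pow_eq_pow_val, ← pow_mul,
      show (q - 1) * (q + 1) = q ^ 2 - 1 by rw [mul_comm, hord], ← hg, pow_orderOf_eq_one, Units.val_one]
  · intro h
    have hne : ((g ^ (q - 1) : Fˣ) : F) ≠ 0 := Units.ne_zero _
    rw [div_eq_one_iff_eq hne, frob_apply, ← Units.val_pow_eq_pow_val, ← Units.val_mul, ← pow_mul,
      ← pow_add] at h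
    obtain ⟨k, hk⟩ : ∃ k, q = k + 1 := ⟨q - 1, by omega⟩
    subst hk
    simp only [Nat.add_sub_cancel] at h hord
    have h1 : g ^ (k * (2 * k + 1)) = 1 := by
      have e1 : g ^ (k * (k + 1) + k * (k + 1)) = g ^ k := Units.ext h
      rw [show k * (k + 1) + k * (k + 1) = k + k * (2 * k + 1) by ring, pow_add] at e1
      exact mul_left_cancel (e1.trans (mul_one _).symm)
    have h2 := orderOf_dvd_of_pow_eq_one h1
    rw [hg, ← hord, mul_comm k, Nat.mul_dvd_mul_iff_right (by omega : 0 < k)] at h2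
    have h3 : k + 2 ∣ 2 * (k + 2) := dvd_mul_left _ _
    have h4 := Nat.dvd_sub h3 h2
    rw [show 2 * (k + 2) - (2 * k + 1) = 3 by omega] at h4
    have := Nat.le_of_dvd (by norm_num) h4
    omega

include hF in
/-- Every automorphism of a simple `PSU_n(q)` is induced by a unitary semilinear map. -/
theorem psu_semilinear (hn : 3 ≤ n) (h32 : ¬ (n = 3 ∧ q = 2)) (β : MulAut (Cfsg.PSU n F q)) :
    ∃ (g : GL (Fin n) F) (σ : F ≃+* F), g ∈ Cfsg.GU n F q ∧ Cfsg.IsInducedBySemilinearPSU g σ β := by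
  rcases eq_or_lt_of_le hn with h3 | h4
  · subst h3
    have hq1 := (UnitaryBasic.frob_exists hF).1
    have hq : 3 ≤ q := by
      rcases Nat.lt_or_ge q 3 with h | h
      · exact absurd ⟨rfl, by omega⟩ h32
      · exact h
    let S := suGeo hF (n := 3) le_rfl
    obtain ⟨e, f, H⟩ := exists_pair hF (n := 3) (by omega)
    have hperp : ∀ a b, S.P.Hyp a b → ∃ c, Triple S.P a b c := by
      intro a b K
      obtain ⟨c, hc0, hc⟩ := exists_perp_ne (q := q) (show 2 < 3 by omega) ![a, b]
      have hp : S.P.Perp a b c := ⟨hc 0, hc 1⟩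
      have key : ∀ x, S.P.Perp a b x → ∃ t : F, x = t • c := by
        intro x hx
        by_contra hcon
        push Not at hcon
        -- then `x` and `c` would be independent
        have hli : LinearIndependent F ![a, b, c, x] := by
          rw [Fintype.linearIndependent_iff]
          intro g hg
          rw [Fin.sum_univ_four] at hg
          simp only [Matrix.cons_val_zero, Matrix.cons_val_one, Matrix.cons_val_two, Matrix.head_cons,
            Matrix.tail_cons, Matrix.cons_val_three] at hg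
          have e1 := congrArg (fun z => S.P.h z b) hg
          have e2 := congrArg (fun z => S.P.h z a) hg
          simp [S.P.add_left, S.P.smul_left, K.ee, K.ff, K.ef, K.fe, hp.1, hp.2, hx.1, hx.2,
            S.P.ε_ne] at e1 e2
          rw [e1, e2, zero_smul, zero_smul, zero_add, zero_add] at hg
          have e4 : g 3 = 0 := by
            by_contra h
            refine hcon (-(g 3)⁻¹ * g 2) ?_
            rw [neg_mul, neg_smul, ← smul_smul, ← smul_neg, eq_inv_smul_iff₀ h, eq_neg_iff_add_eq_zero,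
              add_comm]
            exact hg
          rw [e4, zero_smul, add_zero, smul_eq_zero, or_iff_left hc0] at hg
          intro i
          fin_cases i <;> assumption
        simpa using hli.fintype_card_le_finrank
      refine ⟨c, K, hp, fun h => hc0 (K.eq_zero hp fun x hx => ?_), key⟩
      obtain ⟨t, rfl⟩ := key x hx
      rw [S.P.smul_right, h, mul_zero]
    obtain ⟨d, Q⟩ := hperp e f H
    obtain ⟨c, hcN, hc1⟩ := norm_one_ne hF hq
    have hc0 : c ≠ 0 := left_ne_zero_of_mul_eq_one hcN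
    refine psu_of_similitude hF le_rfl β (exists_similitude_three S β
      (tperm_of_nolin S β (nolin hF) (e₁ := e) (f₁ := f) H) (by simp) rfl ?_ ⟨c, hcN, hc1⟩ ?_ Q hperp)
    · by_contra hcon
      push Not at hcon
      -- otherwise all `c̄²/c` are real, hence their norm-one instances are `±1`
      have hreal : frob hF (frob hF c * frob hF c / c) = frob hF c * frob hF c / c := hcon c hc0
      rw [map_div₀, map_mul, frob_frob] at hreal
      have hcb : frob hF c = c⁻¹ := eq_inv_of_mul_eq_one_right hcN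
      rw [hcb] at hreal hc1
      field_simp at hreal hc1
      have e6 : (c ^ 3 - 1) * (c ^ 3 + 1) = 0 := by linear_combination hreal
      rcases mul_eq_zero.mp e6 with e7 | e7
      · exact hc1 (by rw [sub_eq_zero.mp e7]; simp)
      · -- `c³ = -1`: use `c * c`
        by_cases h2 : (-1 : F) = 1
        · exact hc1 (by rw [show c ^ 3 = 1 by linear_combination e7 + h2]; simp)
        · obtain ⟨z, hz⟩ : ∃ z : F, z ≠ 0 ∧ frob hF (frob hF z * frob hF z / z) = -(frob hF z * frob hF z / z) := by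
            obtain ⟨w, hw0, hw⟩ := exists_skew hF
            refine ⟨w, hw0, ?_⟩
            have hwb : frob hF w = -w := eq_neg_of_add_eq_zero_right hw
            rw [map_div₀, map_mul, frob_frob, hwb]
            field_simp
          have h3 := (hcon z hz.1).symm.trans hz.2
          have h4 : frob hF z * frob hF z / z ≠ 0 :=
            div_ne_zero (mul_ne_zero ((map_ne_zero _).mpr hz.1) ((map_ne_zero _).mpr hz.1)) hz.1
          exact h2 (mul_right_cancel₀ h4 (by rw [neg_one_mul, one_mul]; exact h3.symm))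
    · obtain ⟨d₀, hd₀⟩ := exists_trace_one hF
      exact ⟨d₀, by rw [add_comm]; exact hd₀⟩
  · exact psu_four hF h4 β

end CfsgLib.PolarAut
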