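import Cfsg.Agent.Lib.PolarAut.PSU
import Cfsg.Agent.Lib.PSUGraph.Split
import Cfsg.Agent.Lib.Chev.Aut.FieldCyclic
import Cfsg.Prelude.Def_KGroupFacts
import Cfsg.Agent.Lib.PSLn.FieldCentral

/-!
The outer automorphism group of `PSU_n(q)`.
-/

set_option autoImplicit false

namespace CfsgLib.PolarAut

open Matrix CfsgLib.UnitaryTransvection CfsgLib.UnitarySimple CfsgLib.PSUGraph
open scoped MatrixGroups

variable {F : Type*} [Field F] [Fintype F] {n q : ℕ} (hF : Fintype.card F = q ^ 2)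

local notation "A" => MulAut (Cfsg.PSU n F q)

theorem psu_decomp (hn : 3 ≤ n) (h32 : ¬ (n = 3 ∧ q = 2)) (β : A) :
    ∃ (x : ↥(GS hF n)) (σ : RingAut F), β = conjP hF x * fieldP hF σ := by
  obtain ⟨g, σ, hg, h⟩ := psu_semilinear hF hn h32 β
  refine ⟨⟨g, GU_le_GS hF hg⟩, σ, MulEquiv.ext fun a => QuotientGroup.induction_on a fun s => ?_⟩
  exact h s _ rfl

theorem fieldP_mem_R (hn : 3 ≤ n) (h32 : ¬ (n = 3 ∧ q = 2)) {σ : RingAut F}
    (h : fieldP hF (n := n) σ ∈ (conjP hF (n := n)).range) : σ = 1 := by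
  obtain ⟨x, hx⟩ := h
  exact (conj_field_one hF hn h32 x⁻¹ σ (by rw [map_inv, hx, inv_mul_cancel])).1

theorem conjP_range_normal (hn : 3 ≤ n) (h32 : ¬ (n = 3 ∧ q = 2)) :
    (conjP hF (n := n)).range.Normal := by
  refine ⟨fun r hr β => ?_⟩
  obtain ⟨y, rfl⟩ := hr
  obtain ⟨x, σ, rfl⟩ := psu_decomp hF hn h32 β
  refine ⟨x * mapGS hF σ y * x⁻¹, ?_⟩
  rw [map_mul, map_mul, map_inv, mul_assoc (conjP hF x) (fieldP hF σ), fieldP_conjP, _root_.mul_inv_rev]
  group

theorem exists_fieldPart (hn : 3 ≤ n) (h32 : ¬ (n = 3 ∧ q = 2)) :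
    ∃ π : A →* RingAut F, Function.Surjective π ∧ π.ker = Cfsg.inndiagPSU n F q ∧
      ∀ (x : ↥(GS hF n)) σ, π (conjP hF x * fieldP hF σ) = σ := by
  haveI := conjP_range_normal hF hn h32
  let ψ : RingAut F →* A ⧸ (conjP hF (n := n)).range := (QuotientGroup.mk' _).comp (fieldP hF)
  have hinj : Function.Injective ψ := (injective_iff_map_eq_one ψ).mpr fun σ hσ =>
    fieldP_mem_R hF hn h32 ((QuotientGroup.eq_one_iff _).mp hσ)
  have hsurj : Function.Surjective ψ := fun z => by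
    obtain ⟨β, rfl⟩ := QuotientGroup.mk_surjective z
    obtain ⟨x, σ, rfl⟩ := psu_decomp hF hn h32 β
    refine ⟨σ, ?_⟩
    show (QuotientGroup.mk (fieldP hF σ) : A ⧸ (conjP hF (n := n)).range) = _
    rw [QuotientGroup.mk_mul, (QuotientGroup.eq_one_iff (N := (conjP hF (n := n)).range) (conjP hF x)).mpr ⟨x, rfl⟩, one_mul]
  let e := MulEquiv.ofBijective ψ ⟨hinj, hsurj⟩
  let π : A →* RingAut F := e.symm.toMonoidHom.comp (QuotientGroup.mk' _)
  refine ⟨π, e.symm.surjective.comp (QuotientGroup.mk'_surjective _), ?_, fun x σ => ?_⟩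
  · rw [inndiag_eq hF (by omega)]
    ext β
    simp only [π, MonoidHom.mem_ker, MonoidHom.comp_apply, MulEquiv.coe_toMonoidHom,
      MulEquiv.map_eq_one_iff, QuotientGroup.mk'_apply, QuotientGroup.eq_one_iff]
  · show e.symm _ = σ
    rw [MulEquiv.symm_apply_eq]
    show _ = (QuotientGroup.mk (fieldP hF σ) : A ⧸ (conjP hF (n := n)).range)
    rw [QuotientGroup.mk'_apply, QuotientGroup.mk_mul,
      (QuotientGroup.eq_one_iff (N := (conjP hF (n := n)).range) (conjP hF x)).mpr ⟨x, rfl⟩, one_mul]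

include hF in
theorem inn_le_inndiag (hn : 0 < n) : Cfsg.Inn (Cfsg.PSU n F q) ≤ Cfsg.inndiagPSU n F q := by
  rintro _ ⟨x, rfl⟩
  obtain ⟨s, rfl⟩ := QuotientGroup.mk_surjective x
  rw [ρ_range hF hn]
  exact ⟨_, ρ_toGL hF s⟩

/-- Preimage of the inner automorphisms in `GU`. -/
theorem comap_inn (hn : 3 ≤ n) (h32 : ¬ (n = 3 ∧ q = 2)) :
    (Cfsg.Inn (Cfsg.PSU n F q)).comap (ρ hF) =
      ((powMonoidHom n : ↥(U1 hF) →* ↥(U1 hF)).range).comap (dU hF) := by
  apply le_antisymm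
  · intro x hx
    obtain ⟨a, ha⟩ := Subgroup.mem_comap.mp hx
    obtain ⟨s, rfl⟩ := QuotientGroup.mk_surjective a
    rw [← ρ_toGL hF] at ha
    obtain ⟨u, hu⟩ := (conjP_eq_iff hF hn h32 _ _).mp (show conjP hF _ = conjP hF _ from ha.symm)
    change x.1.1 = (u : F) • mat s at hu
    have hN : u ∈ U1 hF := by
      have e1 := (mem_GU hF x.1).mp x.2
      rw [hu, map_smul_fr, transpose_smul, Matrix.smul_mul, Matrix.mul_smul, smul_smul, su_unit hF] at e1
      have := congrFun (congrFun e1 ⟨0, by omega⟩) ⟨0, by omega⟩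
      rw [mem_U1, mul_comm]
      simpa using this
    refine Subgroup.mem_comap.mpr ⟨⟨u, hN⟩, Subtype.ext (Units.ext ?_)⟩
    show ((u ^ n : Fˣ) : F) = x.1.1.det
    rw [hu, det_smul, Fintype.card_fin, show (mat s).det = 1 from s.1.2, mul_one, Units.val_pow_eq_pow_val]
  · intro x hx
    obtain ⟨⟨u, hu⟩, hux⟩ := Subgroup.mem_comap.mp hx
    have hm : scal (n := n) u⁻¹ * x.1 ∈ Cfsg.GU n F q := by
      refine mul_mem ?_ x.2
      rw [mem_GU hF, scal_val, map_smul_fr, Matrix.map_one _ (map_zero _) (map_one _), transpose_smul,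
        transpose_one, Matrix.smul_mul, Matrix.one_mul, smul_smul, mul_comm,
        (mem_U1 hF).mp ((U1 hF).inv_mem hu), one_smul]
    have hd : (scal (n := n) u⁻¹ * x.1).1.det = 1 := by
      rw [scal_mul_val, det_smul, Fintype.card_fin,
        show x.1.1.det = ((u ^ n : Fˣ) : F) from (congrArg Units.val (congrArg Subtype.val hux)).symm,
        ← Units.val_pow_eq_pow_val, ← Units.val_mul, inv_pow, inv_mul_cancel, Units.val_one]
    let s : Cfsg.SU n F q := ⟨⟨_, hd⟩, fun a b => hm a b⟩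
    refine Subgroup.mem_comap.mpr ⟨QuotientGroup.mk s, ?_⟩
    rw [← ρ_toGL hF]
    refine (conjP_eq_iff hF hn h32 _ _).mpr ⟨u⁻¹, ?_⟩
    show (scal (n := n) u⁻¹ * x.1).1 = ((u⁻¹ : Fˣ) : F) • x.1.1
    exact scal_mul_val _ _

include hF in
theorem inndiag_quotient (hn : 3 ≤ n) (h32 : ¬ (n = 3 ∧ q = 2)) :
    (Cfsg.Inn (Cfsg.PSU n F q)).relIndex (Cfsg.inndiagPSU n F q) = Nat.gcd n (q + 1) ∧
      ∃ r ∈ Cfsg.inndiagPSU n F q, ∀ β ∈ Cfsg.inndiagPSU n F q, ∃ k : ℤ,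
        (r ^ k)⁻¹ * β ∈ Cfsg.Inn (Cfsg.PSU n F q) := by
  constructor
  · rw [ρ_range hF (by omega), ← Subgroup.index_comap, comap_inn hF hn h32,
      Subgroup.index_comap_of_surjective _ (dU_surj hF (by omega)), IsCyclic.index_powMonoidHom_range,
      card_U1, Nat.gcd_comm]
  · obtain ⟨g, hg⟩ := IsCyclic.exists_generator (α := ↥(U1 hF))
    obtain ⟨x, hx⟩ := dU_surj hF (n := n) (by omega) g
    refine ⟨ρ hF x, by rw [ρ_range hF (by omega)]; exact ⟨x, rfl⟩, fun β hβ => ?_⟩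
    rw [ρ_range hF (by omega)] at hβ
    obtain ⟨y, rfl⟩ := hβ
    obtain ⟨k, hk⟩ := hg (dU hF y)
    refine ⟨k, ?_⟩
    rw [← map_zpow, ← map_inv, ← map_mul, ← Subgroup.mem_comap, comap_inn hF hn h32, Subgroup.mem_comap,
      map_mul, map_inv, map_zpow, hx, show g ^ k = dU hF y from hk, inv_mul_cancel]
    exact one_mem _

include hF in
theorem card_inn (hn : 3 ≤ n) (h32 : ¬ (n = 3 ∧ q = 2)) :
    Nat.card (Cfsg.Inn (Cfsg.PSU n F q)) = Nat.card (Cfsg.PSU n F q) := by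
  refine (Nat.card_congr (MonoidHom.ofInjective ?_).toEquiv).symm
  rw [injective_iff_map_eq_one]
  intro a ha
  obtain ⟨s, rfl⟩ := QuotientGroup.mk_surjective a
  rw [← ρ_toGL hF] at ha
  obtain ⟨-, μ, hμ⟩ := conj_field_one hF hn h32 ⟨_, GU_le_GS hF (toGL_mem hF s)⟩ 1
    (by rw [map_one, mul_one]; exact ha)
  rw [QuotientGroup.eq_one_iff]
  refine central_of_scalar s (c := (μ : F)) fun x => ?_
  rw [show mat s = (μ : F) • (1 : Matrix (Fin n) (Fin n) F) from
    (congrArg Units.val hμ).trans (scal_val μ), Matrix.smul_mulVec, Matrix.one_mulVec]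

theorem charP_of_natCard {K : Type*} [Field K] [Finite K] {p k : ℕ} [Fact p.Prime]
    (h : Nat.card K = p ^ k) : CharP K p := by
  letI := Fintype.ofFinite K
  exact CfsgLib.PSLn.charP_of_card (by rw [← Nat.card_eq_fintype_card, h])

theorem out_surj {G : Type*} [Group G] [Finite G] {R : Type*} [Group R] {I : Subgroup (MulAut G)}
    (π : MulAut G →* R) (hs : Function.Surjective π) (hk : π.ker = I) (hle : Cfsg.Inn G ≤ I) {d f : ℕ}
    (hrel : (Cfsg.Inn G).relIndex I = d) (r : MulAut G) (hr : r ∈ I)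
    (hgen : ∀ β ∈ I, ∃ k : ℤ, (r ^ k)⁻¹ * β ∈ Cfsg.Inn G) (hcyc : IsCyclic R) (hcard : Nat.card R = f) :
    ∃ φ : Cfsg.Out G →* Multiplicative (ZMod f), Function.Surjective φ ∧ IsCyclic φ.ker ∧
      Nat.card φ.ker = d := by
  have hM : Nat.card (Multiplicative (ZMod f)) = f := (Nat.card_congr Multiplicative.toAdd).trans (Nat.card_zmod f)
  let e : R ≃* Multiplicative (ZMod f) := mulEquivOfCyclicCardEq (hcard.trans hM.symm)
  let φ : Cfsg.Out G →* Multiplicative (ZMod f) :=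
    QuotientGroup.lift (Cfsg.Inn G) (e.toMonoidHom.comp π) (fun x hx => by
      have : x ∈ π.ker := hk ▸ hle hx
      simp [MonoidHom.mem_ker, MonoidHom.mem_ker.mp this])
  have hφ : ∀ β : MulAut G, φ (QuotientGroup.mk β) = e (π β) := fun β => rfl
  have hmem : ∀ β : MulAut G, (QuotientGroup.mk β : Cfsg.Out G) ∈ φ.ker ↔ β ∈ I := fun β => by
    rw [MonoidHom.mem_ker, hφ, ← hk, MonoidHom.mem_ker, MulEquiv.map_eq_one_iff]
  have hsφ : Function.Surjective φ := fun z => by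
    obtain ⟨β, hβ⟩ := hs (e.symm z)
    exact ⟨QuotientGroup.mk β, by rw [hφ, hβ, e.apply_symm_apply]⟩
  refine ⟨φ, hsφ, ⟨⟨⟨QuotientGroup.mk r, (hmem r).mpr hr⟩, fun x => ?_⟩⟩, ?_⟩
  · obtain ⟨x, hx⟩ := x
    obtain ⟨β, rfl⟩ := QuotientGroup.mk_surjective x
    obtain ⟨k, hk'⟩ := hgen β ((hmem β).mp hx)
    refine ⟨k, Subtype.ext ?_⟩
    show (QuotientGroup.mk r : Cfsg.Out G) ^ k = QuotientGroup.mk β
    rw [← QuotientGroup.mk_zpow, QuotientGroup.eq]
    exact hk'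
  · have h1 : (Cfsg.Inn G).index = Nat.card φ.ker * f := by
      rw [Subgroup.index_eq_card, ← φ.ker.card_mul_index, Subgroup.index_ker,
        MonoidHom.range_eq_top.mpr hsφ, Subgroup.card_top, hM]
    have h2 : (Cfsg.Inn G).index = d * f := by
      rw [← Subgroup.relIndex_mul_index hle, hrel, ← hk, Subgroup.index_ker,
        MonoidHom.range_eq_top.mpr hs, Subgroup.card_top, hcard]
    have hf : 0 < f := by
      haveI : Finite R := Finite.of_surjective π hs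
      exact hcard ▸ Nat.card_pos
    exact Nat.eq_of_mul_eq_mul_right hf (h1.symm.trans h2)

end CfsgLib.PolarAut
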