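import Cfsg.Agent.Lib.PolarAut.Unitary
import Cfsg.Agent.Lib.SympSimple
import Cfsg.Agent.Lib.SympInvolution.Cent
import Cfsg.Agent.S0245
import Cfsg.Prelude.Def_LieTypeDatum

/-!
Automorphisms of `PSp_2m(q)`.
-/

set_option autoImplicit false

namespace CfsgLib.PolarAut

open Matrix CfsgLib.SympGen
open CfsgLib.SympTransvection (tv)

variable {F : Type*} [Field F] {m : ℕ}

local notation "Vec" => (Fin m ⊕ Fin m → F)
local notation "Sp" => Matrix.symplecticGroup (Fin m) F

/-- The symplectic form. -/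
def sympPolar (F : Type*) [Field F] (m : ℕ) : Polar F (Fin m ⊕ Fin m → F) where
  h := SympGen.B
  τ := RingHom.id F
  ε := -1
  add_left := B_add_left
  smul_left := B_smul_left
  swap x y := by rw [RingHom.id_apply, B_swap]; ring
  ττ _ := rfl
  sign := Or.inr rfl
  nondeg x hx := by
    by_contra h0
    obtain ⟨z, hz⟩ := SympTransvection.exists_dot_ne h0
    exact hz (show SympGen.B z x = 0 by rw [B_swap, hx z, neg_zero])
  tr v := ⟨0, by rw [B_self]; simp⟩
  skew := ⟨1, one_ne_zero, by simp⟩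

/-- The action of the symplectic group. -/
noncomputable def spAct : Matrix.symplecticGroup (Fin m) F →* Module.End F (Fin m ⊕ Fin m → F) where
  toFun g := Matrix.mulVecLin g.1
  map_one' := LinearMap.ext fun x => Matrix.one_mulVec x
  map_mul' g k := LinearMap.ext fun x => (Matrix.mulVec_mulVec x g.1 k.1).symm

theorem spAct_apply (g : Sp) (x : Vec) : spAct g x = g.1 *ᵥ x := rfl

theorem mem_of_isometry (M : Matrix (Fin m ⊕ Fin m) (Fin m ⊕ Fin m) F)
    (hM : ∀ u v, SympGen.B (M *ᵥ u) (M *ᵥ v) = SympGen.B u v) : M ∈ Sp := by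
  rw [SymplecticGroup.mem_iff']
  ext a b
  have h := hM (Pi.single a 1) (Pi.single b 1)
  change M *ᵥ Pi.single a 1 ⬝ᵥ Matrix.J (Fin m) F *ᵥ (M *ᵥ Pi.single b 1) =
    Pi.single a 1 ⬝ᵥ Matrix.J (Fin m) F *ᵥ Pi.single b 1 at h
  rw [Matrix.mulVec_mulVec, ← Matrix.vecMul_transpose, ← dotProduct_mulVec, Matrix.mulVec_mulVec,
    single_one_dotProduct, single_one_dotProduct, Matrix.mulVec_single_one, Matrix.mulVec_single_one,
    ← Matrix.mul_assoc] at h
  simpa [Matrix.col_apply] using h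

/-- The geometry of the symplectic group. -/
noncomputable def spGeo (F : Type*) [Field F] (m : ℕ) :
    Geo F (Fin m ⊕ Fin m → F) (Matrix.symplecticGroup (Fin m) F) (Cfsg.PSp m F) where
  P := sympPolar F m
  act := spAct
  act_inj g k h := SympSimple.ext_apply fun x => LinearMap.congr_fun h x
  isom g x y := B_map g x y
  full L hL _ := by
    refine ⟨⟨LinearMap.toMatrix' L, mem_of_isometry _ fun u v => ?_⟩, LinearMap.ext fun x => ?_⟩
    · rw [LinearMap.toMatrix'_mulVec, LinearMap.toMatrix'_mulVec]; exact hL u v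
    · rw [spAct_apply]; exact LinearMap.toMatrix'_mulVec L x
  pr := QuotientGroup.mk' _
  surj := QuotientGroup.mk'_surjective _
  ker g := by
    rw [QuotientGroup.mk'_apply, QuotientGroup.eq_one_iff]
    constructor
    · intro hg
      obtain ⟨r, hr⟩ := SympTransvection.scalar_of_central g hg
      exact ⟨r, fun x => by rw [spAct_apply, hr]; simp [Matrix.scalar_apply]⟩
    · rintro ⟨c, hc⟩
      refine Subgroup.mem_center_iff.mpr fun k => SympSimple.ext_apply fun x => ?_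
      rw [SympGen.mul_apply, SympGen.mul_apply, ← spAct_apply g, ← spAct_apply g, hc, hc,
        Matrix.mulVec_smul]

theorem sp_quad (hm : 2 ≤ m) {e f : Vec} (H : (sympPolar F m).Hyp e f) :
    ∃ w₁ w₂, (sympPolar F m).Hyp w₁ w₂ ∧ (sympPolar F m).Perp e f w₁ ∧
      (sympPolar F m).Perp e f w₂ := by
  let L : Vec →ₗ[F] (Fin 2 → F) :=
    { toFun := fun x => ![SympGen.B x e, SympGen.B x f]
      map_add' := fun x y => by ext i; fin_cases i <;> simp [B_add_left]
      map_smul' := fun c x => by ext i; fin_cases i <;> simp [B_smul_left] }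
  obtain ⟨w, hw, hw0⟩ : ∃ w ∈ LinearMap.ker L, w ≠ 0 :=
    Submodule.exists_mem_ne_zero_of_ne_bot (LinearMap.ker_ne_bot_of_finrank_lt (by simp; omega))
  have hp : (sympPolar F m).Perp e f w :=
    ⟨congrFun (LinearMap.mem_ker.mp hw) 0, congrFun (LinearMap.mem_ker.mp hw) 1⟩
  obtain ⟨w', K, hw'⟩ := H.exists_hyp ⟨hw0, B_self w⟩ hp
  exact ⟨w, w', K, hp, hw'⟩

theorem sp_pair (hm : 1 ≤ m) : ∃ e f, (sympPolar F m).Hyp e f := by
  have h0 : (bas (Sum.inl ⟨0, hm⟩) : Vec) ≠ 0 := fun h => by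
    have := congrFun h (Sum.inl ⟨0, hm⟩)
    simp at this
  obtain ⟨f, H⟩ := (sympPolar F m).exists_hyp (e := bas (Sum.inl ⟨0, hm⟩)) ⟨h0, B_self _⟩
  exact ⟨_, f, H⟩

section CharTwo

variable [Fintype F]

theorem card_sp_succ (k : ℕ) : Nat.card (Matrix.symplecticGroup (Fin (k + 1)) F) =
    Nat.card (Matrix.symplecticGroup (Fin k) F) *
      (Fintype.card F ^ (2 * k + 1) * (Fintype.card F ^ (2 * (k + 1)) - 1)) := by
  rw [Cfsg.Agent.S0245.result rfl, Cfsg.Agent.S0245.result rfl, Finset.prod_range_succ,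
    show (k + 1) ^ 2 = k ^ 2 + (2 * k + 1) by ring, pow_add]
  ring

theorem card_sp_le (k : ℕ) :
    Nat.card (Matrix.symplecticGroup (Fin k) F) ≤ Fintype.card F ^ (k * (2 * k + 1)) := by
  induction k with
  | zero => rw [Cfsg.Agent.S0245.result rfl]; simp
  | succ k ih =>
    rw [card_sp_succ, show (k + 1) * (2 * (k + 1) + 1) = k * (2 * k + 1) + ((2 * k + 1) + 2 * (k + 1)) by
      ring, pow_add _ (k * (2 * k + 1)), pow_add _ (2 * k + 1)]
    exact Nat.mul_le_mul ih (Nat.mul_le_mul le_rfl (Nat.sub_le _ _))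

theorem le_card_sp (k : ℕ) :
    Fintype.card F ^ (k * (2 * k + 1)) ≤ Fintype.card F * Nat.card (Matrix.symplecticGroup (Fin k) F) := by
  set q := Fintype.card F with hq
  have hq2 : 2 ≤ q := Fintype.one_lt_card
  have key : ∀ k, 2 * q ^ (k * (2 * k + 1)) * q ^ (2 * k) + q ^ (k * (2 * k + 1)) ≤
      3 * Nat.card (Matrix.symplecticGroup (Fin k) F) * q ^ (2 * k) := by
    intro k
    induction k with
    | zero => rw [Cfsg.Agent.S0245.result hq.symm]; simp
    | succ k ih =>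
      rw [card_sp_succ, ← hq]
      set C := Nat.card (Matrix.symplecticGroup (Fin k) F) with hC
      set Q := q ^ (k * (2 * k + 1)) with hQ
      set a := q ^ (2 * k) with ha
      have ha1 : 1 ≤ a := Nat.one_le_pow _ _ (by omega)
      have e1 : q ^ (2 * k + 1) = a * q := by rw [ha, pow_succ]
      have e2 : q ^ (2 * (k + 1)) = a * (q * q) := by rw [ha]; ring
      have e3 : q ^ ((k + 1) * (2 * (k + 1) + 1)) = Q * (a * q * (a * (q * q))) := by
        rw [hQ, ha]; ring
      rw [e1, e2, e3]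
      obtain ⟨N, hN⟩ : ∃ N, a * (q * q) = N + 1 := ⟨a * (q * q) - 1, by
        have : 1 ≤ a * (q * q) := Nat.one_le_iff_ne_zero.mpr (by positivity)
        omega⟩
      rw [hN, Nat.add_sub_cancel]
      have hqq : 4 ≤ q * q := Nat.mul_le_mul hq2 hq2
      have h2 : (2 * Q * a + Q) * (N * (q * (N + 1))) ≤ 3 * C * a * (N * (q * (N + 1))) :=
        Nat.mul_le_mul_right _ ih
      have h3 : (2 * a + 1) * N ≥ 2 * a * (N + 1) + a := by nlinarith
      calc 2 * (Q * (a * q * (N + 1))) * (N + 1) + Q * (a * q * (N + 1))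
          = Q * q * (N + 1) * (2 * a * (N + 1) + a) := by ring
        _ ≤ Q * q * (N + 1) * ((2 * a + 1) * N) := Nat.mul_le_mul_left _ h3
        _ = (2 * Q * a + Q) * (N * (q * (N + 1))) := by ring
        _ ≤ 3 * C * a * (N * (q * (N + 1))) := h2
        _ = 3 * (C * (a * q * N)) * (N + 1) := by ring
  have h := key k
  have ha1 : 1 ≤ q ^ (2 * k) := Nat.one_le_pow _ _ (by omega)
  have h1 : 2 * q ^ (k * (2 * k + 1)) ≤ 3 * Nat.card (Matrix.symplecticGroup (Fin k) F) :=
    Nat.le_of_mul_le_mul_right ((Nat.le_add_right _ _).trans h) ha1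
  have h2 : 2 * Nat.card (Matrix.symplecticGroup (Fin k) F) ≤
      q * Nat.card (Matrix.symplecticGroup (Fin k) F) := Nat.mul_le_mul_right _ hq2
  omega

variable [CharP F 2]

theorem rk_eq_one_of_card (hm : 3 ≤ m) {t t₁ : Sp} (ht : t * t = 1) (h1 : t₁ * t₁ = 1)
    (hr : SympInv.rk t₁ = 1) (hne : t ≠ 1)
    (hcard : Nat.card (Subgroup.centralizer ({t} : Set Sp)) = Nat.card (Subgroup.centralizer ({t₁} : Set Sp))) :
    SympInv.rk t = 1 := by
  classical
  haveI : Finite F := inferInstance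
  set q := Fintype.card F with hq
  have hq2 : 2 ≤ q := Fintype.one_lt_card
  have hna : ¬ SympInv.Alt t₁ := fun h => by
    obtain ⟨r, hr', -⟩ := SympInv.rk_alt h1 h
    omega
  have hC1 : q ^ (2 * m * m - m) ≤ q * Nat.card (Subgroup.centralizer ({t₁} : Set Sp)) := by
    obtain ⟨hu, hsy, hd⟩ := SympInv.oddC_spec (F := F) 0
    rw [SympInv.card_centralizer h1 (SympInv.oddC F 0) hu hsy (by simp [hr])
      ⟨fun h => absurd h hna, fun h => absurd (h _) hd⟩, hr, SympInv.card_orth_odd,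
      Nat.card_eq_fintype_card (α := F), ← hq]
    have h0 : Nat.card (Matrix.symplecticGroup (Fin 0) F) = 1 := by
      rw [Cfsg.Agent.S0245.result hq.symm]; simp
    rw [h0, one_mul, show Nat.choose (1 + 1) 2 = 1 by decide]
    have := le_card_sp (F := F) (m - 1)
    rw [← hq] at this
    calc q ^ (2 * m * m - m) = q ^ (2 * (m - 1) * 1) * q ^ 1 * q ^ ((m - 1) * (2 * (m - 1) + 1)) := by
          rw [← pow_add, ← pow_add]
          congr 1
          obtain ⟨k, rfl⟩ : ∃ k, m = k + 1 := ⟨m - 1, by omega⟩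
          simp only [Nat.add_sub_cancel]
          have : 2 * (k + 1) * (k + 1) = 2 * k * 1 + 1 + k * (2 * k + 1) + (k + 1) := by ring
          omega
      _ ≤ q ^ (2 * (m - 1) * 1) * q ^ 1 * (q * Nat.card (Matrix.symplecticGroup (Fin (m - 1)) F)) :=
          Nat.mul_le_mul_left _ this
      _ = _ := by ring
  have hsm := SympInv.rk_le ht
  have hs0 : SympInv.rk t ≠ 0 := fun h => hne (SympInv.eq_one_of_rk h)
  set s := SympInv.rk t with hs
  obtain ⟨b, hb⟩ : ∃ b, m = b + s := ⟨m - s, by omega⟩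
  by_contra hs1
  have bound : ∀ (ι : Type) [Fintype ι] [DecidableEq ι] (C : Matrix ι ι F), IsUnit C.det → Cᵀ = C →
      s = Fintype.card ι → (SympInv.Alt t ↔ ∀ i, C i i = 0) → ∀ E, Nat.card (SympInv.Orth C) ≤ q ^ E →
      E + 2 * b * s + (s + 1).choose 2 + b * (2 * b + 1) + 2 ≤ 2 * m * m - m → False := by
    intro ι _ _ C hu hsy hsc halt E hE hexp
    have e := SympInv.card_centralizer ht C hu hsy hsc halt
    rw [Nat.card_eq_fintype_card (α := F), ← hq, ← hs, show m - s = b by omega] at e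
    have h2 := card_sp_le (F := F) b
    rw [← hq] at h2
    have h3 : Nat.card (Subgroup.centralizer ({t} : Set Sp)) ≤
        q ^ (E + 2 * b * s + (s + 1).choose 2 + b * (2 * b + 1)) := by
      rw [e, pow_add, pow_add, pow_add]
      exact Nat.mul_le_mul (Nat.mul_le_mul (Nat.mul_le_mul hE le_rfl) le_rfl) h2
    have h4 : q * Nat.card (Subgroup.centralizer ({t} : Set Sp)) ≤
        q ^ (E + 2 * b * s + (s + 1).choose 2 + b * (2 * b + 1) + 1) := by
      rw [pow_succ', ]
      exact Nat.mul_le_mul_left _ h3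
    have h5 : q ^ (E + 2 * b * s + (s + 1).choose 2 + b * (2 * b + 1) + 1) < q ^ (2 * m * m - m) :=
      Nat.pow_lt_pow_right hq2 (by omega)
    rw [hcard] at h4
    omega
  have hch : ∀ r, (2 * r + 1 + 1).choose 2 = (r + 1) * (2 * r + 1) ∧ (2 * r + 1).choose 2 = r * (2 * r + 1) ∧
      (2 * r + 2 + 1).choose 2 = (r + 1) * (2 * r + 3) := by
    intro r
    refine ⟨?_, ?_, ?_⟩ <;> rw [Nat.choose_two_right]
    · rw [show (2 * r + 1 + 1) * (2 * r + 1 + 1 - 1) = (r + 1) * (2 * r + 1) * 2 by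
        rw [Nat.add_sub_cancel]; ring, Nat.mul_div_cancel _ (by norm_num)]
    · rw [show (2 * r + 1) * (2 * r + 1 - 1) = r * (2 * r + 1) * 2 by
        rw [Nat.add_sub_cancel]; ring, Nat.mul_div_cancel _ (by norm_num)]
    · rw [show (2 * r + 2 + 1) * (2 * r + 2 + 1 - 1) = (r + 1) * (2 * r + 3) * 2 by
        rw [Nat.add_sub_cancel]; ring, Nat.mul_div_cancel _ (by norm_num)]
  by_cases halt : SympInv.Alt t
  · obtain ⟨r, hr2, -⟩ := SympInv.rk_alt ht halt
    refine bound _ (Matrix.J (Fin r) F) (Matrix.isUnit_det_J _ _) (SympInv.J_symm r)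
      (by simp; omega) ⟨fun _ => SympInv.J_diag r, fun _ => halt⟩ (r * (2 * r + 1))
      (by rw [SympInv.card_orth_J]; exact card_sp_le r) ?_
    have hs2 : s = 2 * r := by omega
    rw [hs2, (hch r).2.1]
    have hm' : 3 ≤ b + 2 * r := by omega
    rw [show m = b + 2 * r by omega]
    obtain ⟨r', rfl⟩ : ∃ r', r = r' + 1 := ⟨r - 1, by omega⟩
    rcases Nat.eq_zero_or_pos r' with rfl | hr'
    · rcases Nat.eq_zero_or_pos b with rfl | hb0
      · simp at hm'
      · obtain ⟨b', rfl⟩ : ∃ b', b = b' + 1 := ⟨b - 1, by omega⟩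
        apply Nat.le_sub_of_add_le; nlinarith
    · obtain ⟨r'', rfl⟩ : ∃ r'', r' = r'' + 1 := ⟨r' - 1, by omega⟩
      apply Nat.le_sub_of_add_le; nlinarith
  · rcases Nat.even_or_odd s with ⟨r₀, hr₀⟩ | ⟨r, hr₀⟩
    · obtain ⟨r, rfl⟩ : ∃ r, r₀ = r + 1 := ⟨r₀ - 1, by omega⟩
      obtain ⟨hu, hsy, hd⟩ := SympInv.evenC_spec (F := F) r
      have hs2 : s = 2 * r + 2 := by omega
      refine bound _ (SympInv.evenC F r) hu hsy
        (by simp; omega) ⟨fun h => absurd h halt, fun h => absurd (h _) hd⟩ (r * (2 * r + 1) + (2 * r + 1))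
        (by
          rw [SympInv.card_orth_even, Nat.card_eq_fintype_card (α := F), ← hq]
          have := card_sp_le (F := F) r
          rw [← hq] at this
          rw [pow_add _ (r * (2 * r + 1))]
          first
          | exact Nat.mul_le_mul this le_rfl
          | (rw [mul_comm]; exact Nat.mul_le_mul this le_rfl)) ?_
      rw [hs2, (hch r).2.2, show m = b + (2 * r + 2) by omega]
      apply Nat.le_sub_of_add_le; nlinarith
    · obtain ⟨hu, hsy, hd⟩ := SympInv.oddC_spec (F := F) r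
      obtain ⟨r', rfl⟩ : ∃ r', r = r' + 1 := ⟨r - 1, by omega⟩
      refine bound _ (SympInv.oddC F (r' + 1)) hu hsy
        (by simp; omega) ⟨fun h => absurd h halt, fun h => absurd (h _) hd⟩ ((r' + 1) * (2 * (r' + 1) + 1))
        (by rw [SympInv.card_orth_odd]; exact card_sp_le _) ?_
      rw [hr₀, (hch (r' + 1)).1, show m = b + (2 * (r' + 1) + 1) by omega]
      apply Nat.le_sub_of_add_le; nlinarith

theorem N_tv_range (u : Vec) (c : F) (x : Vec) : SympInv.N (tv u c) x = (c * SympGen.B x u) • u := by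
  rw [SympInv.N_apply, SympGen.tv_apply, add_right_comm, SympInv.vec_self, zero_add]

theorem tv_sq (u : Vec) : tv u (1 : F) * tv u 1 = 1 := by
  rw [SympGen.tv_add, CharTwo.add_self_eq_zero, SympSimple.tv_zero]

theorem rk_tv {u : Vec} (hu : u ≠ 0) : SympInv.rk (tv u (1 : F)) = 1 := by
  rw [SympInv.rk_eq, show LinearMap.range (SympInv.N (tv u (1 : F))) = Submodule.span F {u} from ?_,
    finrank_span_singleton hu]
  refine le_antisymm ?_ (Submodule.span_le.mpr ?_)
  · rintro - ⟨x, rfl⟩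
    rw [N_tv_range]
    exact Submodule.smul_mem _ _ (Submodule.mem_span_singleton_self u)
  · intro v hv
    rw [Set.mem_singleton_iff.mp hv]
    obtain ⟨z, hz⟩ := SympTransvection.exists_dot_ne hu
    refine ⟨(SympGen.B z u)⁻¹ • z, ?_⟩
    rw [N_tv_range, B_smul_left, one_mul, inv_mul_cancel₀ hz, one_smul]

theorem pr_injective (hm : 1 ≤ m) : Function.Injective (spGeo F m).pr := by
  rw [injective_iff_map_eq_one]
  intro g hg
  obtain ⟨c, hc⟩ := ((spGeo F m).ker g).mp hg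
  refine SympSimple.ext_apply fun x => ?_
  have hc1 : c = 1 := by
    obtain ⟨e, f, H⟩ := sp_pair (F := F) (m := m) hm
    have h : SympGen.B (spAct g e) (spAct g f) = SympGen.B e f := B_map g e f
    rw [show spAct g e = c • e from hc e, show spAct g f = c • f from hc f, B_smul_left, B_smul_right,
      show SympGen.B e f = 1 from H.ef, mul_one] at h
    have h2 : (c - 1) ^ 2 = 0 := by
      rw [CharTwo.sub_eq_add, CharTwo.add_sq, one_pow, sq, h, CharTwo.add_self_eq_zero]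
    exact sub_eq_zero.mp (pow_eq_zero_iff (two_ne_zero) |>.mp h2)
  rw [← spAct_apply, show spAct g x = c • x from hc x, hc1, one_smul, SympGen.one_apply]

theorem tperm_of_himg (hm : 1 ≤ m) (φ : MulAut (Cfsg.PSp m F))
    (h1 : ∀ u : Vec, u ≠ 0 → ∃ u', u' ≠ 0 ∧ φ ((spGeo F m).pr (tv u 1)) = (spGeo F m).pr (tv u' 1))
    (h2 : ∀ u : Vec, u ≠ 0 → ∃ u', u' ≠ 0 ∧ φ.symm ((spGeo F m).pr (tv u 1)) = (spGeo F m).pr (tv u' 1)) :
    TPerm (spGeo F m) φ := by
  have hpr := pr_injective (F := F) hm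
  -- the lift of `φ`
  have hbij : Function.Bijective (spGeo F m).pr := ⟨hpr, (spGeo F m).surj⟩
  let ψ : MulAut Sp := ((MulEquiv.ofBijective (spGeo F m).pr hbij).trans φ).trans
    (MulEquiv.ofBijective (spGeo F m).pr hbij).symm
  have hψ : ∀ g, (spGeo F m).pr (ψ g) = φ ((spGeo F m).pr g) := fun g =>
    MulEquiv.apply_symm_apply (MulEquiv.ofBijective (spGeo F m).pr hbij) _
  have g1 : ∀ u : Vec, u ≠ 0 → ∃ u', u' ≠ 0 ∧ ψ (tv u 1) = tv u' 1 := fun u hu => by
    obtain ⟨u', hu', e⟩ := h1 u hu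
    exact ⟨u', hu', hpr ((hψ _).trans e)⟩
  have g2 : ∀ u : Vec, u ≠ 0 → ∃ u', u' ≠ 0 ∧ ψ.symm (tv u 1) = tv u' 1 := fun u hu => by
    obtain ⟨u', hu', e⟩ := h2 u hu
    refine ⟨u', hu', (MulEquiv.symm_apply_eq ψ).mpr (hpr ?_)⟩
    rw [hψ, ← e, MulEquiv.apply_symm_apply]
  have prod_par : ∀ (a b : Vec), a ≠ 0 → b ≠ 0 → ∀ d : Vec,
      (∀ x, SympInv.N (tv a (1 : F) * tv b 1) x ∈ Submodule.span F ({d} : Set Vec)) →
      Par (F := F) a b := by
    intro a b ha hb d hd
    by_contra hab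
    have hex : ∀ a b : Vec, b ≠ 0 → (¬ ∃ t : F, a = t • b) →
        ∃ z, SympGen.B z a = 1 ∧ SympGen.B z b = 0 := by
      intro a b hb h
      obtain ⟨w, hw⟩ := SympTransvection.exists_dot_ne hb
      obtain ⟨z, hz⟩ := SympTransvection.exists_dot_ne (u := a - (SympGen.B w a / SympGen.B w b) • b)
        (fun h0 => h ⟨_, sub_eq_zero.mp h0⟩)
      set z' := z - (SympGen.B z b / SympGen.B w b) • w with hz'
      have hwb : SympGen.B w b ≠ 0 := hw
      have h1 : SympGen.B z' b = 0 := by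
        rw [hz', B_sub_left, B_smul_left, div_mul_cancel₀ _ hwb, sub_self]
      have h2 : SympGen.B z' a ≠ 0 := by
        intro h0
        apply hz
        show SympGen.B z (a - (SympGen.B w a / SympGen.B w b) • b) = 0
        rw [B_sub_right, B_smul_right]
        rw [hz', B_sub_left, B_smul_left] at h0
        linear_combination h0
      exact ⟨(SympGen.B z' a)⁻¹ • z', by rw [B_smul_left, inv_mul_cancel₀ h2],
        by rw [B_smul_left, h1, mul_zero]⟩
    have hN : ∀ x, SympInv.N (tv a (1 : F) * tv b 1) x =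
        SympGen.B x b • b + (SympGen.B x a + SympGen.B x b * SympGen.B b a) • a := by
      intro x
      rw [SympInv.N_apply, SympGen.mul_apply, SympGen.tv_apply, SympGen.tv_apply, B_add_left, B_smul_left]
      simp only [one_mul]
      rw [show x + SympGen.B x b • b + (SympGen.B x a + SympGen.B x b * SympGen.B b a) • a + x =
        (x + x) + (SympGen.B x b • b + (SympGen.B x a + SympGen.B x b * SympGen.B b a) • a) by abel,
        SympInv.vec_self, zero_add]
    have nab : ¬ ∃ t : F, a = t • b := fun ⟨t, ht⟩ => hab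
      (Par.symm ⟨t, fun h => ha (by rw [ht, h, zero_smul]), ht⟩)
    have nba : ¬ ∃ t : F, b = t • a := fun ⟨t, ht⟩ => hab
      ⟨t, fun h => hb (by rw [ht, h, zero_smul]), ht⟩
    obtain ⟨z, hza, hzb⟩ := hex a b hb nab
    obtain ⟨w, hwb, hwa⟩ := hex b a ha nba
    have ma : a ∈ Submodule.span F ({d} : Set Vec) := by
      have := hd z; rwa [hN, hzb, hza, zero_mul, add_zero, zero_smul, one_smul, zero_add] at this
    have mb : b ∈ Submodule.span F ({d} : Set Vec) := by
      have := hd w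
      rw [hN, hwb, hwa, zero_add, one_mul, one_smul] at this
      exact (Submodule.add_mem_iff_left _ (Submodule.smul_mem _ _ ma)).mp this
    obtain ⟨ca, hca⟩ := Submodule.mem_span_singleton.mp ma
    obtain ⟨cb, hcb⟩ := Submodule.mem_span_singleton.mp mb
    have hca0 : ca ≠ 0 := fun h => ha (by rw [← hca, h, zero_smul])
    exact nba ⟨cb / ca, by rw [← hcb, ← hca, smul_smul, div_mul_cancel₀ _ hca0]⟩
  -- transvection groups in terms of the canonical transvections
  have memTg : ∀ (u : Vec) (y : Cfsg.PSp m F), y ∈ (spGeo F m).Tg u ↔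
      ∃ c : F, y = (spGeo F m).pr (tv u c) := by
    intro u y
    have e : ∀ c : F, (spGeo F m).act (tv u c) = (spGeo F m).P.uMap u 0 c := fun c =>
      LinearMap.ext fun x => by
        show (tv u c).1 *ᵥ x = _
        rw [SympGen.tv_apply, (spGeo F m).t_apply]
        show x + (c * SympGen.B x u) • u = x + (-1 * SympGen.B x u * c) • u
        rw [neg_one_mul, CharTwo.neg_eq, mul_comm]
    constructor
    · rintro ⟨g, s, -, hg, rfl⟩
      exact ⟨s, by rw [(spGeo F m).act_inj (hg.trans (e s).symm)]⟩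
    · rintro ⟨c, rfl⟩
      exact ⟨_, c, by simp [Polar.Valid, spGeo, sympPolar], e c, rfl⟩
  have line : ∀ (χ : MulAut Sp), (∀ u : Vec, u ≠ 0 → ∃ u', u' ≠ 0 ∧ χ (tv u 1) = tv u' 1) →
      ∀ (u u' : Vec), u ≠ 0 → u' ≠ 0 → χ (tv u 1) = tv u' 1 → ∀ c : F, ∃ c' : F, χ (tv u c) = tv u' c' := by
    intro χ himg u u' hu hu' h c
    obtain ⟨a, ha⟩ := SympInv.exists_sqrt c
    rcases eq_or_ne a 0 with rfl | ha0
    · exact ⟨0, by rw [← ha, zero_pow two_ne_zero, SympSimple.tv_zero, SympSimple.tv_zero, map_one]⟩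
    have hau : tv u c = tv (a • u) 1 := by rw [SympGen.tv_smul, mul_one, ha]
    obtain ⟨v, hv, hχ⟩ := himg (a • u) (smul_ne_zero ha0 hu)
    have hpar : Par (F := F) u' v := by
      rcases eq_or_ne (c + 1) 0 with h0 | h0
      · have hc : c = 1 := by
          rw [← CharTwo.neg_eq (1 : F)]
          exact eq_neg_of_add_eq_zero_left h0
        refine prod_par u' v hu' hv 0 fun x => ?_
        rw [← hχ, ← h, ← map_mul, ← hau, SympGen.tv_add, hc, CharTwo.add_self_eq_zero,
          SympSimple.tv_zero, map_one, SympInv.N_apply, SympGen.one_apply, SympInv.vec_self]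
        exact zero_mem _
      · obtain ⟨a', ha'⟩ := SympInv.exists_sqrt (1 + c)
        have ha'0 : a' ≠ 0 := fun h => h0 (by rw [add_comm, ← ha', h, zero_pow two_ne_zero])
        obtain ⟨w, -, hw⟩ := himg (a' • u) (smul_ne_zero ha'0 hu)
        refine prod_par u' v hu' hv w fun x => ?_
        rw [← hχ, ← h, ← map_mul, ← hau, SympGen.tv_add, ← ha',
          show tv u (a' ^ 2) = tv (a' • u) 1 by rw [SympGen.tv_smul, mul_one], hw, N_tv_range]
        exact Submodule.smul_mem _ _ (Submodule.mem_span_singleton_self w)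
    obtain ⟨d, -, hd⟩ := hpar
    exact ⟨d ^ 2, by rw [hau, hχ, hd, SympGen.tv_smul, mul_one]⟩
  intro u hu
  obtain ⟨u', hu', h⟩ := g1 u hu.1
  refine ⟨u', ⟨hu', B_self u'⟩, Set.Subset.antisymm ?_ fun y hy => ?_⟩
  · rintro - ⟨y, hy, rfl⟩
    obtain ⟨c, rfl⟩ := (memTg u y).mp hy
    obtain ⟨c', hc'⟩ := line ψ g1 u u' hu.1 hu' h c
    rw [← hψ, hc']
    exact (memTg u' _).mpr ⟨c', rfl⟩
  · obtain ⟨c, rfl⟩ := (memTg u' y).mp hy
    obtain ⟨c', hc'⟩ := line ψ.symm g2 u' u hu' hu.1 (by rw [← h, MulEquiv.symm_apply_apply]) c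
    refine ⟨_, (memTg u _).mpr ⟨c', rfl⟩, ?_⟩
    rw [← hψ, ← hc', MulEquiv.apply_symm_apply]


theorem tperm_char_two (hm : 3 ≤ m) (φ : MulAut (Cfsg.PSp m F)) : TPerm (spGeo F m) φ := by
  have hpr := pr_injective (F := F) (m := m) (by omega)
  -- the lift of `φ`
  have hbij : Function.Bijective (spGeo F m).pr := ⟨hpr, (spGeo F m).surj⟩
  let ψ : MulAut Sp := ((MulEquiv.ofBijective (spGeo F m).pr hbij).trans φ).trans
    (MulEquiv.ofBijective (spGeo F m).pr hbij).symm
  have hψ : ∀ g, (spGeo F m).pr (ψ g) = φ ((spGeo F m).pr g) := fun g =>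
    MulEquiv.apply_symm_apply (MulEquiv.ofBijective (spGeo F m).pr hbij) _
  have himg : ∀ (χ : MulAut Sp) (u : Vec), u ≠ 0 → ∃ u', u' ≠ 0 ∧ χ (tv u 1) = tv u' 1 := by
    intro χ u hu
    have hsq : χ (tv u 1) * χ (tv u 1) = 1 := by rw [← map_mul, tv_sq, map_one]
    have hne : χ (tv u 1) ≠ 1 := fun h => by
      rw [EmbeddingLike.map_eq_one_iff] at h
      have := rk_tv hu
      rw [h, SympInv.rk_one] at this
      omega
    have hcard : Nat.card (Subgroup.centralizer ({χ (tv u 1)} : Set Sp)) =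
        Nat.card (Subgroup.centralizer ({tv u 1} : Set Sp)) := by
      refine (Nat.card_congr (χ.toEquiv.subtypeEquiv fun g => ?_)).symm
      rw [Subgroup.mem_centralizer_singleton_iff, Subgroup.mem_centralizer_singleton_iff]
      show _ ↔ χ g * χ (tv u 1) = χ (tv u 1) * χ g
      rw [← map_mul, ← map_mul, EmbeddingLike.apply_eq_iff_eq]
    have hr := rk_eq_one_of_card hm hsq (tv_sq u) (rk_tv hu) hne hcard
    have hna : ∀ t : Sp, t * t = 1 → SympInv.rk t = 1 → ¬ SympInv.Alt t := fun t ht h1 h => by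
      obtain ⟨r, hr', -⟩ := SympInv.rk_alt ht h
      omega
    obtain ⟨g, hg⟩ := _root_.isConj_iff.mp ((SympInv.isConj_iff (tv_sq u) hsq).mpr
      ⟨(rk_tv hu).trans hr.symm, iff_of_false (hna _ (tv_sq u) (rk_tv hu)) (hna _ hsq hr)⟩)
    refine ⟨g.1 *ᵥ u, fun h => hu ?_, by rw [← hg, SympGen.conj_tv]⟩
    have := congrArg (fun x => (g⁻¹).1 *ᵥ x) h
    simpa only [← SympGen.mul_apply, inv_mul_cancel, SympGen.one_apply, Matrix.mulVec_zero] using this
  refine tperm_of_himg (by omega) φ (fun u hu => ?_) fun u hu => ?_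
  · obtain ⟨u', hu', e⟩ := himg ψ u hu
    exact ⟨u', hu', by rw [← hψ, e]⟩
  · obtain ⟨u', hu', e⟩ := himg ψ.symm u hu
    refine ⟨u', hu', (MulEquiv.symm_apply_eq φ).mpr ?_⟩
    rw [← hψ, ← e, MulEquiv.apply_symm_apply]

theorem tperm_of_fix (hm : 1 ≤ m) (φ : MulAut (Cfsg.PSp m F)) {u₀ : Vec} (hu₀ : u₀ ≠ 0)
    (hfix : φ ((spGeo F m).pr (tv u₀ 1)) = (spGeo F m).pr (tv u₀ 1)) : TPerm (spGeo F m) φ := by
  have key : ∀ χ : MulAut (Cfsg.PSp m F), χ ((spGeo F m).pr (tv u₀ 1)) = (spGeo F m).pr (tv u₀ 1) →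
      ∀ u : Vec, u ≠ 0 → ∃ u', u' ≠ 0 ∧ χ ((spGeo F m).pr (tv u 1)) = (spGeo F m).pr (tv u' 1) := by
    intro χ hχ u hu
    obtain ⟨g, hg⟩ := SympTransvection.transitive hu₀ hu
    obtain ⟨k, hk⟩ := (spGeo F m).surj (χ ((spGeo F m).pr g))
    refine ⟨k.1 *ᵥ u₀, SympSimple.mulVec_ne_zero k hu₀, ?_⟩
    rw [← hg, ← SympGen.conj_tv, ← SympGen.conj_tv]
    simp only [map_mul, map_inv, hχ, ← hk]
  exact tperm_of_himg hm φ (key φ hfix) (key φ.symm ((MulEquiv.symm_apply_eq φ).mpr hfix.symm))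

end CharTwo

theorem sp_nolin (h2 : (2 : F) ≠ 0) (t : F) (h : ∀ c, (RingHom.id F) (c * t) = (-1 : F) * (c * t)) :
    t = 0 := by
  have e := h 1
  simp only [RingHom.id_apply, one_mul] at e
  exact (mul_eq_zero.mp (show (2 : F) * t = 0 by linear_combination e)).resolve_left h2

theorem psp_semilinear_of_tperm [Fintype F] (hm : 2 ≤ m) (β : MulAut (Cfsg.PSp m F))
    (ht : TPerm (spGeo F m) β) :
    ∃ (g : GL (Fin m ⊕ Fin m) F) (σ : F ≃+* F), g ∈ Cfsg.GSp m F ∧ Cfsg.IsInducedBySemilinearPSp g σ β := by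
  obtain ⟨e, f, H⟩ := sp_pair (F := F) (m := m) (by omega)
  obtain ⟨w₁, w₂, K, k1, k2⟩ := sp_quad hm H
  obtain ⟨T, σ, μ, hμ0, -, Tadd, Tsmul, Tbij, Th, Tequiv⟩ :=
    exists_similitude_of_tperm (spGeo F m) β ht H K k1 k2
  obtain ⟨g, hg⟩ := exists_matrix σ Tadd Tsmul Tbij
  have hform : ∀ u v : Fin m ⊕ Fin m → F, SympGen.B (fun i => σ (u i)) (fun i => σ (v i)) = σ (SympGen.B u v) := by
    intro u v
    rw [SympGen.B, SympGen.B, ← RingEquiv.coe_toRingHom, RingHom.map_dotProduct]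
    congr 1
    funext i
    refine Eq.trans ?_ (RingHom.map_mulVec σ.toRingHom (Matrix.J (Fin m) F) v i).symm
    congr 2
    ext a b
    rcases a with a | a <;> rcases b with b | b <;> simp [Matrix.J, Matrix.one_apply, apply_ite]
  refine ⟨g, σ, ⟨Units.mk0 μ hμ0, fun u v => ?_⟩, fun s s' hs => ?_⟩
  · obtain ⟨u', rfl⟩ : ∃ u', u = fun i => σ (u' i) := ⟨fun i => σ.symm (u i), by funext i; simp⟩
    obtain ⟨v', rfl⟩ : ∃ v', v = fun i => σ (v' i) := ⟨fun i => σ.symm (v i), by funext i; simp⟩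
    show SympGen.B (g.1 *ᵥ fun i => σ (u' i)) (g.1 *ᵥ fun i => σ (v' i)) = μ * SympGen.B _ _
    rw [← hg, ← hg, hform]
    exact Th u' v'
  · obtain ⟨k, hk⟩ := (spGeo F m).surj (β ((spGeo F m).pr s))
    obtain ⟨c, hc⟩ := Tequiv s k hk.symm
    show β ((spGeo F m).pr s) = (spGeo F m).pr s'
    rw [← hk, (spGeo F m).pr_eq_iff]
    refine ⟨c, fun x => ?_⟩
    obtain ⟨y, rfl⟩ := Tbij.2 x
    rw [hc]
    congr 1
    show T (s.1 *ᵥ y) = s'.1 *ᵥ T y
    rw [hg, hg, hs,
      show (fun i => σ ((s.1 *ᵥ y) i)) = s.1.map σ *ᵥ (fun i => σ (y i)) from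
        funext fun i => RingHom.map_mulVec σ.toRingHom s.1 y i]
    rw [mulVec_mulVec, mulVec_mulVec, Matrix.mul_assoc (g.1 * s.1.map σ), Units.inv_mul, Matrix.mul_one]

/-- Every automorphism of `PSp_2m(q)` is induced by a semilinear symplectic similitude
(`(2m, p) ≠ (4, 2)`). -/
theorem psp_semilinear [Fintype F] (hm : 2 ≤ m) (h4 : m = 2 → (2 : F) ≠ 0)
    (β : MulAut (Cfsg.PSp m F)) :
    ∃ (g : GL (Fin m ⊕ Fin m) F) (σ : F ≃+* F), g ∈ Cfsg.GSp m F ∧ Cfsg.IsInducedBySemilinearPSp g σ β := by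
  obtain ⟨e, f, H⟩ := sp_pair (F := F) (m := m) (by omega)
  have ht : TPerm (spGeo F m) β := by
    by_cases h2 : (2 : F) = 0
    · haveI : CharP F 2 := by
        rw [← (Nat.prime_dvd_prime_iff_eq (CharP.char_is_prime F (ringChar F)) Nat.prime_two).mp
          (ringChar.dvd (by exact_mod_cast h2))]
        infer_instance
      refine tperm_char_two ?_ β
      rcases Nat.lt_or_ge m 3 with h | h
      · exact absurd h2 (h4 (by omega))
      · exact h
    · exact tperm_of_nolin (spGeo F m) β (sp_nolin h2) (e₁ := e) (f₁ := f) H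
  exact psp_semilinear_of_tperm hm β ht

end CfsgLib.PolarAut
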