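import Cfsg.Agent.Lib.PolarAut.SpBasic
import Cfsg.Agent.Lib.PolarAut.Symplectic
import Cfsg.Agent.Lib.PolarAut.PSUOut
import Cfsg.Agent.Lib.Chev.SympB2Iso
import Cfsg.Agent.Lib.Chev.Aut.OutB2Cyclic

/-!
The outer automorphism group of `PSp_2m(q)`.
-/

set_option autoImplicit false

namespace CfsgLib.PSpAut

open Matrix CfsgLib.SympGen
open scoped MatrixGroups

variable {F : Type*} [Field F] {m : ℕ}

local notation "ι" => (Fin m ⊕ Fin m)
local notation "Sp" => Matrix.symplecticGroup (Fin m) F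
local notation "GS" => Cfsg.GSp m F
local notation "Jm" => Matrix.J (Fin m) F
local notation "A" => MulAut (Cfsg.PSp m F)

theorem smulJ_inj (hm : 1 ≤ m) {c d : F} (h : c • Jm = d • Jm) : c = d := by
  have e : (c - d) • Jm = 0 := by rw [sub_smul, h, sub_self]
  exact sub_eq_zero.mp ((smul_eq_zero.mp e).resolve_right (J_ne_zero hm))

/-- The multiplier of a similitude. -/
noncomputable def mult (hm : 1 ≤ m) : ↥(GS) →* Fˣ where
  toFun x := (mem_GS.mp x.2).choose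
  map_one' := by
    have h := (mem_GS.mp (1 : ↥(GS)).2).choose_spec
    refine Units.ext (smulJ_inj hm ?_)
    rw [← h]
    simp
  map_mul' x y := by
    have h := (mem_GS.mp (x * y).2).choose_spec
    refine Units.ext (smulJ_inj hm ?_)
    rw [← h, Units.val_mul, ← smul_smul, ← (mem_GS.mp y.2).choose_spec, ← Matrix.smul_mul, ← Matrix.mul_smul,
      ← (mem_GS.mp x.2).choose_spec]
    show (x.1.1 * y.1.1)ᵀ * Jm * (x.1.1 * y.1.1) = _
    simp only [transpose_mul, Matrix.mul_assoc]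

theorem mult_spec (hm : 1 ≤ m) (x : ↥(GS)) : x.1.1ᵀ * Jm * x.1.1 = (mult hm x : F) • Jm :=
  (mem_GS.mp x.2).choose_spec

theorem mult_eq (hm : 1 ≤ m) {x : ↥(GS)} {c : Fˣ} (h : x.1.1ᵀ * Jm * x.1.1 = (c : F) • Jm) :
    mult hm x = c :=
  Units.ext (smulJ_inj hm ((mult_spec hm x).symm.trans h))

theorem mult_surj (hm : 1 ≤ m) : Function.Surjective (mult (F := F) hm) := fun c => by
  let M : Matrix ι ι F := fromBlocks ((c : F) • 1) 0 0 1
  have hM : Mᵀ * Jm * M = (c : F) • Jm := by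
    simp only [M, Matrix.J, fromBlocks_transpose, fromBlocks_multiply, fromBlocks_smul]
    simp
  have hd : M.det ≠ 0 := by simp [M, det_fromBlocks_zero₂₁, c.ne_zero]
  exact ⟨⟨GeneralLinearGroup.mkOfDetNeZero M hd, mem_GS.mpr ⟨c, hM⟩⟩, mult_eq hm hM⟩

/-- A scalar similitude. -/
def scalS (u : Fˣ) : ↥(GS) :=
  ⟨GeneralLinearGroup.scalar ι u, ⟨u * u, fun v w => by
    have e : (GeneralLinearGroup.scalar ι u).1 = (u : F) • (1 : Matrix ι ι F) := by
      show Matrix.scalar ι (u : F) = _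
      rw [Matrix.scalar_apply, Matrix.smul_one_eq_diagonal]
    show B _ _ = _ * B v w
    rw [e, smul_mulVec, one_mulVec, smul_mulVec, one_mulVec, B_smul_left, B_smul_right, Units.val_mul, mul_assoc]⟩⟩

theorem scalS_val (u : Fˣ) : (scalS (m := m) u).1.1 = (u : F) • (1 : Matrix ι ι F) := by
  show Matrix.scalar ι (u : F) = _
  rw [Matrix.scalar_apply, Matrix.smul_one_eq_diagonal]

theorem conjS_scalS (u : Fˣ) : conjS (scalS (m := m) u) = 1 := by
  refine MulEquiv.ext fun a => QuotientGroup.induction_on a fun s => ?_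
  rw [conjS_mk, MulAut.one_apply]
  congr 1
  refine Subtype.ext ?_
  show (scalS u).1.1 * s.1 * ((scalS u).1⁻¹).1 = s.1
  rw [scalS_val, Matrix.smul_mul, Matrix.one_mul, Matrix.smul_mul, ← Matrix.mul_smul]
  have e : (u : F) • ((scalS (m := m) u).1⁻¹).1 = 1 := by
    rw [← Matrix.one_mul ((scalS (m := m) u).1⁻¹).1, ← Matrix.smul_mul, ← scalS_val, Units.mul_inv]
  rw [e, Matrix.mul_one]

theorem conjS_eq_iff [Fintype F] (hm : 2 ≤ m) (h22 : m = 2 → 3 ≤ Fintype.card F) (x y : ↥(GS)) :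
    conjS x = conjS y ↔ ∃ u : Fˣ, x.1.1 = (u : F) • y.1.1 := by
  constructor
  · intro h
    obtain ⟨-, μ, hμ0, hμ⟩ := conj_field_one hm h22 (x * y⁻¹) 1
      (by rw [map_one, mul_one, map_mul, map_inv, h, mul_inv_cancel])
    refine ⟨Units.mk0 μ hμ0, ?_⟩
    rw [Units.val_mk0, ← Matrix.one_mul y.1.1, ← Matrix.smul_mul, ← hμ]
    exact (congrArg Units.val (inv_mul_cancel_right x.1 y.1)).symm
  · rintro ⟨u, hu⟩
    have e : x = scalS u * y := Subtype.ext (Units.ext (by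
      rw [hu]; show _ = (scalS u).1.1 * y.1.1
      rw [scalS_val, Matrix.smul_mul, Matrix.one_mul]))
    rw [e, map_mul, conjS_scalS, one_mul]

/-- The similitude of a symplectic matrix. -/
noncomputable def ofSp (s : Sp) : ↥(GS) :=
  ⟨GeneralLinearGroup.mkOfDetNeZero s.1 (fun h => by
    have := congrArg Matrix.det (sp_iff.mp s.2)
    rw [det_mul, det_mul, det_transpose, h] at this
    simp at this
    exact det_J_ne (F := F) (m := m) this.symm), mem_GS.mpr ⟨1, by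
      rw [Units.val_one, one_smul]; exact sp_iff.mp s.2⟩⟩

theorem ofSp_val (s : Sp) : (ofSp s).1.1 = s.1 := rfl

theorem conjS_ofSp (s : Sp) : conjS (ofSp s) = MulAut.conj (QuotientGroup.mk s : Cfsg.PSp m F) := by
  refine MulEquiv.ext fun a => QuotientGroup.induction_on a fun t => ?_
  rw [conjS_mk, MulAut.conj_apply]
  show _ = (QuotientGroup.mk (s * t * s⁻¹) : Cfsg.PSp m F)
  congr 1
  refine Subtype.ext ?_
  show (ofSp s).1.1 * t.1 * ((ofSp s).1⁻¹).1 = s.1 * t.1 * (s⁻¹).1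
  have e : ((ofSp s).1⁻¹).1 = (s⁻¹).1 := by
    refine Units.inv_eq_of_mul_eq_one_right ?_
    show s.1 * (s⁻¹).1 = 1
    exact congrArg Subtype.val (mul_inv_cancel s)
  rw [e]
  rfl

theorem inn_le_inndiag : Cfsg.Inn (Cfsg.PSp m F) ≤ Cfsg.inndiagPSp m F := by
  rintro _ ⟨a, rfl⟩
  obtain ⟨s, rfl⟩ := QuotientGroup.mk_surjective a
  rw [inndiag_eq]
  exact ⟨ofSp s, conjS_ofSp s⟩

variable [Fintype F]

theorem comap_inn (hm : 2 ≤ m) (h22 : m = 2 → 3 ≤ Fintype.card F) :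
    (Cfsg.Inn (Cfsg.PSp m F)).comap conjS =
      (powMonoidHom 2 : Fˣ →* Fˣ).range.comap (mult (by omega)) := by
  apply le_antisymm
  · intro x hx
    obtain ⟨a, ha⟩ := Subgroup.mem_comap.mp hx
    obtain ⟨s, rfl⟩ := QuotientGroup.mk_surjective a
    rw [← conjS_ofSp] at ha
    obtain ⟨u, hu⟩ := (conjS_eq_iff hm h22 _ _).mp ha.symm
    refine Subgroup.mem_comap.mpr ⟨u, (mult_eq _ ?_).symm⟩
    rw [hu, ofSp_val, transpose_smul, Matrix.smul_mul, Matrix.mul_smul, Matrix.smul_mul, sp_iff.mp s.2, smul_smul]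
    simp [sq]
  · intro x hx
    obtain ⟨u, hu⟩ := Subgroup.mem_comap.mp hx
    have hm' := mult_spec (show 1 ≤ m by omega) x
    rw [← hu] at hm'
    have hs : ((u⁻¹ : Fˣ) : F) • x.1.1 ∈ Sp := by
      rw [sp_iff, transpose_smul, Matrix.smul_mul, Matrix.mul_smul, Matrix.smul_mul, hm', smul_smul, smul_smul, powMonoidHom_apply,
        ← Units.val_mul, ← Units.val_mul, show u⁻¹ * u⁻¹ * u ^ 2 = 1 by group, Units.val_one, one_smul]
    refine Subgroup.mem_comap.mpr ⟨QuotientGroup.mk ⟨_, hs⟩, ?_⟩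
    rw [← conjS_ofSp]
    exact (conjS_eq_iff hm h22 _ _).mpr ⟨u⁻¹, rfl⟩

theorem inndiag_quotient (hm : 2 ≤ m) (h22 : m = 2 → 3 ≤ Fintype.card F) :
    (Cfsg.Inn (Cfsg.PSp m F)).relIndex (Cfsg.inndiagPSp m F) = Nat.gcd 2 (Fintype.card F - 1) ∧
      ∃ r ∈ Cfsg.inndiagPSp m F, ∀ β ∈ Cfsg.inndiagPSp m F, ∃ k : ℤ,
        (r ^ k)⁻¹ * β ∈ Cfsg.Inn (Cfsg.PSp m F) := by
  constructor
  · rw [inndiag_eq, ← Subgroup.index_comap, comap_inn hm h22,
      Subgroup.index_comap_of_surjective _ (mult_surj _), IsCyclic.index_powMonoidHom_range,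
      Nat.card_units, Nat.card_eq_fintype_card, Nat.gcd_comm]
  · obtain ⟨g, hg⟩ := IsCyclic.exists_generator (α := Fˣ)
    obtain ⟨x, hx⟩ := mult_surj (m := m) (show 1 ≤ m by omega) g
    refine ⟨conjS x, by rw [inndiag_eq]; exact ⟨x, rfl⟩, fun β hβ => ?_⟩
    rw [inndiag_eq] at hβ
    obtain ⟨y, rfl⟩ := hβ
    obtain ⟨k, hk⟩ := hg (mult (show 1 ≤ m by omega) y)
    refine ⟨k, ?_⟩
    rw [← map_zpow, ← map_inv, ← map_mul, ← Subgroup.mem_comap, comap_inn hm h22, Subgroup.mem_comap,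
      map_mul, map_inv, map_zpow, hx, show g ^ k = _ from hk, inv_mul_cancel]
    exact one_mem _

theorem conjS_range_normal_aux (hm : 2 ≤ m) (h4 : m = 2 → (2 : F) ≠ 0) :
    (conjS (F := F) (m := m)).range.Normal := by
  refine ⟨fun r hr β => ?_⟩
  obtain ⟨y, rfl⟩ := hr
  obtain ⟨g, σ, hg, h⟩ := PolarAut.psp_semilinear hm h4 β
  rw [semilinear_eq hg h]
  refine ⟨⟨g, hg⟩ * mapS σ y * ⟨g, hg⟩⁻¹, ?_⟩
  rw [map_mul, map_mul, map_inv, mul_assoc (conjS _) (fieldS σ), fieldS_conjS, _root_.mul_inv_rev]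
  group

theorem inndiag_normal (hm : 2 ≤ m) (h22 : m = 2 → 3 ≤ Fintype.card F) :
    (Cfsg.inndiagPSp m F).Normal := by
  by_cases h : m = 2 ∧ (2 : F) = 0
  · have e : Cfsg.inndiagPSp m F = Cfsg.Inn (Cfsg.PSp m F) := by
      refine le_antisymm ?_ inn_le_inndiag
      rw [← Subgroup.relIndex_eq_one, (inndiag_quotient hm h22).1]
      obtain ⟨p, hp⟩ := CharP.exists F
      obtain ⟨d, hpp, hc⟩ := FiniteField.card F p
      have : p = 2 := by
        have hd := (CharP.cast_eq_zero_iff F p 2).mp (by exact_mod_cast h.2)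
        exact (Nat.prime_dvd_prime_iff_eq hpp Nat.prime_two).mp hd
      subst this
      rw [hc]
      exact ((Nat.Even.sub_odd Nat.one_le_two_pow (Nat.even_pow.2 ⟨even_two, d.pos.ne'⟩) odd_one).coprime_two_left)
    rw [e]
    refine ⟨fun x hx β => ?_⟩
    obtain ⟨a, rfl⟩ := hx
    exact ⟨β a, MulEquiv.ext fun b => by simp [MulAut.conj_apply, map_mul, map_inv]⟩
  · rw [inndiag_eq]
    exact conjS_range_normal_aux hm fun h2 hz => h ⟨h2, hz⟩

theorem fieldS_mem (hm : 2 ≤ m) (h22 : m = 2 → 3 ≤ Fintype.card F) {σ : RingAut F}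
    (h : fieldS (m := m) σ ∈ (conjS (F := F) (m := m)).range) : σ = 1 := by
  obtain ⟨x, hx⟩ := h
  exact (conj_field_one hm h22 x⁻¹ σ (by rw [map_inv, hx, inv_mul_cancel])).1

theorem exists_fieldPart (hm : 2 ≤ m) (h4 : m = 2 → (2 : F) ≠ 0) (h22 : m = 2 → 3 ≤ Fintype.card F) :
    ∃ π : A →* RingAut F, Function.Surjective π ∧ π.ker = Cfsg.inndiagPSp m F ∧
      ∀ (x : ↥(GS)) σ, π (conjS x * fieldS σ) = σ := by
  haveI := conjS_range_normal_aux hm h4
  let ψ : RingAut F →* A ⧸ (conjS (F := F) (m := m)).range := (QuotientGroup.mk' _).comp fieldS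
  have hinj : Function.Injective ψ := (injective_iff_map_eq_one ψ).mpr fun σ hσ =>
    fieldS_mem hm h22 ((QuotientGroup.eq_one_iff _).mp hσ)
  have hsurj : Function.Surjective ψ := fun z => by
    obtain ⟨β, rfl⟩ := QuotientGroup.mk_surjective z
    obtain ⟨g, σ, hg, h⟩ := PolarAut.psp_semilinear hm h4 β
    refine ⟨σ, ?_⟩
    show (QuotientGroup.mk (fieldS σ) : A ⧸ (conjS (F := F) (m := m)).range) = _
    rw [semilinear_eq hg h, QuotientGroup.mk_mul,
      (QuotientGroup.eq_one_iff (N := (conjS (F := F) (m := m)).range) (conjS ⟨g, hg⟩)).mpr ⟨_, rfl⟩, one_mul]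
  let e := MulEquiv.ofBijective ψ ⟨hinj, hsurj⟩
  let π : A →* RingAut F := e.symm.toMonoidHom.comp (QuotientGroup.mk' _)
  refine ⟨π, e.symm.surjective.comp (QuotientGroup.mk'_surjective _), ?_, fun x σ => ?_⟩
  · rw [inndiag_eq]
    ext β
    simp only [π, MonoidHom.mem_ker, MonoidHom.comp_apply, MulEquiv.coe_toMonoidHom,
      MulEquiv.map_eq_one_iff, QuotientGroup.mk'_apply, QuotientGroup.eq_one_iff]
  · show e.symm _ = σ
    rw [MulEquiv.symm_apply_eq]
    show _ = (QuotientGroup.mk (fieldS σ) : A ⧸ (conjS (F := F) (m := m)).range)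
    rw [QuotientGroup.mk'_apply, QuotientGroup.mk_mul,
      (QuotientGroup.eq_one_iff (N := (conjS (F := F) (m := m)).range) (conjS x)).mpr ⟨x, rfl⟩, one_mul]

theorem card_inn (hm : 2 ≤ m) (h22 : m = 2 → 3 ≤ Fintype.card F) :
    Nat.card (Cfsg.Inn (Cfsg.PSp m F)) = Nat.card (Cfsg.PSp m F) := by
  refine (Nat.card_congr (MonoidHom.ofInjective ?_).toEquiv).symm
  rw [injective_iff_map_eq_one]
  intro a ha
  obtain ⟨s, rfl⟩ := QuotientGroup.mk_surjective a
  rw [← conjS_ofSp] at ha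
  obtain ⟨-, μ, -, hμ⟩ := conj_field_one hm h22 (ofSp s) 1 (by rw [map_one, mul_one]; exact ha)
  rw [QuotientGroup.eq_one_iff]
  refine Subgroup.mem_center_iff.mpr fun k => Subtype.ext ?_
  show k.1 * s.1 = s.1 * k.1
  rw [ofSp_val] at hμ
  rw [hμ, Matrix.smul_mul, Matrix.mul_smul, Matrix.one_mul, Matrix.mul_one]

theorem card_out_two [CharP F 2] {f : ℕ} (hf : 1 ≤ f) (hF : Nat.card F = 2 ^ f) :
    Nat.card (Cfsg.Out (Cfsg.PSp 2 F)) = 2 * f := by
  rw [← (Chev.out_B2_cyclic hf hF).2]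
  exact Nat.card_congr (QuotientGroup.congr _ _ (MulAut.congr SympB2.pspIso)
    (Chev.map_inn_congr SympB2.pspIso)).toEquiv

end CfsgLib.PSpAut
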