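import Cfsg.Agent.Lib.PolarAut.Sylow
import Cfsg.Agent.Lib.PSUGraph.Basic

/-!
Automorphisms of `PSU_n(q)` for `n ≥ 4`.
-/

set_option autoImplicit false

namespace CfsgLib.PolarAut

open Matrix CfsgLib.UnitaryTransvection CfsgLib.UnitarySimple CfsgLib.PSUGraph
open scoped MatrixGroups

variable {F : Type*} [Field F] [Fintype F] {n q : ℕ} (hF : Fintype.card F = q ^ 2)

/-- The Hermitian form. -/
noncomputable def hermPolar (n : ℕ) : Polar F (Fin n → F) where
  h := Cfsg.hermForm n F q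
  τ := frob hF
  ε := 1
  add_left := h_add_left
  smul_left := h_smul_left
  swap x y := by rw [one_mul, h_swap hF]
  ττ := frob_frob hF
  sign := Or.inl rfl
  nondeg x := h_nondeg hF
  tr v := by
    obtain ⟨d, hd⟩ := exists_trace_one hF
    refine ⟨-Cfsg.hermForm n F q v v * d, ?_⟩
    rw [one_mul, map_mul, map_neg, h_swap hF]
    linear_combination (-Cfsg.hermForm n F q v v) * hd
  skew := by
    obtain ⟨c, hc0, hc⟩ := exists_skew hF
    exact ⟨c, hc0, by rwa [one_mul]⟩

/-- The action of `SU`. -/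
noncomputable def suAct : Cfsg.SU n F q →* Module.End F (Fin n → F) where
  toFun g := Matrix.mulVecLin (mat g)
  map_one' := LinearMap.ext fun x => by
    rw [mat_one]
    exact Matrix.one_mulVec x
  map_mul' g k := LinearMap.ext fun x => by
    rw [mat_mul]
    exact (Matrix.mulVec_mulVec x (mat g) (mat k)).symm

theorem suAct_apply (g : Cfsg.SU n F q) (x : Fin n → F) : suAct g x = mat g *ᵥ x := rfl

theorem exists_perp_ne {k : ℕ} (hk : k < n) (v : Fin k → Fin n → F) :
    ∃ x : Fin n → F, x ≠ 0 ∧ ∀ i, Cfsg.hermForm n F q x (v i) = 0 := by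
  let L : (Fin n → F) →ₗ[F] (Fin k → F) :=
    { toFun := fun x i => Cfsg.hermForm n F q x (v i)
      map_add' := fun x y => funext fun i => h_add_left x y (v i)
      map_smul' := fun c x => funext fun i => h_smul_left c x (v i) }
  obtain ⟨x, hx, hx0⟩ : ∃ x ∈ LinearMap.ker L, x ≠ 0 :=
    Submodule.exists_mem_ne_zero_of_ne_bot (LinearMap.ker_ne_bot_of_finrank_lt (by simpa using hk))
  exact ⟨x, hx0, fun i => congrFun (LinearMap.mem_ker.mp hx) i⟩

theorem exists_quad (hn : 4 ≤ n) {e f : Fin n → F} (H : (hermPolar hF n).Hyp e f) :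
    ∃ w₁ w₂, (hermPolar hF n).Hyp w₁ w₂ ∧ (hermPolar hF n).Perp e f w₁ ∧
      (hermPolar hF n).Perp e f w₂ := by
  let P := hermPolar hF n
  obtain ⟨w, hw, hwp⟩ : ∃ w, P.Iso w ∧ P.Perp e f w := by
    obtain ⟨a, ha0, ha⟩ := exists_perp_ne (q := q) (show 2 < n by omega) ![e, f]
    have hap : P.Perp e f a := ⟨ha 0, ha 1⟩
    by_cases haa : P.h a a = 0
    · exact ⟨a, ⟨ha0, haa⟩, hap⟩
    obtain ⟨b, hb0, hb⟩ := exists_perp_ne (q := q) (show 3 < n by omega) ![e, f, a]
    have hbp : P.Perp e f b := ⟨hb 0, hb 1⟩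
    by_cases hbb : P.h b b = 0
    · exact ⟨b, ⟨hb0, hbb⟩, hbp⟩
    have hba : P.h b a = 0 := hb 2
    have hr : ∀ z, frob hF (P.h z z) = P.h z z := fun z => h_swap hF z z
    obtain ⟨t, ht⟩ := exists_norm_eq hF (c := -(P.h a a) / P.h b b)
      (by rw [map_div₀, map_neg, hr, hr])
    refine ⟨a + t • b, ⟨fun h0 => ?_, ?_⟩, hap.add (hbp.smul t)⟩
    · have := congrArg (fun z => P.h z a) h0
      simp [P.add_left, P.smul_left, hba] at this
      exact haa this
    · simp only [P.add_left, P.add_right, P.smul_left, P.smul_right, hba, P.perp_comm hba]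
      show P.h a a + frob hF t * 0 + (t * 0 + t * (frob hF t * P.h b b)) = 0
      have e1 := (eq_div_iff hbb).mp ht
      linear_combination e1
  obtain ⟨w', K, hw'⟩ := H.exists_hyp hw hwp
  exact ⟨w, w', K, hwp, hw'⟩

theorem exists_pair (hn : 2 ≤ n) : ∃ e f, (hermPolar hF n).Hyp e f := by
  obtain ⟨e, he0, he⟩ := UnitarySimple.exists_isotropic (q := q) hF hn
  obtain ⟨f, H⟩ := (hermPolar hF n).exists_hyp (e := e) ⟨he0, he⟩
  exact ⟨e, f, H⟩

theorem central_of_scalar (g : Cfsg.SU n F q) {c : F} (hc : ∀ x, mat g *ᵥ x = c • x) :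
    g ∈ Subgroup.center (Cfsg.SU n F q) := Subgroup.mem_center_iff.mpr fun k => su_ext fun x => by
  rw [mat_mul, mat_mul, ← mulVec_mulVec, ← mulVec_mulVec, hc, hc, mulVec_smul]

include hF in
theorem scalar_of_central' (hn : 3 ≤ n) (g : Cfsg.SU n F q)
    (hg : g ∈ Subgroup.center (Cfsg.SU n F q)) : ∃ c : F, ∀ x, mat g *ᵥ x = c • x := by
  refine scalar_of_fix hF hn g fun x => ?_
  obtain ⟨e, he0, he, rfl⟩ := pt_surj x
  rw [smul_pt]
  obtain ⟨c, hc0, hc⟩ := exists_skew hF
  have hcomm := Subgroup.mem_center_iff.mp hg (tv hF e he c hc)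
  obtain ⟨y, hy, hy'⟩ := exists_partner hF he0
  have h1 := congrArg (fun k => mat k *ᵥ y) hcomm
  simp only [mat_mul, ← mulVec_mulVec, tv_mulVec, mulVec_add, mulVec_smul, hy', mul_one,
    add_right_inj] at h1
  have hl : mat g *ᵥ e = (c⁻¹ * (c * Cfsg.hermForm n F q (mat g *ᵥ y) e)) • e := by
    rw [← smul_smul, h1, smul_smul, inv_mul_cancel₀ hc0, one_smul]
  exact pt_eq (mat_ne_zero g he0) (by rw [su_h, he]) he0 he _ hl

/-- The geometry of `SU`. -/
noncomputable def suGeo (hn : 3 ≤ n) :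
    Geo F (Fin n → F) (Cfsg.SU n F q) (Cfsg.PSU n F q) where
  P := hermPolar hF n
  act := suAct
  act_inj g k h := su_ext fun x => LinearMap.congr_fun h x
  isom g x y := su_h g x y
  full L hL hd := by
    refine ⟨mkSU (LinearMap.toMatrix' L) (fun u v => ?_) (by rw [LinearMap.det_toMatrix', hd]),
      LinearMap.ext fun x => ?_⟩
    · rw [LinearMap.toMatrix'_mulVec, LinearMap.toMatrix'_mulVec]
      exact hL u v
    · rw [suAct_apply]
      exact LinearMap.toMatrix'_mulVec L x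
  pr := QuotientGroup.mk' _
  surj := QuotientGroup.mk'_surjective _
  ker g := by
    rw [QuotientGroup.mk'_apply, QuotientGroup.eq_one_iff]
    exact ⟨scalar_of_central' hF hn g, fun ⟨c, hc⟩ => central_of_scalar g hc⟩

include hF in
theorem nolin (t : F) (h : ∀ c, frob hF (c * t) = 1 * (c * t)) : t = 0 := by
  by_contra h0
  exact frob_ne_id hF (RingHom.ext fun x => by
    have := h (x / t)
    rwa [div_mul_cancel₀ _ h0, one_mul] at this)

theorem map_pow_comm (σ : F ≃+* F) (v : Fin n → F) (u : Fin n → F) :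
    Cfsg.hermForm n F q (fun i => σ (u i)) (fun i => σ (v i)) = σ (Cfsg.hermForm n F q u v) := by
  simp [Cfsg.hermForm, map_sum]

omit [Fintype F] in
/-- The matrix of a semilinear bijection. -/
theorem exists_matrix {ι : Type*} [Fintype ι] [DecidableEq ι] {T : (ι → F) → (ι → F)} (σ : F ≃+* F)
    (hadd : ∀ x y, T (x + y) = T x + T y) (hsmul : ∀ (c : F) x, T (c • x) = σ c • T x)
    (hbij : Function.Bijective T) :
    ∃ g : GL ι F, ∀ x, T x = g.1 *ᵥ (fun i => σ (x i)) := by
  classical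
  let M : Matrix ι ι F := Matrix.of fun i j => T (Pi.single j 1) i
  have hM : ∀ x, T x = M *ᵥ (fun i => σ (x i)) := by
    intro x
    let Th := AddMonoidHom.mk' T hadd
    have : x = ∑ j, x j • (Pi.single j 1 : ι → F) := by
      funext i; simp [Finset.sum_apply, Pi.single_apply]
    conv_lhs => rw [this]
    rw [show T (∑ j, x j • (Pi.single j 1 : ι → F)) = ∑ j, T (x j • (Pi.single j 1 : ι → F)) from
      map_sum Th _ _]
    funext i
    simp only [hsmul, Finset.sum_apply, Pi.smul_apply, smul_eq_mul, Matrix.mulVec, dotProduct, M,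
      Matrix.of_apply]
    exact Finset.sum_congr rfl fun j _ => mul_comm _ _
  have hinj : Function.Injective M.mulVec := by
    intro u v huv
    have e : ∀ w : ι → F, M *ᵥ w = T (fun i => σ.symm (w i)) := fun w => by
      rw [hM]; congr 1; funext i; simp
    rw [e, e] at huv
    have := hbij.1 huv
    funext i
    exact σ.symm.injective (congrFun this i)
  exact ⟨(Matrix.mulVec_injective_iff_isUnit.mp hinj).unit, hM⟩

include hF in
/-- Every automorphism of `PSU_n(q)` is induced by a unitary semilinear map (`n ≥ 4`). -/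
theorem psu_four (hn : 4 ≤ n) (β : MulAut (Cfsg.PSU n F q)) :
    ∃ (g : GL (Fin n) F) (σ : F ≃+* F), g ∈ Cfsg.GU n F q ∧ Cfsg.IsInducedBySemilinearPSU g σ β := by
  let S := suGeo hF (n := n) (by omega)
  obtain ⟨e, f, H⟩ := exists_pair hF (n := n) (by omega)
  obtain ⟨w₁, w₂, K, h1, h2⟩ := exists_quad hF hn H
  obtain ⟨T, σ, m, hm0, hτm, Tadd, Tsmul, Tbij, Th, Tequiv⟩ := exists_similitude_of_tperm S β
    (tperm_of_nolin S β (nolin hF) (e₁ := e) (f₁ := f) H) H K h1 h2
  obtain ⟨g₀, hg₀⟩ := exists_matrix σ Tadd Tsmul Tbij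
  obtain ⟨t, ht⟩ := exists_norm_eq hF (c := m⁻¹) (by rw [map_inv₀, show frob hF m = m from hτm])
  have ht0 : t ≠ 0 := fun h => inv_ne_zero hm0 (by rw [← ht, h, zero_mul])
  set g : GL (Fin n) F := scal (Units.mk0 t ht0) * g₀ with hg
  have hgv : ∀ x, g.1 *ᵥ x = t • (g₀.1 *ᵥ x) := fun x => by
    rw [hg, scal_mul_val, Units.val_mk0, Matrix.smul_mulVec]
  refine ⟨g, σ, fun u v => ?_, fun s s' hs => ?_⟩
  · obtain ⟨u', rfl⟩ : ∃ u', u = fun i => σ (u' i) := ⟨fun i => σ.symm (u i), by funext i; simp⟩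
    obtain ⟨v', rfl⟩ : ∃ v', v = fun i => σ (v' i) := ⟨fun i => σ.symm (v i), by funext i; simp⟩
    show Cfsg.hermForm n F q (g.1 *ᵥ fun i => σ (u' i)) (g.1 *ᵥ fun i => σ (v' i)) = _
    rw [hgv, hgv, h_smul_left, h_smul_right hF, ← hg₀, ← hg₀, map_pow_comm]
    have := Th u' v'
    rw [show Cfsg.hermForm n F q (T u') (T v') = _ from this]
    show t * (frob hF t * (m * σ (Cfsg.hermForm n F q u' v'))) = _
    rw [← mul_assoc, ← mul_assoc, ht, inv_mul_cancel₀ hm0, one_mul]
  · obtain ⟨k, hk⟩ := S.surj (β (S.pr s))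
    obtain ⟨c, hc⟩ := Tequiv s k hk.symm
    show β (S.pr s) = S.pr s'
    rw [← hk, S.pr_eq_iff]
    refine ⟨σ (1 : F) * c, fun x => ?_⟩
    obtain ⟨y, rfl⟩ := Tbij.2 x
    show S.act k (T y) = _
    rw [hc, map_one, one_mul]
    congr 1
    show T (mat s *ᵥ y) = mat s' *ᵥ T y
    rw [hg₀, hg₀, show mat s' = g.1 * (mat s).map σ * (g⁻¹).1 from hs,
      show (fun i => σ ((mat s *ᵥ y) i)) = (mat s).map σ *ᵥ (fun i => σ (y i)) from
        funext fun i => RingHom.map_mulVec σ.toRingHom (mat s) y i]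
    set v := fun i => σ (y i)
    apply smul_right_injective (Fin n → F) ht0
    show t • (g₀.1 *ᵥ _) = t • _
    rw [← Matrix.mulVec_smul (g.1 * (mat s).map σ * (g⁻¹).1), ← hgv, ← hgv, mulVec_mulVec,
      mulVec_mulVec, Matrix.mul_assoc (g.1 * (mat s).map σ), Units.inv_mul, Matrix.mul_one]

end CfsgLib.PolarAut
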