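import Cfsg.Agent.Lib.PSLn.FieldCentral
import Cfsg.Agent.Lib.PSLnGraph.Forms

/-!
General facts for the study of field automorphisms: normal conjugation invariance, counting of split
classes, and descent for arbitrary index types.
-/

set_option autoImplicit false

namespace CfsgLib.FieldGen

open Matrix
open scoped MatrixGroups

variable {X : Type*} [Group X]

theorem isConjUnder_conj {H : Subgroup X} [H.Normal] (a x y : X) :
    Cfsg.IsConjUnder H (a * x * a⁻¹) (a * y * a⁻¹) ↔ Cfsg.IsConjUnder H x y := by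
  constructor
  · rintro ⟨h, hh, e⟩
    refine ⟨a⁻¹ * h * a, by simpa using ‹H.Normal›.conj_mem h hh a⁻¹, ?_⟩
    calc y = a⁻¹ * (a * y * a⁻¹) * a := by group
      _ = _ := by rw [e]; group
  · rintro ⟨h, hh, rfl⟩
    exact ⟨a * h * a⁻¹, ‹H.Normal›.conj_mem h hh a, by group⟩

theorem centralizer_conj {H : Subgroup X} [H.Normal] (a s : X) :
    Nonempty (↥(H ⊓ Subgroup.centralizer {a * s * a⁻¹}) ≃* ↥(H ⊓ Subgroup.centralizer {s})) := by
  have key : ∀ b : X, b ∈ H ⊓ Subgroup.centralizer {a * s * a⁻¹} ↔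
      a⁻¹ * b * a ∈ H ⊓ Subgroup.centralizer {s} := by
    intro b
    simp only [Subgroup.mem_inf, Subgroup.mem_centralizer_singleton_iff]
    refine and_congr ⟨fun h => by simpa using ‹H.Normal›.conj_mem b h a⁻¹,
      fun h => by simpa [mul_assoc] using ‹H.Normal›.conj_mem _ h a⟩ ?_
    constructor <;> intro h
    · calc (a⁻¹ * b * a) * s = a⁻¹ * (b * (a * s * a⁻¹)) * a := by group
        _ = a⁻¹ * ((a * s * a⁻¹) * b) * a := by rw [h]
        _ = s * (a⁻¹ * b * a) := by group
    · calc b * (a * s * a⁻¹) = a * ((a⁻¹ * b * a) * s) * a⁻¹ := by group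
        _ = a * (s * (a⁻¹ * b * a)) * a⁻¹ := by rw [h]
        _ = a * s * a⁻¹ * b := by group
  exact ⟨{ toFun := fun b => ⟨a⁻¹ * b.1 * a, (key b.1).mp b.2⟩
           invFun := fun b => ⟨a * b.1 * a⁻¹, (key _).mpr (by simpa [mul_assoc] using b.2)⟩
           left_inv := fun b => Subtype.ext (by simp [mul_assoc])
           right_inv := fun b => Subtype.ext (by simp [mul_assoc])
           map_mul' := fun b c => Subtype.ext (by simp [mul_assoc]) }⟩

theorem splitClassCount_conj {H K : Subgroup X} [H.Normal] [K.Normal] (a s : X) :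
    Cfsg.splitClassCount H K (a * s * a⁻¹) = Cfsg.splitClassCount H K s :=
  (Nat.card_congr (Quot.congr ((MulAut.conj a).toEquiv.subtypeEquiv fun y =>
    (isConjUnder_conj (H := H) a s y).symm) fun y z => (isConjUnder_conj (H := K) a y.1 z.1).symm)).symm

/-- The split classes counted in an abelian quotient. -/
theorem splitCount_hom {Y : Type*} [Group Y] {A : Type*} [CommGroup A] {H N : Subgroup X} [N.Normal]
    (ρ : Y →* X) (hH : H = ρ.range) (d : Y →* A) (hd : Function.Surjective d) (P : Subgroup A)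
    (hN : N ≤ H) (hNd : N.comap ρ = P.comap d) (s : X) :
    Cfsg.splitClassCount H N s = (P ⊔ ((Subgroup.centralizer {s}).comap ρ).map d).index := by
  subst hH
  rw [PSLn.splitClassCount_eq _ _ hN, ← Subgroup.index_comap,
    ← Subgroup.comap_sup_eq_of_le_range _ hN inf_le_left, Subgroup.comap_inf,
    show ρ.range.comap ρ = ⊤ from eq_top_iff.mpr fun y _ => ⟨y, rfl⟩, top_inf_eq, hNd,
    ← Subgroup.index_map_eq _ hd ((d.ker_le_comap P).trans le_sup_left), Subgroup.map_sup,
    Subgroup.map_comap_eq_self_of_surjective hd]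

theorem pow_conj_field {Y : Type*} [Group Y] {Z : Type*} [Group Z] (c : Y →* X) (fld : Z →* X)
    (m : Z → Y → Y) (h : ∀ z y, fld z * c y = c (m z y) * fld z) (g : Y) (z : Z) (k : ℕ) :
    (c g * fld z) ^ k = c ((fun y => g * m z y)^[k] 1) * fld (z ^ k) := by
  induction k with
  | zero => simp
  | succ k ih =>
    rw [pow_succ', ih, Function.iterate_succ_apply', pow_succ', map_mul fld, map_mul c, mul_assoc,
      ← mul_assoc (fld z), h]
    group

variable {F : Type*} [Field F] {κ : Type} [Fintype κ] [DecidableEq κ]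

theorem map_smul_hom {F' : Type*} [Field F'] {α β : Type} (τ : F →+* F') (c : F) (M : Matrix α β F) :
    (c • M).map τ = τ c • M.map τ := by
  ext i j; simp

/-- A semilinear map whose power is scalar has a fixed basis up to a scalar. -/
theorem exists_descent [Finite F] [Nonempty κ] (σ : RingAut F) (g : GL κ F) (S : ℕ → Matrix κ κ F)
    (h0 : S 0 = 1) (hs : ∀ k, S (k + 1) = g.1 * (S k).map σ) {c : F} (hc : S (orderOf σ) = c • 1) :
    ∃ (h : GL κ F) (d : F), d ≠ 0 ∧ d • (g.1 * h.1.map σ) = h.1 := by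
  classical
  let n := Fintype.card κ
  let e : κ ≃ Fin n := Fintype.equivFin κ
  let R : Matrix κ κ F ≃ₐ[F] Matrix (Fin n) (Fin n) F := Matrix.reindexAlgEquiv F F e
  let g' : GL (Fin n) F := Units.map (R : Matrix κ κ F →* Matrix (Fin n) (Fin n) F) g
  have hmap : ∀ M : Matrix κ κ F, R (M.map σ) = (R M).map σ := fun M => rfl
  have htw : ∀ k, PSLn.tw σ g'.1 k = R (S k) := by
    intro k
    induction k with
    | zero => rw [h0, map_one]; rfl
    | succ k ih => rw [hs, map_mul, hmap, ← ih]; rfl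
  obtain ⟨h, d, hd, hh⟩ := PSLn.exists_descent_scalar σ (Fintype.card_pos) g' c (by
    rw [htw, hc, map_smul, map_one, Matrix.scalar_apply, Matrix.smul_one_eq_diagonal])
  refine ⟨Units.map (R.symm : Matrix (Fin n) (Fin n) F →* Matrix κ κ F) h, d, hd, R.injective ?_⟩
  show R (d • (g.1 * (R.symm h.1).map σ)) = R (R.symm h.1)
  rw [map_smul, map_mul, hmap, R.apply_symm_apply]
  exact hh

/-- A matrix fixed up to a scalar is proportional to one over the fixed field. -/
theorem exists_rho {F₀ : Type*} [Field F₀] (σ : RingAut F) (ι : F₀ →+* F) (hι : ∀ y, σ y = y ↔ y ∈ ι.range)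
    {H : Matrix κ κ F} (hH : H ≠ 0) {a : F} (h : H.map σ = a • H) :
    ∃ (b : F) (ρ : Matrix κ κ F₀), b ≠ 0 ∧ ρ.map ι = b • H := by
  obtain ⟨i, j, hij⟩ : ∃ i j, H i j ≠ 0 := by
    by_contra hh
    push Not at hh
    exact hH (Matrix.ext hh)
  have ha : σ (H i j) = a * H i j := congrFun (congrFun h i) j
  have ha0 : a ≠ 0 := by
    rintro rfl
    rw [zero_mul, map_eq_zero] at ha
    exact hij ha
  choose ρ hρ using fun i' j' => (hι ((H i j)⁻¹ * H i' j')).mp (by
    have e : σ (H i' j') = a * H i' j' := congrFun (congrFun h i') j'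
    rw [map_mul, map_inv₀, ha, e]
    field_simp)
  exact ⟨(H i j)⁻¹, Matrix.of ρ, inv_ne_zero hij, Matrix.ext hρ⟩

/-- A matrix fixed up to a scalar has a multiple over the fixed field. -/
theorem exists_multiple {F₀ : Type*} [Field F₀] (σ : RingAut F) (ι : F₀ →+* F)
    (hι : ∀ y, σ y = y ↔ y ∈ ι.range) [Nonempty κ] (g : GL κ F) {a : F} (h : g.1.map σ = a • g.1) :
    ∃ (b : F) (P : GL κ F₀), b ≠ 0 ∧ P.1.map ι = b • g.1 := by
  obtain ⟨b, ρ, hb, hρ⟩ := exists_rho σ ι hι g.ne_zero h
  have hd : ρ.det ≠ 0 := by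
    intro h0
    have e : (ρ.map ι).det = ι ρ.det := (RingHom.map_det ι ρ).symm
    rw [hρ, h0, map_zero, det_smul] at e
    exact mul_ne_zero (pow_ne_zero _ hb) ((Matrix.isUnit_iff_isUnit_det _).mp g.isUnit).ne_zero e
  exact ⟨b, GeneralLinearGroup.mkOfDetNeZero ρ hd, hb, hρ⟩

/-- An embedding onto the fixed field. -/
theorem exists_emb [Fintype F] (σ : RingAut F) (F₀ : Type*) [Field F₀] [Fintype F₀]
    (h : Fintype.card F₀ = Nat.card (PSLn.fixedField σ)) :
    ∃ ι : F₀ →+* F, ∀ y, σ y = y ↔ y ∈ ι.range := by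
  classical
  haveI : Fintype (PSLn.fixedField σ) := Fintype.ofFinite _
  let e : F₀ ≃+* PSLn.fixedField σ := FiniteField.ringEquivOfCardEq (h.trans Nat.card_eq_fintype_card)
  exact ⟨(PSLn.fixedField σ).subtype.comp e.toRingHom, fun y =>
    ⟨fun hy => ⟨e.symm ⟨y, hy⟩, by simp⟩, by rintro ⟨a, rfl⟩; exact (e a).2⟩⟩

end CfsgLib.FieldGen
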