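import Cfsg.Agent.Lib.Basic
import Cfsg.Prelude.Def_Solvable
import Mathlib.Algebra.Group.End

/-!
When the centralizer of an automorphism of prime order has a nontrivial `p'`-core.
-/

set_option autoImplicit false

namespace CfsgLib.CoreGen

variable {K : Type*} [Group K]

theorem mul_conj (β : MulAut K) (k : K) : β * MulAut.conj k = MulAut.conj (β k) * β :=
  MulEquiv.ext fun a => by simp [MulAut.conj_apply, map_mul, map_inv]

/-- The subgroup hypothesis: a coprime group commuting with `x`, normalized by the fixed points, is trivial. -/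
def Rigid (p : ℕ) (x : MulAut K) : Prop :=
  p ∣ Nat.card ↥(MonoidHom.eqLocus x.toMonoidHom (MonoidHom.id K)) →
    ∀ N : Subgroup (MulAut K), (∀ y ∈ N, y * x = x * y) → (Nat.card N).Coprime p →
      (∀ k, x k = k → ∀ y ∈ N, MulAut.conj k * y * (MulAut.conj k)⁻¹ ∈ N) → N = ⊥

theorem rigid_conj {p : ℕ} {s : MulAut K} (α : MulAut K) (h : Rigid p s) : Rigid p (α * s * α⁻¹) := by
  intro hp N hN hc hk
  have hcard : Nat.card ↥(MonoidHom.eqLocus (α * s * α⁻¹).toMonoidHom (MonoidHom.id K)) =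
      Nat.card ↥(MonoidHom.eqLocus s.toMonoidHom (MonoidHom.id K)) := by
    refine Nat.card_congr ((α⁻¹ : MulAut K).toEquiv.subtypeEquiv fun k => ?_)
    show α (s (α⁻¹ k)) = k ↔ s (α⁻¹ k) = α⁻¹ k
    constructor
    · intro e
      conv_rhs => rw [← e]
      simp
    · intro e
      rw [e]; simp
  have hN' := h (hcard ▸ hp) (N.map (MulAut.conj α⁻¹).toMonoidHom) ?_ ?_ ?_
  · exact (Subgroup.map_eq_bot_iff_of_injective _ (MulAut.conj α⁻¹).injective).mp hN'
  · rintro _ ⟨y, hy, rfl⟩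
    show α⁻¹ * y * α⁻¹⁻¹ * s = s * (α⁻¹ * y * α⁻¹⁻¹)
    calc α⁻¹ * y * α⁻¹⁻¹ * s = α⁻¹ * (y * (α * s * α⁻¹)) * α := by group
      _ = α⁻¹ * ((α * s * α⁻¹) * y) * α := by rw [hN y hy]
      _ = _ := by group
  · rwa [Subgroup.card_map_of_injective (MulAut.conj α⁻¹).injective]
  · rintro k hk' _ ⟨y, hy, rfl⟩
    refine ⟨_, hk (α k) ?_ y hy, ?_⟩
    · show α (s (α⁻¹ (α k))) = α k
      simp [hk']
    · show α⁻¹ * (MulAut.conj (α k) * y * (MulAut.conj (α k))⁻¹) * α⁻¹⁻¹ =
        MulAut.conj k * (α⁻¹ * y * α⁻¹⁻¹) * (MulAut.conj k)⁻¹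
      rw [show MulAut.conj (α k) = α * MulAut.conj k * α⁻¹ by rw [mul_conj]; group]
      group

theorem core_iff [Finite K] (A : Subgroup (MulAut K)) (hinn : ∀ k : K, MulAut.conj k ∈ A) {p : ℕ}
    [hp : Fact p.Prime] (x : MulAut K) (hinj : Function.Injective (MulAut.conj : K → MulAut K))
    (hfix : ∃ k, k ≠ 1 ∧ x k = k) (main : Rigid p x) :
    Cfsg.pPrimeCore p ↥(A ⊓ Subgroup.centralizer {x}) ≠ ⊥ ↔
      Nat.Coprime p (Nat.card ↥(MonoidHom.eqLocus x.toMonoidHom (MonoidHom.id K))) := by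
  have hmem : ∀ k, x k = k → MulAut.conj k ∈ A ⊓ Subgroup.centralizer {x} := fun k hk =>
    Subgroup.mem_inf.mpr ⟨hinn k, Subgroup.mem_centralizer_singleton_iff.mpr (by rw [mul_conj, hk])⟩
  constructor
  · intro hne
    rw [hp.out.coprime_iff_not_dvd]
    intro hdvd
    refine hne (eq_bot_iff.mpr (sSup_le ?_))
    rintro M ⟨hM, hc⟩
    have hN : M.map (A ⊓ Subgroup.centralizer {x}).subtype = ⊥ := by
      refine main hdvd _ ?_ ?_ ?_
      · rintro _ ⟨y, -, rfl⟩
        exact Subgroup.mem_centralizer_singleton_iff.mp (Subgroup.mem_inf.mp y.2).2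
      · rwa [Subgroup.card_map_of_injective (Subgroup.subtype_injective _)]
      · rintro k hk _ ⟨y, hy, rfl⟩
        exact ⟨_, hM.conj_mem y hy ⟨_, hmem k hk⟩, rfl⟩
    rw [(Subgroup.map_eq_bot_iff_of_injective _ (Subgroup.subtype_injective _)).mp hN]
  · intro hcop hbot
    set C := A ⊓ Subgroup.centralizer {x}
    let f : ↥(MonoidHom.eqLocus x.toMonoidHom (MonoidHom.id K)) →* ↥C :=
      (MulAut.conj.comp (Subgroup.subtype _)).codRestrict C fun k => hmem k.1 k.2
    have hf : Function.Injective f := fun a b h => Subtype.ext (hinj (congrArg Subtype.val h))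
    haveI : f.range.Normal := by
      refine ⟨fun n hn c => ?_⟩
      obtain ⟨k, rfl⟩ := hn
      have hc := Subgroup.mem_centralizer_singleton_iff.mp (Subgroup.mem_inf.mp c.2).2
      refine ⟨⟨c.1 k.1, ?_⟩, Subtype.ext ?_⟩
      · show x (c.1 k.1) = c.1 k.1
        rw [← MulAut.mul_apply, ← hc, MulAut.mul_apply, show x k.1 = k.1 from k.2]
      · show MulAut.conj (c.1 k.1) = c.1 * MulAut.conj k.1 * c.1⁻¹
        rw [mul_conj]; group
    have hle := CfsgLib.le_pPrimeCore (p := p) (N := f.range) (by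
      rw [← Nat.card_congr (MonoidHom.ofInjective hf).toEquiv]; exact hcop.symm)
    rw [hbot, le_bot_iff] at hle
    obtain ⟨k, hk1, hk⟩ := hfix
    have : f ⟨k, hk⟩ ∈ f.range := ⟨_, rfl⟩
    rw [hle, Subgroup.mem_bot] at this
    exact hk1 (hinj ((congrArg Subtype.val this).trans (map_one _).symm))

/-- A subgroup of automorphisms normalized by inner ones and meeting them trivially is trivial. -/
theorem eq_bot_of_normalized (hinj : Function.Injective (MulAut.conj : K → MulAut K)) (M : Subgroup (MulAut K))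
    (hM : ∀ k, ∀ y ∈ M, MulAut.conj k * y * (MulAut.conj k)⁻¹ ∈ M)
    (h : ∀ k, MulAut.conj k ∈ M → k = 1) : M = ⊥ := by
  refine (Subgroup.eq_bot_iff_forall _).mpr fun y hy => MulEquiv.ext fun k => ?_
  have h1 : MulAut.conj (y k * k⁻¹) ∈ M := by
    have := M.mul_mem hy (hM k _ (M.inv_mem hy))
    rw [map_mul, map_inv, show MulAut.conj (y k) = y * MulAut.conj k * y⁻¹ by rw [mul_conj]; group]
    simpa [mul_assoc] using this
  exact mul_inv_eq_one.mp (h _ h1)

end CfsgLib.CoreGen
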