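import Mathlib

/-!
Reflexive sesquilinear forms with trace-valued diagonal: hyperbolic pairs, root maps.
-/

set_option autoImplicit false

namespace CfsgLib.PolarAut

open Module

/-- Two vectors lie on one line, both nonzero or both zero. -/
def Par {F V : Type*} [Field F] [AddCommGroup V] [Module F V] (x y : V) : Prop :=
  ∃ c : F, c ≠ 0 ∧ y = c • x

/-- A symplectic or Hermitian form. -/
structure Polar (F : Type*) [Field F] (V : Type*) [AddCommGroup V] [Module F V] where
  /-- the form -/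
  h : V → V → F
  /-- the involution of the field -/
  τ : F →+* F
  /-- the sign -/
  ε : F
  add_left : ∀ x y z, h (x + y) z = h x z + h y z
  smul_left : ∀ (c : F) x z, h (c • x) z = c * h x z
  swap : ∀ x y, h y x = ε * τ (h x y)
  ττ : ∀ a, τ (τ a) = a
  sign : ε = 1 ∨ ε = -1
  nondeg : ∀ x, (∀ y, h x y = 0) → x = 0
  tr : ∀ v, ∃ s, s + ε * τ s = -h v v
  skew : ∃ z, z ≠ 0 ∧ z + ε * τ z = 0

namespace Polar

variable {F : Type*} [Field F] {V : Type*} [AddCommGroup V] [Module F V] (P : Polar F V)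

theorem εε : P.ε * P.ε = 1 := by rcases P.sign with h | h <;> rw [h] <;> norm_num

theorem ε_ne : P.ε ≠ 0 := left_ne_zero_of_mul_eq_one P.εε

theorem τε : P.τ P.ε = P.ε := by rcases P.sign with h | h <;> rw [h] <;> simp

theorem τ_ne {c : F} (hc : c ≠ 0) : P.τ c ≠ 0 := (map_ne_zero P.τ).mpr hc

theorem add_right (x y z : V) : P.h x (y + z) = P.h x y + P.h x z := by
  rw [P.swap (y + z) x, P.add_left, map_add, mul_add, ← P.swap, ← P.swap]

theorem smul_right (c : F) (x z : V) : P.h x (c • z) = P.τ c * P.h x z := by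
  rw [P.swap (c • z) x, P.smul_left, map_mul, mul_left_comm, ← P.swap]

@[simp] theorem zero_left (z : V) : P.h 0 z = 0 := by
  have := P.smul_left 0 0 z; rwa [zero_smul, zero_mul] at this

@[simp] theorem zero_right (z : V) : P.h z 0 = 0 := by rw [P.swap, P.zero_left, map_zero, mul_zero]

theorem neg_left (x z : V) : P.h (-x) z = -P.h x z := by
  rw [← neg_one_smul F x, P.smul_left, neg_one_mul]

theorem neg_right (x z : V) : P.h x (-z) = -P.h x z := by
  rw [← neg_one_smul F z, P.smul_right, map_neg, map_one, neg_one_mul]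

theorem sub_left (x y z : V) : P.h (x - y) z = P.h x z - P.h y z := by
  rw [sub_eq_add_neg, P.add_left, P.neg_left, ← sub_eq_add_neg]

theorem sub_right (x y z : V) : P.h x (y - z) = P.h x y - P.h x z := by
  rw [sub_eq_add_neg, P.add_right, P.neg_right, ← sub_eq_add_neg]

theorem perp_comm {x y : V} (h : P.h x y = 0) : P.h y x = 0 := by rw [P.swap, h, map_zero, mul_zero]

theorem eq_zero_right {x : V} (h : ∀ y, P.h y x = 0) : x = 0 :=
  P.nondeg x fun y => P.perp_comm (h y)

/-- A nonzero isotropic vector. -/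
def Iso (x : V) : Prop := x ≠ 0 ∧ P.h x x = 0

/-- A hyperbolic pair. -/
structure Hyp (e f : V) : Prop where
  ee : P.h e e = 0
  ff : P.h f f = 0
  ef : P.h e f = 1

variable {P}

theorem Hyp.fe {e f : V} (H : P.Hyp e f) : P.h f e = P.ε := by rw [P.swap, H.ef, map_one, mul_one]

theorem Hyp.ne_left {e f : V} (H : P.Hyp e f) : e ≠ 0 := fun h => by
  have := H.ef; rw [h, P.zero_left] at this; exact zero_ne_one this

theorem Hyp.ne_right {e f : V} (H : P.Hyp e f) : f ≠ 0 := fun h => by
  have := H.ef; rw [h, P.zero_right] at this; exact zero_ne_one this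

theorem Hyp.isoL {e f : V} (H : P.Hyp e f) : P.Iso e := ⟨H.ne_left, H.ee⟩

theorem Hyp.isoR {e f : V} (H : P.Hyp e f) : P.Iso f := ⟨H.ne_right, H.ff⟩

variable (P)

/-- Orthogonal to both. -/
def Perp (e f x : V) : Prop := P.h x e = 0 ∧ P.h x f = 0

variable {P}

theorem Perp.symm {e f x : V} (hx : P.Perp e f x) : P.h e x = 0 ∧ P.h f x = 0 :=
  ⟨P.perp_comm hx.1, P.perp_comm hx.2⟩

theorem Perp.add {e f x y : V} (hx : P.Perp e f x) (hy : P.Perp e f y) : P.Perp e f (x + y) := by
  constructor <;> simp [P.add_left, hx.1, hx.2, hy.1, hy.2]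

theorem Perp.smul {e f x : V} (c : F) (hx : P.Perp e f x) : P.Perp e f (c • x) := by
  constructor <;> simp [P.smul_left, hx.1, hx.2]

theorem Perp.sub {e f x y : V} (hx : P.Perp e f x) (hy : P.Perp e f y) : P.Perp e f (x - y) := by
  constructor <;> simp [P.sub_left, hx.1, hx.2, hy.1, hy.2]

variable (P)

theorem perp_zero (e f : V) : P.Perp e f 0 := ⟨P.zero_left e, P.zero_left f⟩

/-- The component orthogonal to the pair. -/
def proj (e f x : V) : V := x - P.h x f • e - (P.ε * P.h x e) • f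

variable {P}

theorem Hyp.proj_perp {e f : V} (H : P.Hyp e f) (x : V) : P.Perp e f (P.proj e f x) := by
  constructor
  · simp only [Polar.proj, P.sub_left, P.smul_left, H.ee, H.fe]
    linear_combination -(P.h x e) * P.εε
  · simp only [Polar.proj, P.sub_left, P.smul_left, H.ef, H.ff]
    ring

theorem Hyp.decomp {e f : V} (_H : P.Hyp e f) (x : V) :
    x = P.h x f • e + (P.ε * P.h x e) • f + P.proj e f x := by
  simp only [Polar.proj]; abel

theorem Hyp.coords {e f : V} (H : P.Hyp e f) {a : V} (ha : P.Perp e f a) (α β : F) :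
    P.h (α • e + β • f + a) f = α ∧ P.ε * P.h (α • e + β • f + a) e = β := by
  constructor
  · simp [P.add_left, P.smul_left, H.ef, H.ff, ha.2]
  · simp only [P.add_left, P.smul_left, H.ee, H.fe, ha.1, mul_zero, zero_add, add_zero]
    linear_combination β * P.εε

theorem Hyp.eq_zero {e f : V} (H : P.Hyp e f) {a : V} (ha : P.Perp e f a)
    (h : ∀ b, P.Perp e f b → P.h a b = 0) : a = 0 := P.nondeg a fun y => by
  rw [H.decomp y, P.add_right, P.add_right, P.smul_right, P.smul_right, ha.1, ha.2,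
    h _ (H.proj_perp y)]
  simp

theorem Hyp.perp_ne {e f : V} (H : P.Hyp e f) {a : V} (ha : P.Perp e f a) (ha0 : a ≠ 0) :
    ∃ b, P.Perp e f b ∧ P.h a b = 1 := by
  obtain ⟨b, hb, hab⟩ : ∃ b, P.Perp e f b ∧ P.h a b ≠ 0 := by
    by_contra h
    push Not at h
    exact ha0 (H.eq_zero ha h)
  exact ⟨P.τ ((P.h a b)⁻¹) • b, hb.smul _, by rw [P.smul_right, P.ττ, inv_mul_cancel₀ hab]⟩

variable (P)

/-- Every isotropic vector is in a hyperbolic pair. -/
theorem exists_hyp {e : V} (he : P.Iso e) : ∃ f, P.Hyp e f := by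
  obtain ⟨y, hy⟩ : ∃ y, P.h e y ≠ 0 := by
    by_contra h
    push Not at h
    exact he.1 (P.nondeg e h)
  set y' : V := P.τ ((P.h e y)⁻¹) • y with hy'
  have h1 : P.h e y' = 1 := by rw [hy', P.smul_right, P.ττ, inv_mul_cancel₀ hy]
  obtain ⟨s, hs⟩ := P.tr y'
  refine ⟨y' + s • e, he.2, ?_, by simp [P.add_right, P.smul_right, h1, he.2]⟩
  simp only [P.add_left, P.add_right, P.smul_left, P.smul_right, h1, he.2, mul_zero, add_zero,
    P.swap e y', map_one, mul_one]
  linear_combination hs

variable {P}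

theorem Hyp.exists_hyp {e f : V} (H : P.Hyp e f) {w : V} (hw : P.Iso w) (hp : P.Perp e f w) :
    ∃ w', P.Hyp w w' ∧ P.Perp e f w' := by
  obtain ⟨b, hb, h1⟩ := H.perp_ne hp hw.1
  obtain ⟨s, hs⟩ := P.tr b
  refine ⟨b + s • w, ⟨hw.2, ?_, by simp [P.add_right, P.smul_right, h1, hw.2]⟩, hb.add (hp.smul _)⟩
  simp only [P.add_left, P.add_right, P.smul_left, P.smul_right, h1, hw.2, mul_zero, add_zero,
    P.swap w b, map_one, mul_one]
  linear_combination hs

theorem Hyp.exists_hyp' {e f : V} (H : P.Hyp e f) {w : V} (hw : P.Iso w) (hp : P.Perp e f w) :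
    ∃ w', P.Hyp w' w ∧ P.Perp e f w' := by
  obtain ⟨w', h1, h2⟩ := H.exists_hyp hw hp
  refine ⟨P.ε • w', ⟨?_, hw.2, ?_⟩, h2.smul _⟩
  · simp [P.smul_left, P.smul_right, h1.ff]
  · rw [P.smul_left, h1.fe, P.εε]

/-- The subspace orthogonal to a pair is spanned by isotropic vectors if it contains one. -/
theorem Hyp.span_iso {e f : V} (H : P.Hyp e f) {w₁ w₂ : V} (K : P.Hyp w₁ w₂) (h1 : P.Perp e f w₁)
    (h2 : P.Perp e f w₂) (Z : Submodule F V) (hZ : ∀ w, P.Iso w → P.Perp e f w → w ∈ Z) {a : V}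
    (ha : P.Perp e f a) : a ∈ Z := by
  have hr : P.proj w₁ w₂ a ∈ Z := by
    obtain ⟨s, hs⟩ := P.tr (P.proj w₁ w₂ a)
    have hp := K.proj_perp a
    set r := P.proj w₁ w₂ a with hrdef
    have hre : P.Perp e f r := by
      rw [hrdef]; exact (ha.sub (h1.smul _)).sub (h2.smul _)
    have hv : r = (r + s • w₁ + w₂) - s • w₁ - w₂ := by abel
    rw [hv]
    refine sub_mem (sub_mem (hZ _ ⟨?_, ?_⟩ ((hre.add (h1.smul _)).add h2))
      (Z.smul_mem _ (hZ _ K.isoL h1))) (hZ _ K.isoR h2)
    · intro h0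
      have := congrArg (fun x => P.h x w₁) h0
      simp [P.add_left, P.smul_left, hp.1, K.ee, K.fe, P.ε_ne] at this
    · simp only [P.add_left, P.add_right, P.smul_left, P.smul_right, hp.1, hp.2, hp.symm.1, hp.symm.2,
        K.ee, K.ff, K.ef, K.fe, mul_zero, zero_add, add_zero, mul_one]
      linear_combination hs
  rw [K.decomp a]
  exact add_mem (add_mem (Z.smul_mem _ (hZ _ K.isoL h1)) (Z.smul_mem _ (hZ _ K.isoR h2))) hr

variable (P)

/-- The root map `u(a,s)` at `e`. -/
def uMap (e a : V) (s : F) : V →ₗ[F] V where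
  toFun x := x + (P.ε * P.h x e) • (a + s • e) - P.h x a • e
  map_add' x y := by simp only [P.add_left, mul_add, add_smul]; abel
  map_smul' c x := by
    simp only [P.smul_left, RingHom.id_apply, smul_sub, smul_add, smul_smul]
    congr 3 <;> ring

theorem uMap_apply (e a : V) (s : F) (x : V) :
    P.uMap e a s x = x + (P.ε * P.h x e) • (a + s • e) - P.h x a • e := rfl

/-- The parameters of a root map. -/
def Valid (a : V) (s : F) : Prop := s + P.ε * P.τ s + P.h a a = 0

theorem exists_valid (a : V) : ∃ s, P.Valid a s := by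
  obtain ⟨s, hs⟩ := P.tr a
  exact ⟨s, by rw [Polar.Valid, hs]; ring⟩

theorem valid_zero : P.Valid 0 0 := by simp [Polar.Valid]

variable {P}

theorem Hyp.uMap_left {e f : V} (H : P.Hyp e f) {a : V} (ha : P.Perp e f a) (s : F) :
    P.uMap e a s e = e := by simp [uMap_apply, H.ee, ha.symm.1]

theorem Hyp.uMap_right {e f : V} (H : P.Hyp e f) {a : V} (ha : P.Perp e f a) (s : F) :
    P.uMap e a s f = f + a + s • e := by simp [uMap_apply, H.fe, ha.symm.2, P.εε, add_assoc]

theorem uMap_perp {e a x : V} (s : F) (hx : P.h x e = 0) :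
    P.uMap e a s x = x - P.h x a • e := by simp [uMap_apply, hx]

theorem uMap_isometry {e a : V} {s : F} (he : P.h e e = 0) (ha : P.h a e = 0) (hs : P.Valid a s)
    (x y : V) : P.h (P.uMap e a s x) (P.uMap e a s y) = P.h x y := by
  simp only [uMap_apply, P.add_left, P.sub_left, P.add_right, P.sub_right, P.smul_left, P.smul_right,
    he, ha, P.perp_comm ha, map_mul, P.τε]
  rw [P.swap y e, P.swap y a]
  unfold Valid at hs
  rcases P.sign with hh | hh <;> rw [hh] at hs ⊢
  · linear_combination (P.h x e * P.τ (P.h y e)) * hs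
  · linear_combination (P.h x e * P.τ (P.h y e)) * hs

theorem Hyp.uMap_mul {e f : V} (H : P.Hyp e f) {a b : V} (ha : P.Perp e f a) (hb : P.Perp e f b)
    (s r : F) (x : V) :
    P.uMap e a s (P.uMap e b r x) = P.uMap e (a + b) (s + r - P.h b a) x := by
  simp only [uMap_apply, P.add_left, P.sub_left, P.add_right, P.smul_left, H.ee, hb.1, ha.symm.1]
  module

theorem uMap_zero (e x : V) : P.uMap e 0 0 x = x := by simp [uMap_apply]

theorem Hyp.valid_iso {e f : V} (H : P.Hyp e f) {a : V} (ha : P.Perp e f a) (s : F) :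
    P.h (f + a + s • e) (f + a + s • e) = 0 ↔ P.Valid a s := by
  simp only [P.add_left, P.add_right, P.smul_left, P.smul_right, H.ee, H.ff, H.ef, H.fe, ha.1, ha.2,
    ha.symm.1, ha.symm.2, Valid, mul_zero, add_zero, zero_add, mul_one]
  constructor <;> intro h <;> linear_combination h

end Polar

end CfsgLib.PolarAut
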