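import Cfsg.Agent.Lib.PolarAut.Line

/-!
The map of root groups at a point induced by an automorphism.
-/

set_option autoImplicit false

namespace CfsgLib.PolarAut

open Module

variable {F : Type*} [Field F] {V : Type*} [AddCommGroup V] [Module F V]
variable {G : Type*} [Group G] {W : Type*} [Group W] {S : Geo F V G W} {φ : MulAut W}

/-- Two hyperbolic pairs related by the point map, with a second pair orthogonal to the first. -/
structure Frame (I : Ind S φ) where
  of ::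
  /-- first -/
  e : V
  /-- second -/
  f : V
  /-- image of first -/
  e' : V
  /-- image of second -/
  f' : V
  /-- third -/
  w₁ : V
  /-- fourth -/
  w₂ : V
  H : S.P.Hyp e f
  H' : S.P.Hyp e' f'
  pe : Par (F := F) (I.b e) e'
  pf : Par (F := F) (I.b f) f'
  K : S.P.Hyp w₁ w₂
  h1 : S.P.Perp e f w₁
  h2 : S.P.Perp e f w₂

theorem exists_frame (I : Ind S φ) {e f : V} (H : S.P.Hyp e f) {w₁ w₂ : V} (K : S.P.Hyp w₁ w₂)
    (h1 : S.P.Perp e f w₁) (h2 : S.P.Perp e f w₂) : Nonempty (Frame I) := by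
  have he := I.iso e H.isoL
  have hf := I.iso f H.isoR
  have hne : S.P.h (I.b e) (I.b f) ≠ 0 := fun h => one_ne_zero <| by
    rw [← H.ef]; exact (I.perp e f H.isoL H.isoR).mpr h
  set c := S.P.τ ((S.P.h (I.b e) (I.b f))⁻¹) with hc
  have hc0 : c ≠ 0 := S.P.τ_ne (inv_ne_zero hne)
  refine ⟨⟨e, f, I.b e, c • I.b f, w₁, w₂, H, ⟨he.2, (hf.smul hc0).2, ?_⟩, Par.refl _,
    Par.of_smul hc0 _, K, h1, h2⟩⟩
  rw [hc, S.P.smul_right, S.P.ττ, inv_mul_cancel₀ hne]

namespace Frame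

variable {I : Ind S φ} (R : Frame I)

theorem bperp {x : V} (hx : S.P.Iso x) (hp : S.P.Perp R.e R.f x) {y : V}
    (hy : Par (F := F) (I.b x) y) : S.P.Perp R.e' R.f' y :=
  ⟨hy.perp.mp (R.pe.perp'.mp ((I.perp x _ hx R.H.isoL).mp hp.1)),
   hy.perp.mp (R.pf.perp'.mp ((I.perp x _ hx R.H.isoR).mp hp.2))⟩

theorem surjPerp {y : V} (hy : S.P.Iso y) (hp : S.P.Perp R.e' R.f' y) :
    ∃ x, S.P.Iso x ∧ S.P.Perp R.e R.f x ∧ Par (F := F) (I.b x) y := by
  obtain ⟨x, hx, hxy⟩ := I.surj y hy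
  exact ⟨x, hx, ⟨(I.perp x _ hx R.H.isoL).mpr (hxy.perp.mpr (R.pe.perp'.mpr hp.1)),
    (I.perp x _ hx R.H.isoR).mpr (hxy.perp.mpr (R.pf.perp'.mpr hp.2))⟩, hxy⟩

theorem exists_target : ∃ v₁ v₂, S.P.Hyp v₁ v₂ ∧ S.P.Perp R.e' R.f' v₁ ∧ S.P.Perp R.e' R.f' v₂ := by
  have h := R.bperp R.K.isoL R.h1 (Par.refl _)
  obtain ⟨v₂, hv, hv2⟩ := R.H'.exists_hyp (I.iso _ R.K.isoL) h
  exact ⟨_, v₂, hv, h, hv2⟩

/-- `u(a,s)` goes to `u'(a',s')`. -/
def Img (a : V) (s : F) (a' : V) (s' : F) : Prop :=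
  S.P.Perp R.e R.f a ∧ S.P.Valid a s ∧ S.P.Perp R.e' R.f' a' ∧ S.P.Valid a' s' ∧
    ∃ g k, S.act g = S.P.uMap R.e a s ∧ S.act k = S.P.uMap R.e' a' s' ∧ φ (S.pr g) = S.pr k

theorem exists_img [Finite F] {a : V} {s : F} (ha : S.P.Perp R.e R.f a) (hs : S.P.Valid a s) :
    ∃ a' s', R.Img a s a' s' := by
  obtain ⟨g, hg, hgN⟩ := S.exists_u R.H ha hs
  obtain ⟨k, hk, hkN⟩ := S.exists_lift (y := φ (S.pr g))
    (by rw [← map_pow, ← map_pow, hgN, map_one, map_one]) ⟨_, R.H.ne_left⟩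
  have hke : S.act k R.e' = R.e' := by
    obtain ⟨l, -, hl⟩ := I.fix_point hk.symm R.H.isoL (c := 1)
      (by rw [hg, R.H.uMap_left ha, one_smul]) R.pe
    rwa [S.eigen_one hkN R.H'.ne_left hl, one_smul] at hl
  have hmod : ∀ y, S.P.Perp R.e' R.f' y → S.act k y - y ∈ Submodule.span F {R.e'} := by
    obtain ⟨v₁, v₂, Kv, hv1, hv2⟩ := R.exists_target
    let Z : Submodule F V :=
      { carrier := {y | S.act k y - y ∈ Submodule.span F ({R.e'} : Set V)}
        zero_mem' := by simp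
        add_mem' := fun {y z} hy hz => by
          show S.act k (y + z) - (y + z) ∈ Submodule.span F {R.e'}
          rw [map_add, add_sub_add_comm]
          exact add_mem hy hz
        smul_mem' := fun c y hy => by
          show S.act k (c • y) - c • y ∈ Submodule.span F {R.e'}
          rw [map_smul, ← smul_sub]
          exact Submodule.smul_mem _ _ hy }
    have hiso : ∀ y, S.P.Iso y → S.P.Perp R.e' R.f' y → y ∈ Z := by
      intro y hy hyp
      obtain ⟨x, hx, hxp, hxy⟩ := R.surjPerp hy hyp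
      have hgx : S.act g x = (-S.P.h x a) • R.e + (1 : F) • x := by
        rw [hg, Polar.uMap_perp s hxp.1, neg_smul, one_smul]; abel
      obtain ⟨α, γ, hb⟩ := I.mem_line R.H' R.H.isoL hx (S.act_iso hx) R.pe hxy hyp hgx
      have h1 := (I.equiv g k x hx hk.symm).trans (hxy.map (S.act k))
      rw [hb] at h1
      obtain ⟨c, -, hc⟩ := h1
      have hl : c * γ = 1 := by
        refine S.eigen_one_mod hkN (x := y) (c := c * α) (fun t ht => hy.1 ?_) hke ?_
        · have := hyp.2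
          rw [ht, S.P.smul_left, R.H'.ef, mul_one] at this
          rw [ht, this, zero_smul]
        · rw [hc, smul_add, smul_smul, smul_smul]; abel
      show S.act k y - y ∈ Submodule.span F {R.e'}
      rw [hc, smul_add, smul_smul, smul_smul, hl, one_smul, add_sub_cancel_right]
      exact Submodule.smul_mem _ _ (Submodule.mem_span_singleton_self _)
    exact fun y hy => R.H'.span_iso Kv hv1 hv2 Z hiso hy
  have hd := R.H'.decomp (S.act k R.f')
  have hβ : S.P.ε * S.P.h (S.act k R.f') R.e' = 1 := by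
    have := S.isom k R.f' R.e'
    rw [hke, R.H'.fe] at this
    rw [this, S.P.εε]
  rw [hβ, one_smul] at hd
  set α := S.P.h (S.act k R.f') R.f' with hα
  set a' := S.P.proj R.e' R.f' (S.act k R.f') with ha'
  have ha'p : S.P.Perp R.e' R.f' a' := R.H'.proj_perp _
  have hkf : S.act k R.f' = R.f' + a' + α • R.e' := by rw [hd]; abel
  have hv : S.P.Valid a' α := (R.H'.valid_iso ha'p α).mp (by rw [← hkf, S.isom, R.H'.ff])
  refine ⟨a', α, ha, hs, ha'p, hv, g, k, hg, R.H'.ext_map ?_ ?_ fun y hy => ?_, hk.symm⟩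
  · rw [hke, R.H'.uMap_left ha'p]
  · rw [hkf, R.H'.uMap_right ha'p]
  · obtain ⟨c, hc⟩ := Submodule.mem_span_singleton.mp (hmod y hy)
    have hky : S.act k y = y + c • R.e' := by rw [hc]; abel
    have h1 := S.isom k y R.f'
    rw [hky, hkf, hy.2] at h1
    simp [S.P.add_left, S.P.add_right, S.P.smul_left, S.P.smul_right, R.H'.ee, R.H'.ef, hy.1, hy.2,
      ha'p.symm.1] at h1
    rw [hky, Polar.uMap_perp α hy.1, show c = -S.P.h y a' from by linear_combination h1, neg_smul,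
      ← sub_eq_add_neg]

theorem uMap_inj {e f : V} (H : S.P.Hyp e f) {a b : V} (ha : S.P.Perp e f a) (hb : S.P.Perp e f b)
    {s r : F} {g k : G} (hg : S.act g = S.P.uMap e a s) (hk : S.act k = S.P.uMap e b r)
    (h : S.pr g = S.pr k) : a = b ∧ s = r := by
  obtain ⟨c, hc⟩ := S.pr_eq_iff.mp h
  have h1 := hc e
  rw [hg, hk, H.uMap_left ha, H.uMap_left hb] at h1
  have hc1 : c = 1 := smul_left_injective F H.ne_left (h1.symm.trans (one_smul F e).symm)
  have h2 := hc f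
  rw [hg, hk, H.uMap_right ha, H.uMap_right hb, hc1, one_smul] at h2
  have hs : s = r := by
    have := congrArg (fun x => S.P.h x f) h2
    simpa [S.P.add_left, S.P.smul_left, H.ef, H.ff, ha.2, hb.2] using this
  subst hs
  exact ⟨add_left_cancel (add_right_cancel h2), rfl⟩

theorem img_unique {a : V} {s : F} {a₁ a₂ : V} {s₁ s₂ : F} (h1 : R.Img a s a₁ s₁)
    (h2 : R.Img a s a₂ s₂) : a₁ = a₂ ∧ s₁ = s₂ := by
  obtain ⟨-, -, p1, -, g, k, hg, hk, e1⟩ := h1
  obtain ⟨-, -, p2, -, g', k', hg', hk', e2⟩ := h2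
  rw [S.act_inj (hg.trans hg'.symm), e2] at e1
  exact uMap_inj R.H' p1 p2 hk hk' e1.symm

theorem img_mul {a b a' b' : V} {s r s' r' : F} (h1 : R.Img a s a' s') (h2 : R.Img b r b' r') :
    R.Img (a + b) (s + r - S.P.h b a) (a' + b') (s' + r' - S.P.h b' a') := by
  obtain ⟨pa, va, pa', va', g, k, hg, hk, e1⟩ := h1
  obtain ⟨pb, vb, pb', vb', g', k', hg', hk', e2⟩ := h2
  have hgg : S.act (g * g') = S.P.uMap R.e (a + b) (s + r - S.P.h b a) :=
    LinearMap.ext fun x => by rw [S.act_mul, hg, hg', R.H.uMap_mul pa pb]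
  have hkk : S.act (k * k') = S.P.uMap R.e' (a' + b') (s' + r' - S.P.h b' a') :=
    LinearMap.ext fun x => by rw [S.act_mul, hk, hk', R.H'.uMap_mul pa' pb']
  refine ⟨pa.add pb, ?_, pa'.add pb', ?_, g * g', k * k', hgg, hkk, by rw [map_mul, map_mul, e1, e2,
    map_mul]⟩
  · refine (R.H.valid_iso (pa.add pb) _).mp ?_
    rw [← R.H.uMap_right (pa.add pb), ← hgg, S.isom, R.H.ff]
  · refine (R.H'.valid_iso (pa'.add pb') _).mp ?_
    rw [← R.H'.uMap_right (pa'.add pb'), ← hkk, S.isom, R.H'.ff]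

theorem img_zero {z : F} {a' : V} {s' : F} (h : R.Img 0 z a' s') : a' = 0 := by
  obtain ⟨-, -, pa', -, g, k, hg, hk, e⟩ := h
  obtain ⟨v₁, v₂, Kv, hv1, hv2⟩ := R.exists_target
  let Z : Submodule F V :=
    { carrier := {y | S.P.h y a' = 0}
      zero_mem' := S.P.zero_left a'
      add_mem' := fun {y u} (hy : S.P.h y a' = 0) (hu : S.P.h u a' = 0) => by
        show S.P.h (y + u) a' = 0
        rw [S.P.add_left, hy, hu, add_zero]
      smul_mem' := fun c y (hy : S.P.h y a' = 0) => by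
        show S.P.h (c • y) a' = 0
        rw [S.P.smul_left, hy, mul_zero] }
  have hiso : ∀ y, S.P.Iso y → S.P.Perp R.e' R.f' y → y ∈ Z := by
    intro y hy hyp
    obtain ⟨x, hx, hxp, hxy⟩ := R.surjPerp hy hyp
    obtain ⟨l, -, hl⟩ := I.fix_point e hx (c := 1)
      (by rw [hg, Polar.uMap_perp z hxp.1, S.P.zero_right, zero_smul, sub_zero, one_smul]) hxy
    rw [hk, Polar.uMap_perp s' hyp.1] at hl
    have := congrArg (fun t => S.P.h t R.f') hl
    simpa [Polar.sub_left, S.P.smul_left, R.H'.ef, hyp.2, Z] using this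
  exact R.H'.eq_zero pa' fun b hb => S.P.perp_comm (R.H'.span_iso Kv hv1 hv2 Z hiso hb)

theorem img_indep [Finite F] {a a₁ a₂ : V} {s r s₁ s₂ : F} (h1 : R.Img a s a₁ s₁)
    (h2 : R.Img a r a₂ s₂) : a₁ = a₂ := by
  have hz : S.P.Valid 0 (s - r) := by
    have e1 := h1.2.1
    have e2 := h2.2.1
    simp only [Polar.Valid, S.P.zero_left, map_sub] at e1 e2 ⊢
    linear_combination e1 - e2
  obtain ⟨b, t, hb⟩ := R.exists_img (S.P.perp_zero R.e R.f) hz
  obtain rfl := R.img_zero hb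
  have := R.img_mul hb h2
  simp only [zero_add, S.P.zero_right, sub_zero, sub_add_cancel] at this
  exact (R.img_unique h1 this).1

/-- The point `f + a + s e` goes to `f' + a' + s' e'`. -/
theorem img_point {a a' : V} {s s' : F} (h : R.Img a s a' s') :
    Par (F := F) (I.b (R.f + a + s • R.e)) (R.f' + a' + s' • R.e') := by
  obtain ⟨pa, -, pa', -, g, k, hg, hk, e⟩ := h
  rw [← R.H.uMap_right pa, ← R.H'.uMap_right pa', ← hg, ← hk]
  exact (I.equiv g k R.f R.H.isoR e).trans (R.pf.map (S.act k))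

end Frame

end CfsgLib.PolarAut
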