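import Cfsg.Agent.Lib.PolarAut.Form

/-!
Groups of isometries of a polar form and their projective images: root elements, torus elements,
maps of isotropic points induced by automorphisms.
-/

set_option autoImplicit false

namespace CfsgLib.PolarAut

open Module

namespace Polar

variable {F : Type*} [Field F] {V : Type*} [AddCommGroup V] [Module F V] {P : Polar F V}

variable (P)

/-- Scaling of a pair. -/
def dMap (e f : V) (c : F) : V →ₗ[F] V where
  toFun x := x + ((c - 1) * P.h x f) • e + (((P.τ c)⁻¹ - 1) * (P.ε * P.h x e)) • f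
  map_add' x y := by simp only [P.add_left, mul_add, add_smul]; abel
  map_smul' a x := by
    simp only [P.smul_left, RingHom.id_apply, smul_add, smul_smul]
    module

theorem dMap_apply (e f : V) (c : F) (x : V) :
    P.dMap e f c x = x + ((c - 1) * P.h x f) • e + (((P.τ c)⁻¹ - 1) * (P.ε * P.h x e)) • f := rfl

/-- Exchange of two pairs. -/
def xMap (e f v w : V) : V →ₗ[F] V where
  toFun x := x + P.h x f • (v - e) + (P.ε * P.h x e) • (w - f) + P.h x w • (e - v) +
    (P.ε * P.h x v) • (f - w)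
  map_add' x y := by simp only [P.add_left, mul_add, add_smul]; abel
  map_smul' a x := by
    simp only [P.smul_left, RingHom.id_apply, smul_add, smul_smul]
    module

theorem xMap_apply (e f v w : V) (x : V) :
    P.xMap e f v w x = x + P.h x f • (v - e) + (P.ε * P.h x e) • (w - f) + P.h x w • (e - v) +
      (P.ε * P.h x v) • (f - w) := rfl

variable {P}

theorem Hyp.dMap_left {e f : V} (H : P.Hyp e f) (c : F) : P.dMap e f c e = c • e := by
  simp [dMap_apply, H.ee, H.ef, sub_smul]

theorem Hyp.dMap_right {e f : V} (H : P.Hyp e f) (c : F) : P.dMap e f c f = (P.τ c)⁻¹ • f := by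
  simp [dMap_apply, H.ff, H.fe, P.εε, sub_smul]

theorem Hyp.dMap_perp {e f x : V} (_H : P.Hyp e f) (hx : P.Perp e f x) (c : F) :
    P.dMap e f c x = x := by
  simp [dMap_apply, hx.1, hx.2]

theorem Hyp.ext_map {e f : V} (H : P.Hyp e f) {L M : V →ₗ[F] V} (h1 : L e = M e) (h2 : L f = M f)
    (h3 : ∀ x, P.Perp e f x → L x = M x) : L = M := LinearMap.ext fun x => by
  rw [H.decomp x]; simp [h1, h2, h3 _ (H.proj_perp x)]

theorem Hyp.dMap_mul {e f : V} (H : P.Hyp e f) (c d : F) :
    (P.dMap e f c).comp (P.dMap e f d) = P.dMap e f (c * d) := by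
  refine H.ext_map ?_ ?_ fun x hx => ?_
  · simp [H.dMap_left, smul_smul, mul_comm]
  · simp [H.dMap_right, smul_smul, mul_comm]
  · simp [H.dMap_perp hx]

theorem Hyp.dMap_one {e f : V} (H : P.Hyp e f) : P.dMap e f 1 = LinearMap.id := by
  refine H.ext_map ?_ ?_ fun x hx => ?_
  · simp [H.dMap_left]
  · simp [H.dMap_right]
  · simp [H.dMap_perp hx]

theorem Hyp.h_decomp {e f : V} (H : P.Hyp e f) {a b : V} (ha : P.Perp e f a) (hb : P.Perp e f b)
    (α β γ δ : F) : P.h (α • e + β • f + a) (γ • e + δ • f + b) =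
      α * P.τ δ + P.ε * (β * P.τ γ) + P.h a b := by
  simp only [P.add_left, P.add_right, P.smul_left, P.smul_right, H.ee, H.ff, H.ef, H.fe, ha.1, ha.2,
    hb.symm.1, hb.symm.2, mul_zero, add_zero, zero_add, mul_one]
  ring

theorem Hyp.dMap_isometry {e f : V} (H : P.Hyp e f) {c : F} (hc : c ≠ 0) (x y : V) :
    P.h (P.dMap e f c x) (P.dMap e f c y) = P.h x y := by
  have hτ := P.τ_ne hc
  conv_rhs => rw [H.decomp x, H.decomp y, H.h_decomp (H.proj_perp x) (H.proj_perp y)]
  conv_lhs => rw [H.decomp x, H.decomp y]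
  simp only [map_add, map_smul, H.dMap_left, H.dMap_right, H.dMap_perp (H.proj_perp _), smul_smul]
  rw [H.h_decomp (H.proj_perp x) (H.proj_perp y)]
  simp only [map_mul, map_inv₀, P.ττ]
  field_simp

/-- The torus map of two pairs. -/
noncomputable def torusMap (P : Polar F V) (e f v w : V) (c : F) : V →ₗ[F] V :=
  (P.dMap e f c).comp ((P.xMap e f v w).comp ((P.dMap e f c⁻¹).comp (P.xMap e f v w)))

section Quad

variable {e f v w : V} (H : P.Hyp e f) (K : P.Hyp v w) (hv : P.Perp e f v) (hw : P.Perp e f w)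

include H K hv hw

theorem xMap_values : P.xMap e f v w e = v ∧ P.xMap e f v w f = w ∧ P.xMap e f v w v = e ∧
    P.xMap e f v w w = f := by
  refine ⟨?_, ?_, ?_, ?_⟩ <;>
    simp [xMap_apply, H.ee, H.ff, H.ef, H.fe, K.ee, K.ff, K.ef, K.fe, hv.1, hv.2, hw.1, hw.2,
      hv.symm.1, hv.symm.2, hw.symm.1, hw.symm.2, P.εε]

theorem xMap_invol : (P.xMap e f v w).comp (P.xMap e f v w) = LinearMap.id := LinearMap.ext fun x => by
  obtain ⟨h1, h2, h3, h4⟩ := xMap_values H K hv hw
  rw [LinearMap.comp_apply, LinearMap.id_apply, xMap_apply P e f v w x]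
  simp only [map_add, map_smul, map_sub, h1, h2, h3, h4]
  rw [xMap_apply P e f v w x]
  module

theorem xMap_isometry (x y : V) : P.h (P.xMap e f v w x) (P.xMap e f v w y) = P.h x y := by
  simp only [xMap_apply, P.add_left, P.add_right, P.smul_left, P.smul_right, P.sub_left, P.sub_right,
    H.ee, H.ff, H.ef, H.fe, K.ee, K.ff, K.ef, K.fe, hv.1, hv.2, hw.1, hw.2, hv.symm.1, hv.symm.2,
    hw.symm.1, hw.symm.2, map_mul, P.τε, sub_zero, zero_sub]
  rw [P.swap y e, P.swap y f, P.swap y v, P.swap y w]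
  linear_combination (P.h x e * P.τ (P.h y f) + P.h x v * P.τ (P.h y w) - P.h x e * P.τ (P.h y w)
    - P.h x v * P.τ (P.h y f)) * P.εε

theorem torusMap_values {c : F} (hc : c ≠ 0) :
    P.torusMap e f v w c e = c • e ∧ P.torusMap e f v w c f = (P.τ c)⁻¹ • f ∧
      P.torusMap e f v w c w = P.τ c • w := by
  obtain ⟨h1, h2, h3, h4⟩ := xMap_values H K hv hw
  refine ⟨?_, ?_, ?_⟩
  · simp [torusMap, h1, H.dMap_perp hv, h3, H.dMap_left]
  · simp [torusMap, h2, H.dMap_perp hw, h4, H.dMap_right]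
  · simp [torusMap, h4, H.dMap_right, h2, H.dMap_perp hw]

theorem torusMap_isometry {c : F} (hc : c ≠ 0) (x y : V) :
    P.h (P.torusMap e f v w c x) (P.torusMap e f v w c y) = P.h x y := by
  simp only [torusMap, LinearMap.comp_apply]
  rw [H.dMap_isometry hc, xMap_isometry H K hv hw, H.dMap_isometry (inv_ne_zero hc),
    xMap_isometry H K hv hw]

theorem det_torusMap {c : F} (hc : c ≠ 0) : LinearMap.det (P.torusMap e f v w c) = 1 := by
  have h1 : LinearMap.det (P.xMap e f v w) * LinearMap.det (P.xMap e f v w) = 1 := by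
    rw [← LinearMap.det_comp, xMap_invol H K hv hw, LinearMap.det_id]
  have h2 : LinearMap.det (P.dMap e f c) * LinearMap.det (P.dMap e f c⁻¹) = 1 := by
    rw [← LinearMap.det_comp, H.dMap_mul, mul_inv_cancel₀ hc, H.dMap_one, LinearMap.det_id]
  simp only [torusMap, LinearMap.det_comp]
  linear_combination (LinearMap.det (P.xMap e f v w) * LinearMap.det (P.xMap e f v w)) * h2 + h1

end Quad

theorem eq_one_of_pow_char [Finite F] {x : F} {k : ℕ} (h : x ^ (ringChar F ^ k) = 1) : x = 1 := by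
  haveI := Fact.mk (CharP.char_is_prime F (ringChar F))
  exact iterateFrobenius_inj F (ringChar F) k (by simp [iterateFrobenius_def, h])

theorem uMap_pow {e f : V} (H : P.Hyp e f) {a : V} (ha : P.Perp e f a) (s : F) (k : ℕ) :
    ∃ r : F, (P.uMap e a s : Module.End F V) ^ k = P.uMap e ((k : F) • a) r ∧
      (a = 0 → r = k * s) := by
  induction k with
  | zero => exact ⟨0, LinearMap.ext fun x => by simp [uMap_zero], fun _ => by simp⟩
  | succ k ih =>
    obtain ⟨r, hr, hr0⟩ := ih
    refine ⟨r + s - P.h a ((k : F) • a), LinearMap.ext fun x => ?_, fun h => ?_⟩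
    · rw [pow_succ, Module.End.mul_apply, hr, H.uMap_mul (ha.smul _) ha]
      congr 2
      push_cast
      rw [add_smul, one_smul]
    · subst h
      rw [hr0 rfl]
      simp
      ring

theorem uMap_pow_char {e f : V} (H : P.Hyp e f) {a : V} (ha : P.Perp e f a) (s : F) :
    (P.uMap e a s : Module.End F V) ^ (ringChar F ^ 2) = 1 := by
  obtain ⟨r, hr, -⟩ := uMap_pow H ha s (ringChar F)
  have h0 : ((ringChar F : ℕ) : F) = 0 := CharP.cast_eq_zero F (ringChar F)
  rw [h0, zero_smul] at hr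
  obtain ⟨r', hr', hr0⟩ := uMap_pow H (P.perp_zero e f) r (ringChar F)
  rw [pow_two, pow_mul, hr, hr', hr0 rfl, h0]
  exact LinearMap.ext fun x => by simp [uMap_zero]

theorem det_uMap [Finite F] {e f : V} (H : P.Hyp e f) {a : V} (ha : P.Perp e f a) (s : F) :
    LinearMap.det (P.uMap e a s) = 1 := by
  have h := congrArg (fun L : Module.End F V => LinearMap.det L) (uMap_pow_char H ha s)
  simp only [map_pow, map_one] at h
  exact eq_one_of_pow_char h

end Polar

/-- A group of isometries with its projective image. -/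
structure Geo (F : Type*) [Field F] (V : Type*) [AddCommGroup V] [Module F V]
    (G : Type*) [Group G] (W : Type*) [Group W] where
  /-- the form -/
  P : Polar F V
  /-- the action -/
  act : G →* Module.End F V
  act_inj : Function.Injective act
  isom : ∀ g x y, P.h (act g x) (act g y) = P.h x y
  full : ∀ L : V →ₗ[F] V, (∀ x y, P.h (L x) (L y) = P.h x y) → LinearMap.det L = 1 → ∃ g, act g = L
  /-- the projection -/
  pr : G →* W
  surj : Function.Surjective pr
  ker : ∀ g, pr g = 1 ↔ ∃ c : F, ∀ x, act g x = c • x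

namespace Geo

variable {F : Type*} [Field F] {V : Type*} [AddCommGroup V] [Module F V]
variable {G : Type*} [Group G] {W : Type*} [Group W] (S : Geo F V G W)

theorem act_mul (g k : G) (x : V) : S.act (g * k) x = S.act g (S.act k x) := by
  rw [map_mul]; rfl

theorem act_one (x : V) : S.act 1 x = x := by rw [map_one]; rfl

theorem act_inv_act (g : G) (x : V) : S.act g⁻¹ (S.act g x) = x := by
  rw [← act_mul, inv_mul_cancel, act_one]

theorem act_act_inv (g : G) (x : V) : S.act g (S.act g⁻¹ x) = x := by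
  rw [← act_mul, mul_inv_cancel, act_one]

theorem act_injective (g : G) : Function.Injective (S.act g) := fun x y h => by
  rw [← S.act_inv_act g x, h, act_inv_act]

theorem act_iso {g : G} {x : V} (hx : S.P.Iso x) : S.P.Iso (S.act g x) :=
  ⟨fun h => hx.1 (S.act_injective g (by rw [h, map_zero])), by rw [S.isom, hx.2]⟩

theorem pr_eq_iff {g k : G} : S.pr g = S.pr k ↔ ∃ c : F, ∀ x, S.act g x = c • S.act k x := by
  rw [← div_eq_one, ← map_div, S.ker]
  constructor
  · rintro ⟨c, hc⟩
    exact ⟨c, fun x => by rw [← hc (S.act k x), ← act_mul, div_mul_cancel]⟩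
  · rintro ⟨c, hc⟩
    refine ⟨c, fun x => ?_⟩
    rw [div_eq_mul_inv, act_mul, hc, act_act_inv]

theorem ext {g k : G} (h : ∀ x, S.act g x = S.act k x) : g = k := S.act_inj (LinearMap.ext h)

variable [Finite F]

theorem exists_u {e f : V} (H : S.P.Hyp e f) {a : V} (ha : S.P.Perp e f a) {s : F}
    (hs : S.P.Valid a s) :
    ∃ g, S.act g = S.P.uMap e a s ∧ g ^ (ringChar F ^ 2) = 1 := by
  obtain ⟨g, hg⟩ := S.full _ (Polar.uMap_isometry H.ee ha.1 hs) (Polar.det_uMap H ha s)
  refine ⟨g, hg, S.act_inj ?_⟩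
  rw [map_pow, hg, Polar.uMap_pow_char H ha, map_one]

omit [Finite F] in
theorem exists_torus {e f v w : V} (H : S.P.Hyp e f) (K : S.P.Hyp v w) (hv : S.P.Perp e f v)
    (hw : S.P.Perp e f w) {c : F} (hc : c ≠ 0) :
    ∃ g, S.act g e = c • e ∧ S.act g f = (S.P.τ c)⁻¹ • f ∧ S.act g w = S.P.τ c • w := by
  obtain ⟨g, hg⟩ := S.full _ (Polar.torusMap_isometry H K hv hw hc) (Polar.det_torusMap H K hv hw hc)
  exact ⟨g, by rw [hg]; exact Polar.torusMap_values H K hv hw hc⟩

/-- An element of `p`-power order (at most `p²`) of `W` lifts to one such element. -/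
theorem exists_lift {y : W} (hy : y ^ (ringChar F ^ 2) = 1) (hne : ∃ x : V, x ≠ 0) :
    ∃ k, S.pr k = y ∧ k ^ (ringChar F ^ 2) = 1 := by
  classical
  cases nonempty_fintype F
  haveI := Fact.mk (CharP.char_is_prime F (ringChar F))
  obtain ⟨d, -, hd⟩ := FiniteField.card F (ringChar F)
  obtain ⟨k₀, rfl⟩ := S.surj y
  set N := ringChar F ^ 2 with hN
  set q := Fintype.card F with hq
  rw [← map_pow, S.ker] at hy
  obtain ⟨c, hc⟩ := hy
  have hc0 : c ≠ 0 := by
    obtain ⟨x, hx⟩ := hne
    rintro rfl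
    exact hx (S.act_injective _ (by rw [hc, zero_smul, map_zero]))
  set M := (q ^ 2 - 1) ^ 2 with hM
  have hq1 : 1 ≤ q := Fintype.card_pos
  obtain ⟨j, hj⟩ : N ∣ q ^ 2 := by
    rw [hN, hd]; exact pow_dvd_pow_of_dvd (dvd_pow_self _ d.ne_zero) 2
  have hmod : ∃ i, M = N * i + 1 := by
    obtain ⟨t, ht⟩ : ∃ t, q ^ 2 = t + 1 := ⟨q ^ 2 - 1, (Nat.sub_add_cancel (Nat.one_le_pow _ _ hq1)).symm⟩
    have hq2 : 2 ≤ q := Fintype.one_lt_card
    have ht1 : 1 ≤ t := by nlinarith
    refine ⟨j * (t - 1), ?_⟩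
    obtain ⟨u, rfl⟩ : ∃ u, t = u + 1 := ⟨t - 1, by omega⟩
    rw [hM, ht, Nat.add_sub_cancel, Nat.add_sub_cancel, ← mul_assoc, ← hj, ht]
    ring
  refine ⟨k₀ ^ M, ?_, ?_⟩
  · obtain ⟨i, hi⟩ := hmod
    rw [hi, pow_succ, pow_mul, map_mul, map_pow, (S.ker (k₀ ^ N)).mpr ⟨c, hc⟩, one_pow, one_mul]
  · rw [← pow_mul, mul_comm, pow_mul]
    refine S.ext fun x => ?_
    have : ∀ i : ℕ, S.act ((k₀ ^ N) ^ i) x = c ^ i • x := by
      intro i
      induction i with
      | zero => simp
      | succ i ih => rw [pow_succ', act_mul, ih, map_smul, hc, smul_smul, pow_succ]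
    rw [this, act_one]
    have h1 : c ^ M = 1 := by
      obtain ⟨r, hr⟩ : q - 1 ∣ M := dvd_pow (Nat.sub_one_dvd_pow_sub_one q 2) two_ne_zero
      rw [hr, pow_mul, hq, FiniteField.pow_card_sub_one_eq_one c hc0, one_pow]
    rw [h1, one_smul]

theorem eigen_one {k : G} (hk : k ^ (ringChar F ^ 2) = 1) {x : V} {l : F} (hx : x ≠ 0)
    (h : S.act k x = l • x) : l = 1 := by
  have : ∀ i : ℕ, S.act (k ^ i) x = l ^ i • x := by
    intro i
    induction i with
    | zero => simp
    | succ i ih => rw [pow_succ', act_mul, ih, map_smul, h, smul_smul, pow_succ]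
  have h1 := this (ringChar F ^ 2)
  rw [hk, act_one] at h1
  refine Polar.eq_one_of_pow_char (k := 2) ?_
  exact smul_left_injective F hx (h1.symm.trans (one_smul F x).symm)

theorem eigen_one_mod {k : G} (hk : k ^ (ringChar F ^ 2) = 1) {e x : V} {l c : F}
    (hind : ∀ a : F, x ≠ a • e) (he : S.act k e = e) (h : S.act k x = l • x + c • e) : l = 1 := by
  have : ∀ i : ℕ, ∃ c' : F, S.act (k ^ i) x = l ^ i • x + c' • e := by
    intro i
    induction i with
    | zero => exact ⟨0, by simp⟩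
    | succ i ih =>
      obtain ⟨c', hc'⟩ := ih
      refine ⟨l ^ i * c + c', ?_⟩
      rw [pow_succ', act_mul, hc', map_add, map_smul, map_smul, h, he, pow_succ]
      module
  obtain ⟨c', h1⟩ := this (ringChar F ^ 2)
  rw [hk, act_one] at h1
  refine Polar.eq_one_of_pow_char (k := 2) ?_
  by_contra hl
  refine hind ((1 - l ^ (ringChar F ^ 2))⁻¹ * c') ?_
  rw [← smul_smul, eq_comm, inv_smul_eq_iff₀ (sub_ne_zero.mpr (Ne.symm hl))]
  rw [sub_smul, one_smul, eq_sub_iff_add_eq, add_comm]
  exact h1.symm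

end Geo

/-- A map of isotropic points induced by an automorphism. -/
structure Ind {F : Type*} [Field F] {V : Type*} [AddCommGroup V] [Module F V]
    {G : Type*} [Group G] {W : Type*} [Group W] (S : Geo F V G W) (φ : MulAut W) where
  /-- the map -/
  b : V → V
  iso : ∀ x, S.P.Iso x → S.P.Iso (b x)
  par : ∀ x y : V, S.P.Iso x → Par (F := F) x y → Par (F := F) (b x) (b y)
  inj : ∀ x y, S.P.Iso x → S.P.Iso y → Par (F := F) (b x) (b y) → Par (F := F) x y
  surj : ∀ y, S.P.Iso y → ∃ x, S.P.Iso x ∧ Par (F := F) (b x) y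
  equiv : ∀ g k x, S.P.Iso x → φ (S.pr g) = S.pr k → Par (F := F) (b (S.act g x)) (S.act k (b x))
  perp : ∀ x y, S.P.Iso x → S.P.Iso y → (S.P.h x y = 0 ↔ S.P.h (b x) (b y) = 0)

end CfsgLib.PolarAut
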