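import Cfsg.Agent.Lib.PolarAut.Geo

/-!
Lines through isotropic points, scalar criterion, and elementary facts on induced point maps.
-/

set_option autoImplicit false

namespace CfsgLib.PolarAut

open Module

section Par

variable {F : Type*} [Field F] {V : Type*} [AddCommGroup V] [Module F V]

theorem Par.refl (x : V) : Par (F := F) x x := ⟨1, one_ne_zero, (one_smul F x).symm⟩

theorem Par.symm {x y : V} (h : Par (F := F) x y) : Par (F := F) y x := by
  obtain ⟨c, hc, rfl⟩ := h
  exact ⟨c⁻¹, inv_ne_zero hc, by rw [inv_smul_smul₀ hc]⟩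

theorem Par.trans {x y z : V} (h : Par (F := F) x y) (h' : Par (F := F) y z) : Par (F := F) x z := by
  obtain ⟨c, hc, rfl⟩ := h
  obtain ⟨d, hd, rfl⟩ := h'
  exact ⟨d * c, mul_ne_zero hd hc, (smul_smul d c x)⟩

theorem Par.of_smul {c : F} (hc : c ≠ 0) (x : V) : Par (F := F) x (c • x) := ⟨c, hc, rfl⟩

theorem Par.map {x y : V} (L : V →ₗ[F] V) (h : Par (F := F) x y) : Par (F := F) (L x) (L y) := by
  obtain ⟨c, hc, rfl⟩ := h
  exact ⟨c, hc, map_smul L c x⟩

variable {P : Polar F V}

theorem Par.perp {x y z : V} (h : Par (F := F) x y) : P.h x z = 0 ↔ P.h y z = 0 := by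
  obtain ⟨c, hc, rfl⟩ := h
  rw [P.smul_left, mul_eq_zero, or_iff_right hc]

theorem Par.perp' {x y z : V} (h : Par (F := F) x y) : P.h z x = 0 ↔ P.h z y = 0 := by
  obtain ⟨c, hc, rfl⟩ := h
  rw [P.smul_right, mul_eq_zero, or_iff_right (P.τ_ne hc)]

theorem Polar.Iso.smul {x : V} (hx : P.Iso x) {c : F} (hc : c ≠ 0) : P.Iso (c • x) :=
  ⟨smul_ne_zero hc hx.1, by rw [P.smul_left, P.smul_right, hx.2, mul_zero, mul_zero]⟩

theorem Par.iso {x y : V} (h : Par (F := F) x y) (hx : P.Iso x) : P.Iso y := by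
  obtain ⟨c, hc, rfl⟩ := h
  exact hx.smul hc

theorem Polar.Hyp.swap_pair {e f : V} (H : P.Hyp e f) : P.Hyp f (P.ε • e) :=
  ⟨H.ff, by simp [P.smul_left, P.smul_right, H.ee], by rw [P.smul_right, P.τε, H.fe, P.εε]⟩

theorem Polar.Perp.swap_pair {e f x : V} (hx : P.Perp e f x) : P.Perp f (P.ε • e) x :=
  ⟨hx.2, by simp [P.smul_right, hx.1]⟩

theorem Polar.Hyp.mem_line {e f : V} (H : P.Hyp e f) {w z : V} (hw : P.Iso w) (hwp : P.Perp e f w)
    (hz : P.Iso z) (hze : P.h z e = 0) (hzw : P.h z w = 0)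
    (hR : ∀ R, P.Iso R → P.h R e = 0 → P.h R w = 0 → P.h R z = 0) :
    ∃ α γ : F, z = α • e + γ • w := by
  obtain ⟨w', K, hw'⟩ := H.exists_hyp hw hwp
  set r := P.proj w w' (P.proj e f z) with hr
  have hdz : z = P.h z f • e + P.proj e f z := by
    conv_lhs => rw [H.decomp z, hze, mul_zero, zero_smul, add_zero]
  have hpw : P.h (P.proj e f z) w = 0 := by
    have := hzw
    rw [hdz, P.add_left, P.smul_left, hwp.symm.1, mul_zero, zero_add] at this
    exact this
  have hdp : P.proj e f z = P.h (P.proj e f z) w' • w + r := by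
    conv_lhs => rw [K.decomp (P.proj e f z), hpw, mul_zero, zero_smul, add_zero]
  refine ⟨P.h z f, P.h (P.proj e f z) w', ?_⟩
  suffices h0 : r = 0 by
    conv_lhs => rw [hdz, hdp, h0, add_zero]
  by_contra hr0
  have hrK := K.proj_perp (P.proj e f z)
  rw [← hr] at hrK
  have hrH : P.Perp e f r := by
    rw [hr]; exact ((H.proj_perp z).sub (hwp.smul _)).sub (hw'.smul _)
  have hz2 : z = P.h z f • e + P.h (P.proj e f z) w' • w + r := by
    conv_lhs => rw [hdz, hdp]
    rw [add_assoc]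
  have hrr : P.h r r = 0 := by
    have := hz.2
    rw [hz2] at this
    simpa [P.add_left, P.add_right, P.smul_left, P.smul_right, H.ee, hw.2, hwp.1, hwp.symm.1, hrH.1,
      hrH.symm.1, hrK.1, hrK.symm.1] using this
  obtain ⟨r', Kr, hr'⟩ := H.exists_hyp ⟨hr0, hrr⟩ hrH
  set y := P.proj w w' r' with hy
  have hyH : P.Perp e f y := by rw [hy]; exact (hr'.sub (hwp.smul _)).sub (hw'.smul _)
  have hyK : P.Perp w w' y := by rw [hy]; exact K.proj_perp r'
  have hry : P.h r y = 1 := by
    rw [hy, Polar.proj, P.sub_right, P.sub_right, P.smul_right, P.smul_right, hrK.1, hrK.2, Kr.ef]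
    simp
  obtain ⟨s, hs⟩ := P.tr y
  have hyr : P.h y r = P.ε := by rw [P.swap, hry, map_one, mul_one]
  have hRR : P.h (y + s • r) (y + s • r) = 0 := by
    simp only [P.add_left, P.add_right, P.smul_left, P.smul_right, hry, hyr, hrr]
    linear_combination hs
  have hR0 : y + s • r ≠ 0 := fun h => by
    have := congrArg (fun x => P.h r x) h
    simp [P.add_right, P.smul_right, hry, hrr] at this
  have := hR (y + s • r) ⟨hR0, hRR⟩ (by simp [P.add_left, P.smul_left, hyH.1, hrH.1])
    (by simp [P.add_left, P.smul_left, hyK.1, hrK.1])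
  rw [hz2] at this
  simp [P.add_left, P.add_right, P.smul_left, P.smul_right, hyH.1, hyK.1, hrH.1, hrK.1, hrr, hyr,
    P.ε_ne] at this

/-- A linear map fixing all isotropic points is a scalar. -/
theorem Polar.Hyp.scalar_of_iso {e f : V} (H : P.Hyp e f) {w₁ w₂ : V} (K : P.Hyp w₁ w₂)
    (h1 : P.Perp e f w₁) (h2 : P.Perp e f w₂) (R : V →ₗ[F] V)
    (hR : ∀ x, P.Iso x → ∃ c : F, R x = c • x) : ∃ c : F, ∀ x, R x = c • x := by
  have pair : ∀ u v, P.Hyp u v → ∃ c : F, R u = c • u ∧ R v = c • v := by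
    intro u v U
    obtain ⟨z, hz0, hz⟩ := P.skew
    obtain ⟨c₁, hc₁⟩ := hR u U.isoL
    obtain ⟨c₂, hc₂⟩ := hR v U.isoR
    have hiso : P.Iso (u + z • v) := by
      refine ⟨fun h => ?_, ?_⟩
      · have := congrArg (fun x => P.h x v) h
        simp [P.add_left, P.smul_left, U.ef, U.ff] at this
      · simp only [P.add_left, P.add_right, P.smul_left, P.smul_right, U.ee, U.ff, U.ef, U.fe]
        linear_combination P.ε * hz - P.τ z * P.εε
    obtain ⟨c₃, hc₃⟩ := hR _ hiso
    rw [map_add, map_smul, hc₁, hc₂] at hc₃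
    have e1 := congrArg (fun x => P.h x v) hc₃
    have e2 := congrArg (fun x => P.h x u) hc₃
    simp only [P.add_left, P.smul_left, U.ef, U.ff, U.ee, U.fe, mul_one, mul_zero, add_zero,
      zero_add] at e1 e2
    refine ⟨c₁, hc₁, ?_⟩
    rw [hc₂]
    congr 1
    have : (c₂ - c₁) * (z * P.ε) = 0 := by linear_combination e2 - z * P.ε * e1
    exact sub_eq_zero.mp ((mul_eq_zero.mp this).resolve_right (mul_ne_zero hz0 P.ε_ne))
  obtain ⟨c, hce, hcf⟩ := pair e f H
  refine ⟨c, ?_⟩
  have key : ∀ x, P.Iso x → P.Perp e f x → R x = c • x := by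
    intro x hx hxp
    have hxe : P.Hyp (x + e) f := ⟨by simp [P.add_left, P.add_right, hx.2, H.ee, hxp.1, hxp.symm.1],
      H.ff, by simp [P.add_left, H.ef, hxp.2]⟩
    obtain ⟨c', hc', hc''⟩ := pair _ _ hxe
    have hcc : c' = c := smul_left_injective F H.ne_right (hc''.symm.trans hcf)
    rw [map_add, hce, hcc, smul_add] at hc'
    exact add_right_cancel hc'
  intro x
  let Z : Submodule F V :=
    { carrier := {y | R y = c • y}
      zero_mem' := by simp
      add_mem' := fun {a b} ha hb => by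
        show R (a + b) = c • (a + b)
        rw [map_add, ha, hb, smul_add]
      smul_mem' := fun a y hy => by
        show R (a • y) = c • a • y
        rw [map_smul, hy, smul_comm] }
  rw [H.decomp x]
  have hp : R (P.proj e f x) = c • P.proj e f x :=
    H.span_iso K h1 h2 Z (fun w hw hwp => key w hw hwp) (H.proj_perp x)
  simp [map_add, map_smul, hce, hcf, hp, smul_add, smul_comm c]

end Par

namespace Ind

variable {F : Type*} [Field F] {V : Type*} [AddCommGroup V] [Module F V]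
variable {G : Type*} [Group G] {W : Type*} [Group W] {S : Geo F V G W} {φ : MulAut W}
variable (I : Ind S φ)

theorem fix_point {g k : G} (h : φ (S.pr g) = S.pr k) {x : V} (hx : S.P.Iso x) {c : F}
    (hg : S.act g x = c • x) {y : V} (hy : Par (F := F) (I.b x) y) :
    ∃ l : F, l ≠ 0 ∧ S.act k y = l • y := by
  have hc : c ≠ 0 := by
    rintro rfl
    exact hx.1 (S.act_injective g (by rw [hg, zero_smul, map_zero]))
  have h1 := I.equiv g k x hx h
  rw [hg] at h1
  have h2 : Par (F := F) y (S.act k (I.b x)) := (hy.symm.trans (I.par x _ hx (Par.of_smul hc x))).trans h1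
  exact (h2.trans (hy.map (S.act k)))

/-- Images of points on a line stay on the image line. -/
theorem mem_line {e' f' : V} (H : S.P.Hyp e' f') {u x z y : V} (hu : S.P.Iso u) (hx : S.P.Iso x)
    (hz : S.P.Iso z) (hue : Par (F := F) (I.b u) e') (hxy : Par (F := F) (I.b x) y)
    (hyp : S.P.Perp e' f' y) {α γ : F} (hzc : z = α • u + γ • x) :
    ∃ α' γ' : F, I.b z = α' • e' + γ' • y := by
  have hxu : S.P.h x u = 0 :=
    (I.perp x u hx hu).mpr (hxy.perp.mpr (hue.perp'.mpr hyp.1))
  refine H.mem_line (hxy.iso (I.iso x hx)) hyp (I.iso z hz) (hue.perp'.mp ((I.perp z u hz hu).mp ?_))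
    (hxy.perp'.mp ((I.perp z x hz hx).mp ?_)) fun R hR hRe hRw => ?_
  · simp [hzc, S.P.add_left, S.P.smul_left, hu.2, hxu]
  · simp [hzc, S.P.add_left, S.P.smul_left, hx.2, S.P.perp_comm hxu]
  · obtain ⟨r, hr, hrR⟩ := I.surj R hR
    have h1 : S.P.h r u = 0 := (I.perp r u hr hu).mpr (hrR.perp.mpr (hue.perp'.mpr hRe))
    have h2 : S.P.h r x = 0 := (I.perp r x hr hx).mpr (hrR.perp.mpr (hxy.perp'.mpr hRw))
    have h3 : S.P.h r z = 0 := by simp [hzc, S.P.add_right, S.P.smul_right, h1, h2]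
    exact hrR.perp.mp ((I.perp r z hr hz).mp h3)

end Ind

end CfsgLib.PolarAut
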