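import Cfsg.Agent.Lib.PolarAut.Semilin

/-!
An automorphism inducing a point map is conjugation by a semilinear similitude.
-/

set_option autoImplicit false

namespace CfsgLib.PolarAut

open Module

variable {F : Type*} [Field F] {V : Type*} [AddCommGroup V] [Module F V]
variable {G : Type*} [Group G] {W : Type*} [Group W] {S : Geo F V G W} {φ : MulAut W}

theorem Frame.S_value [Finite F] {I : Ind S φ} (R : Frame I) {σ : F ≃+* F} {m : F}
    (hσ : ∀ (x : F) (a : V), S.P.Perp R.e R.f a → R.A (x • a) = σ x • R.A a)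
    (hm : ∀ a b, S.P.Perp R.e R.f a → S.P.Perp R.e R.f b → S.P.h (R.A a) (R.A b) = m * σ (S.P.h a b))
    {a a' : V} {s s' : F} (h : R.Img a s a' s') : s' = m * σ s := by
  have nz : ∀ (a : V) (s : F), a ≠ 0 → ∀ s', R.Img a s (R.A a) s' → s' = m * σ s := by
    intro a s ha0 s' h
    have hap := h.1
    obtain ⟨w, hw, hwp, hne⟩ : ∃ w, S.P.Iso w ∧ S.P.Perp R.e R.f w ∧ S.P.h a w ≠ 0 := by
      by_contra hcon
      push Not at hcon
      let Z : Submodule F V :=
        { carrier := {y | S.P.h a y = 0}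
          zero_mem' := S.P.zero_right a
          add_mem' := fun {y u} (hy : S.P.h a y = 0) (hu : S.P.h a u = 0) => by
            show S.P.h a (y + u) = 0
            rw [S.P.add_right, hy, hu, add_zero]
          smul_mem' := fun c y (hy : S.P.h a y = 0) => by
            show S.P.h a (c • y) = 0
            rw [S.P.smul_right, hy, mul_zero] }
      exact ha0 (R.H.eq_zero hap fun b hb =>
        R.H.span_iso R.K R.h1 R.h2 Z (fun w hw hwp => hcon w hw hwp) hb)
    rcases eq_or_ne s 0 with rfl | hs0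
    · -- scale to zero: use the point `f`
      have hv := h.2.2.2.1
      have hX : S.P.Iso (R.f + a + (0 : F) • R.e) := by
        refine ⟨fun hh => ?_, (R.H.valid_iso hap 0).mpr h.2.1⟩
        have := congrArg (fun t => S.P.h t R.e) hh
        simp [S.P.add_left, R.H.fe, hap.1, S.P.ε_ne] at this
      have e0 : S.P.h (R.f + a + (0 : F) • R.e) R.f = 0 := by
        simp [S.P.add_left, R.H.ff, hap.2]
      have := (R.img_point h).perp.mp (R.pf.perp'.mp ((I.perp _ _ hX R.H.isoR).mp e0))
      simpa [S.P.add_left, S.P.smul_left, R.H'.ff, R.H'.ef, h.2.2.1.2] using this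
    · set c := S.P.τ (-s / S.P.h a w) with hc
      have hc0 : c ≠ 0 := S.P.τ_ne (div_ne_zero (neg_ne_zero.mpr hs0) hne)
      have hcw : S.P.h a (c • w) = -s := by
        rw [hc, S.P.smul_right, S.P.ττ, div_mul_cancel₀ _ hne]
      obtain ⟨hY, -⟩ := R.img_iso (hw.smul hc0) (hwp.smul c) (Par.refl _)
      have pY := R.img_point hY
      have pX := R.img_point h
      have hX : S.P.Iso (R.f + a + s • R.e) := by
        refine ⟨fun hh => ?_, (R.H.valid_iso hap s).mpr h.2.1⟩
        have := congrArg (fun t => S.P.h t R.e) hh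
        simp [S.P.add_left, S.P.smul_left, R.H.fe, R.H.ee, hap.1, S.P.ε_ne] at this
      have hY' : S.P.Iso (R.f + c • w + (0 : F) • R.e) := by
        refine ⟨fun hh => ?_, (R.H.valid_iso (hwp.smul c) 0).mpr hY.2.1⟩
        have := congrArg (fun t => S.P.h t R.e) hh
        simp [S.P.add_left, R.H.fe, (hwp.smul c).1, S.P.ε_ne] at this
      have hp := hwp.smul c
      have e0 : S.P.h (R.f + a + s • R.e) (R.f + c • w + (0 : F) • R.e) = 0 := by
        simp only [zero_smul, add_zero, S.P.add_left, S.P.smul_left, S.P.add_right, R.H.ff, R.H.ef,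
          hap.2, hp.symm.1, hp.symm.2, hcw]
        ring
      have e1 := pX.perp.mp (pY.perp'.mp ((I.perp _ _ hX hY').mp e0))
      have hAp := R.A_perp hp
      have hAa := R.A_perp hap
      simp only [zero_smul, add_zero, S.P.add_left, S.P.smul_left, S.P.add_right, R.H'.ff, R.H'.ef,
        hAa.2, hAp.symm.1, hAp.symm.2, hm a (c • w) hap hp, hcw, map_neg] at e1
      linear_combination e1
  obtain rfl := R.img_A h
  rcases eq_or_ne a 0 with rfl | ha0
  · have hw0 := R.K.isoL.1
    obtain ⟨h1, -⟩ := R.img_iso R.K.isoL R.h1 (Par.refl _)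
    have h3 := R.img_mul h1 h
    simp only [S.P.zero_left, sub_zero, zero_add, add_zero, R.A_zero] at h3
    exact nz R.w₁ s hw0 s' h3
  · exact nz a s ha0 s' h

/-- **Main theorem.** -/
theorem exists_similitude [Finite F] [Finite V] (I : Ind S φ) {e f w₁ w₂ : V} (H : S.P.Hyp e f)
    (K : S.P.Hyp w₁ w₂) (h1 : S.P.Perp e f w₁) (h2 : S.P.Perp e f w₂) :
    ∃ (T : V → V) (σ : F ≃+* F) (m : F), m ≠ 0 ∧ S.P.τ m = m ∧ (∀ x y, T (x + y) = T x + T y) ∧
      (∀ (c : F) x, T (c • x) = σ c • T x) ∧ Function.Bijective T ∧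
      (∀ x y, S.P.h (T x) (T y) = m * σ (S.P.h x y)) ∧
      ∀ g k, φ (S.pr g) = S.pr k → ∃ c : F, ∀ x, S.act k (T x) = c • T (S.act g x) := by
  obtain ⟨R⟩ := exists_frame I H K h1 h2
  obtain ⟨σ, hσ⟩ := R.exists_semilinear
  obtain ⟨m, hm0, hτm, hm⟩ := R.exists_m hσ
  let T : V → V := fun x =>
    (σ (S.P.h x R.f) * m) • R.e' + σ (S.P.ε * S.P.h x R.e) • R.f' + R.A (S.P.proj R.e R.f x)
  have Tadd : ∀ x y, T (x + y) = T x + T y := fun x y => by
    have : S.P.proj R.e R.f (x + y) = S.P.proj R.e R.f x + S.P.proj R.e R.f y := by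
      simp only [Polar.proj, S.P.add_left, mul_add, add_smul]; abel
    simp only [T, this, R.A_add (R.H.proj_perp x) (R.H.proj_perp y), S.P.add_left, mul_add, map_add,
      add_mul, add_smul]
    abel
  have Tsmul : ∀ (c : F) x, T (c • x) = σ c • T x := fun c x => by
    have : S.P.proj R.e R.f (c • x) = c • S.P.proj R.e R.f x := by
      simp only [Polar.proj, S.P.smul_left, smul_sub, smul_smul]; congr 2; ring
    simp only [T, this, hσ c _ (R.H.proj_perp x), S.P.smul_left, map_mul, smul_add, smul_smul]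
    congr 3 <;> ring
  have Th : ∀ x y, S.P.h (T x) (T y) = m * σ (S.P.h x y) := fun x y => by
    conv_rhs => rw [R.H.decomp x, R.H.decomp y, R.H.h_decomp (R.H.proj_perp x) (R.H.proj_perp y)]
    simp only [T, R.H'.h_decomp (R.A_perp (R.H.proj_perp x)) (R.A_perp (R.H.proj_perp y)),
      hm _ _ (R.H.proj_perp x) (R.H.proj_perp y), map_add, map_mul, hτm, Frame.ringEquiv_τ,
      Frame.sigma_ε]
    ring
  have T0 : T 0 = 0 := by have := Tsmul 0 0; rwa [zero_smul, map_zero, zero_smul] at this
  have Tinj : Function.Injective T := fun x y hxy => by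
    refine sub_eq_zero.mp (S.P.nondeg _ fun z => ?_)
    have e1 := Th x z
    rw [hxy, Th] at e1
    rw [S.P.sub_left, σ.injective (mul_left_cancel₀ hm0 e1), sub_self]
  have Tbij : Function.Bijective T := Finite.injective_iff_bijective.mp Tinj
  have Tiso : ∀ {x}, S.P.Iso x → S.P.Iso (T x) := fun {x} hx =>
    ⟨fun h => hx.1 (Tinj (h.trans T0.symm)), by rw [Th, hx.2, map_zero, mul_zero]⟩
  have Tpar : ∀ {x y}, Par (F := F) x y → Par (F := F) (T x) (T y) := fun {x y} h => by
    obtain ⟨c, hc, rfl⟩ := h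
    exact ⟨σ c, by simpa using hc, Tsmul c x⟩
  -- points off `e`
  have off : ∀ a s, S.P.Perp R.e R.f a → S.P.Valid a s →
      Par (F := F) (I.b (R.f + a + s • R.e)) (T (R.f + a + s • R.e)) := by
    intro a s ha hs
    obtain ⟨s', h⟩ := R.exists_S ha hs
    have hp := R.img_point h
    rw [R.S_value hσ hm h] at hp
    have hr : R.f + a + s • R.e = s • R.e + (1 : F) • R.f + a := by rw [one_smul]; abel
    obtain ⟨c1, c2⟩ := R.H.coords ha s 1
    have hpj : S.P.proj R.e R.f (R.f + a + s • R.e) = a := by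
      rw [Polar.proj, hr, c1, c2]; abel
    have : T (R.f + a + s • R.e) = R.f' + R.A a + (m * σ s) • R.e' := by
      simp only [T, hpj]
      rw [hr, c1, c2, map_one, one_smul, mul_comm]
      abel
    rwa [this]
  have key : ∀ x, S.P.Iso x → Par (F := F) (I.b x) (T x) := by
    intro x hx
    rcases eq_or_ne (S.P.h x R.e) 0 with hxe | hxe
    · obtain ⟨z, hz⟩ := Tbij.2 (I.b x)
      have hz0 : z ≠ 0 := fun h => (I.iso x hx).1 (by rw [← hz, h, T0])
      have hziso : S.P.Iso z := ⟨hz0, by
        have e1 := Th z z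
        rw [hz, (I.iso x hx).2, zero_eq_mul] at e1
        simpa using e1.resolve_left hm0⟩
      have hTe : T R.e = m • R.e' := by
        have hd : R.e = (1 : F) • R.e + (0 : F) • R.f + 0 := by simp
        obtain ⟨c1, c2⟩ := R.H.coords (S.P.perp_zero R.e R.f) 1 0
        rw [← hd] at c1 c2
        simp [T, Polar.proj, c1, c2, R.A_zero, R.H.ee, R.H.ef]
      have hze : S.P.h z R.e = 0 := by
        have e1 := Th z R.e
        rw [hz, hTe, S.P.smul_right, R.pe.perp'.mp ((I.perp x _ hx R.H.isoL).mp hxe), mul_zero,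
          zero_eq_mul] at e1
        simpa using e1.resolve_left hm0
      have hX : ∀ a, S.P.Perp R.e R.f a → ∀ s, S.P.Valid a s →
          (S.P.h (R.f + a + s • R.e) x = 0 ↔ S.P.h (R.f + a + s • R.e) z = 0) := by
        intro a ha s hs
        have hXi : S.P.Iso (R.f + a + s • R.e) := by
          refine ⟨fun hh => ?_, (R.H.valid_iso ha s).mpr hs⟩
          have := congrArg (fun t => S.P.h t R.e) hh
          simp [S.P.add_left, S.P.smul_left, R.H.fe, R.H.ee, ha.1, S.P.ε_ne] at this
        rw [I.perp _ _ hXi hx, (off a s ha hs).perp, ← hz, Th, mul_eq_zero, or_iff_right hm0,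
          EmbeddingLike.map_eq_zero_iff]
      set α := S.P.h x R.f with hα
      set γ := S.P.h z R.f with hγ
      set r := S.P.proj R.e R.f x with hr
      set r' := S.P.proj R.e R.f z with hr'
      have hrp : S.P.Perp R.e R.f r := R.H.proj_perp x
      have hrp' : S.P.Perp R.e R.f r' := R.H.proj_perp z
      have dx : x = α • R.e + r := by
        conv_lhs => rw [R.H.decomp x, hxe, mul_zero, zero_smul, add_zero]
      have dz : z = γ • R.e + r' := by
        conv_lhs => rw [R.H.decomp z, hze, mul_zero, zero_smul, add_zero]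
      have val : ∀ (a : V) (s : F), S.P.Perp R.e R.f a → ∀ (δ : F) (t : V), S.P.Perp R.e R.f t →
          S.P.h (R.f + a + s • R.e) (δ • R.e + t) = S.P.ε * S.P.τ δ + S.P.h a t := by
        intro a s ha δ t ht
        simp only [S.P.add_left, S.P.add_right, S.P.smul_left, S.P.smul_right, R.H.ee, R.H.fe,
          ha.1, ht.symm.1, ht.symm.2]
        ring
      rcases eq_or_ne r 0 with h0 | h0
      · have hα0 : α ≠ 0 := fun h => hx.1 (by rw [dx, h, h0]; simp)
        have hex : Par (F := F) R.e x := ⟨α, hα0, by rw [dx, h0, add_zero]⟩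
        exact ((I.par R.e x R.H.isoL hex).symm.trans R.pe).trans
          ((Par.of_smul hm0 R.e').trans (hTe ▸ Tpar hex))
      · obtain ⟨a₁, ha₁, h1⟩ := R.H.perp_ne hrp h0
        set a₀ := S.P.ε • a₁ with ha₀
        have ha₀p : S.P.Perp R.e R.f a₀ := ha₁.smul _
        have h01 : S.P.h a₀ r = 1 := by
          rw [ha₀, S.P.smul_left, S.P.swap, h1, map_one, mul_one, S.P.εε]
        have hz1 : ∀ v, S.P.Perp R.e R.f v → S.P.h v r = 0 →
            S.P.h ((-(S.P.ε * S.P.τ α)) • a₀ + v) r' + S.P.ε * S.P.τ γ = 0 := by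
          intro v hv hvr
          have hp := (ha₀p.smul (-(S.P.ε * S.P.τ α))).add hv
          obtain ⟨s, hs⟩ := S.P.exists_valid ((-(S.P.ε * S.P.τ α)) • a₀ + v)
          have e1 := (hX _ hp s hs).mp (by
            rw [dx, val _ _ hp _ _ hrp, S.P.add_left, S.P.smul_left, h01, hvr]; ring)
          rw [dz, val _ _ hp _ _ hrp'] at e1
          linear_combination e1
        have hv0 : ∀ v, S.P.Perp R.e R.f v → S.P.h v r = 0 → S.P.h v r' = 0 := by
          intro v hv hvr
          have e1 := hz1 v hv hvr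
          have e2 := hz1 0 (S.P.perp_zero _ _) (S.P.zero_left r)
          rw [add_zero] at e2
          rw [S.P.add_left] at e1
          linear_combination e1 - e2
        set c := S.P.τ (S.P.h a₀ r') with hc
        have hrc : r' = c • r := by
          refine sub_eq_zero.mp (R.H.eq_zero (hrp'.sub (hrp.smul c)) fun b hb => S.P.perp_comm ?_)
          have hb' : S.P.Perp R.e R.f (b - S.P.h b r • a₀) := hb.sub (ha₀p.smul _)
          have e1 := hv0 _ hb' (by rw [S.P.sub_left, S.P.smul_left, h01, mul_one, sub_self])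
          rw [S.P.sub_left, S.P.smul_left] at e1
          rw [S.P.sub_right, S.P.smul_right, hc, S.P.ττ]
          linear_combination e1
        have hγc : γ = c * α := by
          have e2 := hz1 0 (S.P.perp_zero _ _) (S.P.zero_left r)
          rw [add_zero, S.P.smul_left] at e2
          have e3 : S.P.ε * (S.P.τ γ - S.P.τ α * S.P.h a₀ r') = 0 := by linear_combination e2
          have e4 := congrArg S.P.τ (sub_eq_zero.mp ((mul_eq_zero.mp e3).resolve_left S.P.ε_ne))
          rw [map_mul, S.P.ττ, S.P.ττ, ← hc] at e4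
          rw [e4, mul_comm]
        have hzc : z = c • x := by rw [dz, hγc, hrc, dx, smul_add, smul_smul]
        have hc0 : c ≠ 0 := fun h => hz0 (by rw [hzc, h, zero_smul])
        exact (hz ▸ Tpar ⟨c, hc0, hzc⟩ : Par (F := F) (T x) (I.b x)).symm
    · set β := S.P.ε * S.P.h x R.e with hβ
      have hβ0 : β ≠ 0 := mul_ne_zero S.P.ε_ne hxe
      set x' := β⁻¹ • x with hx'
      have hx'e : S.P.ε * S.P.h x' R.e = 1 := by
        rw [hx', S.P.smul_left, ← mul_assoc, mul_comm S.P.ε, mul_assoc, ← hβ, inv_mul_cancel₀ hβ0]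
      have hpar : Par (F := F) x x' := Par.of_smul (inv_ne_zero hβ0) x
      have d := R.H.decomp x'
      rw [hx'e, one_smul] at d
      have d' : x' = R.f + S.P.proj R.e R.f x' + S.P.h x' R.f • R.e := by
        conv_lhs => rw [d]
        abel
      have hv : S.P.Valid (S.P.proj R.e R.f x') (S.P.h x' R.f) :=
        (R.H.valid_iso (R.H.proj_perp x') _).mp (by rw [← d']; exact (hx.smul (inv_ne_zero hβ0)).2)
      have h := off _ _ (R.H.proj_perp x') hv
      rw [← d'] at h
      exact ((I.par x x' hx hpar).trans h).trans (Tpar hpar).symm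
  refine ⟨T, σ, m, hm0, hτm, Tadd, Tsmul, Tbij, Th, fun g k hgk => ?_⟩
  let Te : V ≃+ V := AddEquiv.ofBijective (AddMonoidHom.mk' T Tadd) Tbij
  have hTsymm : ∀ (c : F) x, Te.symm (σ c • x) = c • Te.symm x := fun c x => by
    apply Te.injective
    rw [Te.apply_symm_apply]
    show σ c • x = T (c • Te.symm x)
    rw [Tsmul]
    exact congrArg _ (Te.apply_symm_apply x).symm
  let L : V →ₗ[F] V :=
    { toFun := fun x => S.act g⁻¹ (Te.symm (S.act k (T x)))
      map_add' := fun x y => by rw [Tadd, map_add, map_add, map_add]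
      map_smul' := fun c x => by rw [Tsmul, map_smul, hTsymm, map_smul]; rfl }
  have hL : ∀ x, S.P.Iso x → ∃ c : F, L x = c • x := by
    intro x hx
    have h1 : Par (F := F) (T (S.act g x)) (S.act k (T x)) :=
      ((key _ (S.act_iso hx)).symm.trans (I.equiv g k x hx hgk)).trans ((key x hx).map (S.act k))
    obtain ⟨c, -, hc⟩ := h1
    refine ⟨σ.symm c, ?_⟩
    show S.act g⁻¹ (Te.symm (S.act k (T x))) = _
    rw [hc, ← σ.apply_symm_apply c, hTsymm, σ.apply_symm_apply,
      show Te.symm (T (S.act g x)) = S.act g x from Te.symm_apply_apply _, map_smul, S.act_inv_act]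
  obtain ⟨c, hc⟩ := R.H.scalar_of_iso R.K R.h1 R.h2 L hL
  refine ⟨σ c, fun x => ?_⟩
  have h := congrArg (fun t => T (S.act g t)) (hc x)
  simp only [L, LinearMap.coe_mk, AddHom.coe_mk, S.act_act_inv, map_smul, Tsmul] at h
  rwa [show T (Te.symm (S.act k (T x))) = S.act k (T x) from Te.apply_symm_apply _] at h

end CfsgLib.PolarAut
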