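import Mathlib.LinearAlgebra.Dual.Lemmas
import Mathlib.LinearAlgebra.Dimension.Finite
import Mathlib.LinearAlgebra.FiniteDimensional.Basic
import Mathlib.FieldTheory.Finite.Basic
import Mathlib.Tactic.LinearCombination
import Mathlib.Tactic.Module
import Mathlib.Tactic.FieldSimp

/-!
A group of isometries in odd characteristic which is of odd order modulo scalars and is normalized by
all products of two reflections consists of scalars.
-/

set_option autoImplicit false

namespace CfsgLib.OrthOdd

open Module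

variable {F V : Type*} [Field F] [AddCommGroup V] [Module F V] (B : V →ₗ[F] V →ₗ[F] F)

/-- The linear map underlying a reflection. -/
noncomputable def rfLin (a : V) : V →ₗ[F] V :=
  LinearMap.id - ((2 / B a a) • B.flip a).smulRight a

theorem rfLin_apply (a x : V) : rfLin B a x = x - (2 / B a a * B x a) • a := by
  simp [rfLin]

theorem rfLin_invol (a x : V) : rfLin B a (rfLin B a x) = x := by
  rw [rfLin_apply, rfLin_apply, map_sub, map_smul, LinearMap.sub_apply, LinearMap.smul_apply, smul_eq_mul]
  rcases eq_or_ne (B a a) 0 with h | h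
  · simp [h]
  · rw [sub_sub, ← add_smul]
    convert sub_zero x using 2
    rw [show 2 / B a a * B x a + 2 / B a a * (B x a - 2 / B a a * B x a * B a a) = 0 by field_simp; ring, zero_smul]

/-- The reflection of a vector (the identity for isotropic vectors). -/
noncomputable def rf (a : V) : V ≃ₗ[F] V :=
  LinearEquiv.ofLinear (rfLin B a) (rfLin B a) (LinearMap.ext fun x => rfLin_invol B a x)
    (LinearMap.ext fun x => rfLin_invol B a x)

theorem rf_apply (a x : V) : rf B a x = x - (2 / B a a * B x a) • a := rfLin_apply B a x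

theorem rf_sq (a : V) : rf B a * rf B a = 1 := LinearEquiv.ext fun x => rfLin_invol B a x

theorem rf_inv (a : V) : (rf B a)⁻¹ = rf B a := inv_eq_of_mul_eq_one_right (rf_sq B a)

theorem rf_fix {a x : V} (h : B x a = 0) : rf B a x = x := by simp [rf_apply, h]

theorem rf_smul {c : F} (hc : c ≠ 0) (a : V) : rf B (c • a) = rf B a := LinearEquiv.ext fun x => by
  rw [rf_apply, rf_apply, smul_smul]
  simp only [map_smul, LinearMap.smul_apply, smul_eq_mul]
  congr 2
  rcases eq_or_ne (B a a) 0 with h | h
  · simp [h]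
  · field_simp

theorem rf_self {a : V} (ha : B a a ≠ 0) : rf B a a = -a := by
  rw [rf_apply, div_mul_cancel₀ _ ha, two_smul]; abel

theorem rf_swap (hs : ∀ x y, B x y = B y x) {a c : V} (h1 : B a a = B c c) (h2 : B (a - c) (a - c) ≠ 0) :
    rf B (a - c) a = c := by
  rw [rf_apply, show 2 / B (a - c) (a - c) * B a (a - c) = 1 from ?_, one_smul, sub_sub_cancel]
  rw [div_mul_eq_mul_div, div_eq_one_iff_eq h2]
  simp only [map_sub, LinearMap.sub_apply, hs c a, ← h1]
  ring

variable (hs : ∀ x y, B x y = B y x) (hnd : ∀ x, (∀ y, B x y = 0) → x = 0) (h2 : (2 : F) ≠ 0)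

include hs in
theorem rf_isom (a x y : V) : B (rf B a x) (rf B a y) = B x y := by
  rw [rf_apply, rf_apply]
  simp only [map_sub, map_smul, LinearMap.sub_apply, LinearMap.smul_apply, smul_eq_mul, hs a y]
  rcases eq_or_ne (B a a) 0 with h | h
  · simp [h]
  · field_simp; ring

theorem conj_rf {g : V ≃ₗ[F] V} (hg : ∀ x y, B (g x) (g y) = B x y) (a : V) :
    g * rf B a * g⁻¹ = rf B (g a) := by
  refine LinearEquiv.ext fun x => ?_
  show g (rf B a (g.symm x)) = rf B (g a) x
  obtain ⟨y, rfl⟩ := g.surjective x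
  rw [g.symm_apply_apply, rf_apply, rf_apply, map_sub, map_smul, hg, hg]

theorem parallel_of_rf {a b : V} (ha : B a a ≠ 0) (h : rf B a = rf B b) (h2 : (2 : F) ≠ 0) :
    ∃ c : F, a = c • b := by
  have e := rf_self B ha
  rw [h, rf_apply] at e
  refine ⟨2 / B b b * B a b * (2 : F)⁻¹, ?_⟩
  have e2 : (2 : F) • a = (2 / B b b * B a b) • b := by
    rw [two_smul]
    calc a + a = a - -a := (sub_neg_eq_add a a).symm
      _ = _ := by rw [← e, sub_sub_cancel]
  rw [mul_comm _ (2 : F)⁻¹, ← smul_smul, ← e2, inv_smul_smul₀ h2]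

include hs hnd in
/-- Separation of a vector from a finite family. -/
theorem exists_sep [FiniteDimensional F V] {k : ℕ} (v : Fin k → V) {e : V}
    (he : e ∉ Submodule.span F (Set.range v)) : ∃ x, (∀ i, B x (v i) = 0) ∧ B x e = 1 := by
  by_contra hno
  push Not at hno
  have hker : ⨅ i, LinearMap.ker (B (v i)) ≤ LinearMap.ker (B e) := by
    intro x hx
    simp only [Submodule.mem_iInf, LinearMap.mem_ker] at hx
    rw [LinearMap.mem_ker]
    by_contra hne
    refine hno ((B e x)⁻¹ • x) (fun i => ?_) ?_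
    · rw [map_smul, LinearMap.smul_apply, hs x, hx i, smul_zero]
    · rw [map_smul, LinearMap.smul_apply, hs x, smul_eq_mul, inv_mul_cancel₀ hne]
  obtain ⟨c, hc⟩ := (Submodule.mem_span_range_iff_exists_fun F).mp
    (mem_span_of_iInf_ker_le_ker (L := fun i => B (v i)) hker)
  refine he ((Submodule.mem_span_range_iff_exists_fun F).mpr ⟨c, ?_⟩)
  rw [← sub_eq_zero]
  refine hnd _ fun y => ?_
  have := LinearMap.congr_fun hc y
  simp only [map_sub, map_sum, map_smul, LinearMap.sub_apply, LinearMap.coe_sum, Finset.sum_apply] at this ⊢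
  rw [this, sub_self]

theorem exists_kernel [FiniteDimensional F V] {k : ℕ} (v : Fin k → V) (hk : k < finrank F V) :
    ∃ x, x ≠ 0 ∧ ∀ i, B x (v i) = 0 := by
  let L : V →ₗ[F] (Fin k → F) := LinearMap.pi fun i => B.flip (v i)
  obtain ⟨x, hx, hx0⟩ := Submodule.exists_mem_ne_zero_of_ne_bot
    (LinearMap.ker_ne_bot_of_finrank_lt (f := L) (by rwa [finrank_fin_fun]))
  exact ⟨x, hx0, fun i => congrFun (LinearMap.mem_ker.mp hx) i⟩

include hs hnd h2 in
/-- An anisotropic vector orthogonal to a finite family, or the orthogonal lies in its span. -/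
theorem ani_or_span [FiniteDimensional F V] {k : ℕ} (v : Fin k → V) :
    (∃ z, B z z ≠ 0 ∧ ∀ i, B z (v i) = 0) ∨
      ∀ x, (∀ i, B x (v i) = 0) → x ∈ Submodule.span F (Set.range v) := by
  by_cases h : ∃ z, B z z ≠ 0 ∧ ∀ i, B z (v i) = 0
  · exact Or.inl h
  push Not at h
  refine Or.inr fun x hx => ?_
  by_contra hne
  obtain ⟨y, hy, hyx⟩ := exists_sep B hs hnd v hne
  have hz : ∀ z, (∀ i, B z (v i) = 0) → B z z = 0 := fun z hz' => by
    by_contra h0
    obtain ⟨i, hi⟩ := h z h0
    exact hi (hz' i)
  have := hz (x + y) fun i => by rw [map_add, LinearMap.add_apply, hx, hy, add_zero]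
  simp only [map_add, LinearMap.add_apply, hz x hx, hz y hy, hs x y, hyx] at this
  exact h2 (by linear_combination this)

include hs hnd h2 in
/-- An anisotropic vector orthogonal to an anisotropic vector and another one. -/
theorem exists_ani₂ [FiniteDimensional F V] {a b : V} (ha : B a a ≠ 0)
    (hn : B a a * B b b - B a b * B a b ≠ 0 ∧ 3 ≤ finrank F V ∨ 4 ≤ finrank F V) :
    ∃ z, B z z ≠ 0 ∧ B z a = 0 ∧ B z b = 0 := by
  rcases ani_or_span B hs hnd h2 ![a, b] with ⟨z, hz, hzv⟩ | h
  · exact ⟨z, hz, hzv 0, hzv 1⟩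
  exfalso
  have hrange : Set.range ![a, b] = {a, b} := by simp [Matrix.range_cons, Matrix.range_empty, Set.pair_comm]
  have hmem : ∀ x, B x a = 0 → B x b = 0 →
      ∃ s t : F, x = s • a + t • b ∧ s * B a a + t * B b a = 0 ∧ s * B a b + t * B b b = 0 := by
    intro x hxa hxb
    have hx := h x (fun i => by fin_cases i <;> simp [hxa, hxb])
    rw [hrange, Submodule.mem_span_pair] at hx
    obtain ⟨s, t, rfl⟩ := hx
    exact ⟨s, t, rfl, by simpa using hxa, by simpa using hxb⟩
  rcases hn with ⟨hdet, hn⟩ | hn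
  · obtain ⟨x, hx0, hx⟩ := exists_kernel B ![a, b] (by omega)
    obtain ⟨s, t, rfl, e1, e2⟩ := hmem x (hx 0) (hx 1)
    rw [hs b a] at e1
    have hs' : s = 0 := (mul_eq_zero.mp (show s * (B a a * B b b - B a b * B a b) = 0 by
      linear_combination B b b * e1 - B a b * e2)).resolve_right hdet
    have ht' : t = 0 := (mul_eq_zero.mp (show t * (B a a * B b b - B a b * B a b) = 0 by
      linear_combination B a a * e2 - B a b * e1)).resolve_right hdet
    exact hx0 (by rw [hs', ht', zero_smul, zero_smul, add_zero])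
  · obtain ⟨x, hx0, hx⟩ := exists_kernel B ![a, b] (by omega)
    obtain ⟨w, -, hw⟩ := exists_sep B hs hnd (k := 0) ![] (e := x)
      (by simpa [Matrix.range_empty] using hx0)
    obtain ⟨y, hy0, hy⟩ := exists_kernel B ![a, b, w] (by omega)
    obtain ⟨s, t, rfl, e1, -⟩ := hmem x (hx 0) (hx 1)
    obtain ⟨s', t', rfl, e1', -⟩ := hmem y (hy 0) (hy 1)
    have hw' : s' * B a w + t' * B b w = 0 := by simpa using hy 2
    have hw1 : s * B a w + t * B b w = 1 := by
      rw [hs] at hw; simpa using hw
    have ht : t ≠ 0 := fun h0 => by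
      rw [h0, zero_mul, add_zero] at e1
      rw [(mul_eq_zero.mp e1).resolve_right ha, h0, zero_smul, zero_smul, add_zero] at hx0
      exact hx0 rfl
    have hst : s' * t = s * t' := mul_left_cancel₀ ha (by linear_combination t * e1' - t' * e1)
    have ht' : t' = 0 := by
      have : t' * (s * B a w + t * B b w) = 0 := by linear_combination t * hw' - B a w * hst
      rwa [hw1, mul_one] at this
    have hs' : s' = 0 := (mul_eq_zero.mp (hst.trans (by rw [ht', mul_zero]))).resolve_right ht
    exact hy0 (by rw [hs', ht', zero_smul, zero_smul, add_zero])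

include hs h2 in
/-- A subspace without anisotropic vectors is totally isotropic; stated for pairs. -/
theorem pair_zero {x y : V} (hx : B x x = 0) (hy : B y y = 0) (hxy : B (x + y) (x + y) = 0) : B x y = 0 := by
  simp only [map_add, LinearMap.add_apply, hx, hy, hs y x] at hxy
  exact (mul_eq_zero.mp (show (2 : F) * B x y = 0 by linear_combination hxy)).resolve_left h2

include hs hnd h2 in
theorem exists_ani [FiniteDimensional F V] (hn : 0 < finrank F V) : ∃ a, B a a ≠ 0 := by
  by_contra h
  push Not at h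
  haveI := Module.nontrivial_of_finrank_pos (R := F) hn
  obtain ⟨x, hx⟩ := exists_ne (0 : V)
  exact hx (hnd x fun y => pair_zero B hs h2 (h x) (h y) (h (x + y)))

include hs hnd h2 in
/-- A linear map fixing all anisotropic lines is scalar. -/
theorem scalar_of_ani [FiniteDimensional F V] (hn : 3 ≤ finrank F V) (L : V →ₗ[F] V)
    (h : ∀ u, B u u ≠ 0 → ∃ c : F, L u = c • u) : ∃ c : F, ∀ x, L x = c • x := by
  obtain ⟨u, hu⟩ := exists_ani B hs hnd h2 (by omega)
  obtain ⟨c, hc⟩ := h u hu
  refine ⟨c, ?_⟩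
  have step : ∀ u v : V, B u u ≠ 0 → B v v ≠ 0 → B (u + v) (u + v) ≠ 0 → ∀ c : F, L u = c • u → L v = c • v := by
    intro u v hu hv huv c hcu
    obtain ⟨d, hd⟩ := h v hv
    obtain ⟨e, he⟩ := h _ huv
    by_cases hpar : ∃ r : F, v = r • u
    · obtain ⟨r, rfl⟩ := hpar
      rw [map_smul, hcu, smul_comm]
    rw [map_add, hcu, hd, smul_add] at he
    have e1 : (c - e) • u = (e - d) • v := by
      rw [sub_smul, sub_smul, sub_eq_sub_iff_add_eq_add, he, add_comm]
    by_cases hed : e - d = 0
    · rw [hed, zero_smul, smul_eq_zero, sub_eq_zero] at e1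
      have hce : c = e := e1.resolve_right fun h0 => hu (by rw [h0]; simp)
      rw [hd, hce, sub_eq_zero.mp hed]
    · exact absurd ⟨(e - d)⁻¹ * (c - e), by rw [← smul_smul, e1, inv_smul_smul₀ hed]⟩ hpar
  have hani : ∀ v, B v v ≠ 0 → L v = c • v := by
    intro v hv
    by_cases hp : B (u + v) (u + v) = 0
    swap
    · exact step u v hu hv hp c hc
    by_cases hm : B (u + -v) (u + -v) = 0
    swap
    · have := step u (-v) hu (by simpa using hv) hm c hc
      rw [map_neg, smul_neg, neg_inj] at this
      exact this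
    simp only [map_add, map_neg, LinearMap.add_apply, LinearMap.neg_apply, hs v u] at hp hm
    have huv : B u v = 0 := (mul_eq_zero.mp (show (2 * 2 : F) * B u v = 0 by
      linear_combination hp - hm)).resolve_left (mul_ne_zero h2 h2)
    have hsum : B v v = -B u u := by linear_combination hp - 2 * huv
    obtain ⟨z, hz, hzu, hzv⟩ := exists_ani₂ B hs hnd h2 (b := v) hu (Or.inl ⟨by
      rw [huv, hsum, mul_zero, sub_zero]; exact mul_ne_zero hu (neg_ne_zero.mpr hu), hn⟩)
    by_cases h' : B z z = -B u u
    · -- link through `v + z`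
      have hvz : B (v + z) (v + z) ≠ 0 := by
        simp only [map_add, LinearMap.add_apply, hs v z, hzv, hsum, h']
        intro h0
        exact mul_ne_zero h2 hu (by linear_combination -h0)
      have huvz : B (u + (v + z)) (u + (v + z)) ≠ 0 := by
        simp only [map_add, LinearMap.add_apply, hs v z, hs u z, hs v u, hzu, hzv, huv, hsum, h']
        intro h0
        exact hu (by linear_combination -h0)
      have e1 := step u (v + z) hu hvz huvz c hc
      obtain ⟨d, hd⟩ := h v hv
      have e2 : L z = d • z := step v z hv hz hvz d hd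
      rw [map_add, hd, e2, ← smul_add] at e1
      have : d = c := smul_left_injective F (fun h0 => hvz (by rw [h0]; simp)) e1
      rw [hd, this]
    · have huz : B (u + z) (u + z) ≠ 0 := by
        simp only [map_add, LinearMap.add_apply, hs u z, hzu]
        intro h0
        exact h' (by linear_combination h0)
      have huzv : B (u + z + v) (u + z + v) ≠ 0 := by
        simp only [map_add, LinearMap.add_apply, hs v z, hs u z, hs v u, hzu, hzv, huv, hsum]
        intro h0
        exact hz (by linear_combination h0)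
      have e1 := step u z hu hz huz c hc
      exact step (u + z) v huz hv huzv c (by rw [map_add, hc, e1, smul_add])
  intro x
  by_cases hx : B x x = 0
  · obtain ⟨s, hs1, hsx⟩ : ∃ s : F, s ≠ 0 ∧ B (x + s • u) (x + s • u) ≠ 0 := by
      by_contra hall
      push Not at hall
      have ha := hall 1 one_ne_zero
      have hb := hall (-1) (neg_ne_zero.mpr one_ne_zero)
      simp only [map_add, map_smul, LinearMap.add_apply, LinearMap.smul_apply, smul_eq_mul, hs u x, hx] at ha hb
      exact mul_ne_zero h2 hu (by linear_combination ha + hb)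
    have := hani _ hsx
    rw [map_add, map_smul, hc, smul_add, smul_comm s c u] at this
    exact add_right_cancel this
  · exact hani x hx

/-- The hypotheses on the group. -/
structure Good (P : Subgroup (V ≃ₗ[F] V)) : Prop where
  isom : ∀ m ∈ P, ∀ x y, B (m x) (m y) = B x y
  odd : ∀ m ∈ P, ∃ (j : ℕ) (c : F), ∀ x, (m ^ (2 * j + 1)) x = c • x
  conj : ∀ a b : V, B a a ≠ 0 → B b b ≠ 0 → ∀ m ∈ P, rf B a * rf B b * m * (rf B a * rf B b)⁻¹ ∈ P

variable {P : Subgroup (V ≃ₗ[F] V)} (hP : Good B P)

include hs hnd h2 hP in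
/-- A member whose square is scalar is scalar. -/
theorem no_inv [FiniteDimensional F V] (hn : 3 ≤ finrank F V) {m : V ≃ₗ[F] V} (hm : m ∈ P) {c₀ : F}
    (hc : ∀ x, m (m x) = c₀ • x) : ∃ c : F, ∀ x, m x = c • x := by
  obtain ⟨u, hu⟩ := exists_ani B hs hnd h2 (by omega)
  have hc0 : c₀ ≠ 0 := fun h0 => hu (by
    have e := hc u
    rw [h0, zero_smul, LinearEquiv.map_eq_zero_iff, LinearEquiv.map_eq_zero_iff] at e
    rw [e]; simp)
  obtain ⟨j, c, hj⟩ := hP.odd m hm
  have hpow : ∀ i x, (m ^ (2 * i + 1)) x = c₀ ^ i • m x := by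
    intro i
    induction i with
    | zero => simp
    | succ i ih =>
      intro x
      rw [show 2 * (i + 1) + 1 = (2 * i + 1) + 2 by ring, pow_add, pow_two, LinearEquiv.mul_apply,
        LinearEquiv.mul_apply, ih, hc, smul_smul, pow_succ]
  refine ⟨(c₀ ^ j)⁻¹ * c, fun x => ?_⟩
  rw [← smul_smul, ← hj, hpow, inv_smul_smul₀ (pow_ne_zero _ hc0)]

include hs hnd h2 hP in
theorem conj_one [FiniteDimensional F V] (hn : finrank F V = 3) {a : V} (ha : B a a ≠ 0) {m : V ≃ₗ[F] V}
    (hm : m ∈ P) : rf B a * m * (rf B a)⁻¹ ∈ P := by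
  obtain ⟨x, hx, hxa, -⟩ : ∃ x, B x x ≠ 0 ∧ B x a = 0 ∧ True := by
    rcases ani_or_span B hs hnd h2 ![a] with ⟨z, hz, hzv⟩ | h
    · exact ⟨z, hz, hzv 0, trivial⟩
    exfalso
    obtain ⟨z, hz0, hz⟩ := exists_kernel B ![a] (by omega)
    have hz' := h z hz
    rw [Matrix.range_cons, Matrix.range_empty, Set.union_empty, Submodule.mem_span_singleton] at hz'
    obtain ⟨s, rfl⟩ := hz'
    have : s * B a a = 0 := by simpa using hz 0
    exact hz0 (by rw [(mul_eq_zero.mp this).resolve_right ha, zero_smul])
  have hdet : B a a * B x x - B a x * B a x ≠ 0 := by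
    rw [hs a x, hxa, mul_zero, sub_zero]; exact mul_ne_zero ha hx
  obtain ⟨y, hy, hya, hyx⟩ := exists_ani₂ B hs hnd h2 (b := x) ha (Or.inl ⟨hdet, by omega⟩)
  have hay : B a y = 0 := (hs a y).trans hya
  have hax : B a x = 0 := (hs a x).trans hxa
  have hxy : B x y = 0 := (hs x y).trans hyx
  -- the three reflections multiply to minus one
  have e : ∀ v, rf B a (rf B x (rf B y v)) = -v := by
    intro v
    let L : V →ₗ[F] V := ((rf B a).toLinearMap ∘ₗ (rf B x).toLinearMap ∘ₗ (rf B y).toLinearMap) + LinearMap.id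
    suffices hL : L = 0 from eq_neg_of_add_eq_zero_left (LinearMap.congr_fun hL v)
    have hli : LinearIndependent F ![a, x, y] := by
      rw [Fintype.linearIndependent_iff]
      intro g hg
      simp only [Fin.sum_univ_three, Matrix.cons_val_zero, Matrix.cons_val_one, Matrix.cons_val_two,
        Matrix.tail_cons, Matrix.head_cons] at hg
      have k : ∀ w, g 0 * B a w + g 1 * B x w + g 2 * B y w = 0 := fun w => by
        simpa using congrArg (fun v => B v w) hg
      intro i
      fin_cases i
      · simpa [hxa, hya, ha] using k a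
      · simpa [hax, hyx, hx] using k x
      · simpa [hay, hxy, hy] using k y
    refine (basisOfLinearIndependentOfCardEqFinrank hli (by simp [hn])).ext fun i => ?_
    rw [coe_basisOfLinearIndependentOfCardEqFinrank]
    fin_cases i
    · simp [L, rf_fix B hay, rf_fix B hax, rf_self B ha]
    · simp [L, rf_fix B hxy, rf_self B hx, rf_fix B hxa]
    · simp [L, rf_self B hy, rf_fix B hyx, rf_fix B hya]
  have := hP.conj x y hx hy m hm
  convert this using 1
  refine LinearEquiv.ext fun v => ?_
  show rf B a (m ((rf B a).symm v)) = rf B x (rf B y (m ((rf B x * rf B y)⁻¹ v)))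
  rw [show (rf B x * rf B y)⁻¹ = rf B y * rf B x by rw [_root_.mul_inv_rev, rf_inv, rf_inv]]
  have e1 : ∀ v, rf B x (rf B y v) = - rf B a v := fun v => by
    have := congrArg (rf B a) (e v)
    rw [show rf B a (rf B a (rf B x (rf B y v))) = rf B x (rf B y v) from rfLin_invol B a _, map_neg] at this
    exact this
  have e2 : rf B y (rf B x v) = - rf B a v := by
    obtain ⟨w, rfl⟩ : ∃ w, rf B x (rf B y w) = v := ⟨rf B y (rf B x v), by
      rw [show rf B y (rf B y (rf B x v)) = rf B x v from rfLin_invol B y _,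
        show rf B x (rf B x v) = v from rfLin_invol B x _]⟩
    rw [show rf B x (rf B x (rf B y w)) = rf B y w from rfLin_invol B x _,
      show rf B y (rf B y w) = w from rfLin_invol B y _, e1, map_neg, neg_neg]
    exact (rfLin_invol B a w).symm
  rw [LinearEquiv.mul_apply, e2, map_neg, map_neg, map_neg, e1, neg_neg]
  rfl

variable [Fintype F]

include h2 in
omit [AddCommGroup V] [Module F V] in
theorem exists_quad_value {α β : F} (hα : α ≠ 0) (hβ : β ≠ 0) (τ : F) : ∃ x y : F, α * (x * x) + β * (y * y) = τ := by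
  classical
  obtain ⟨x, y, h⟩ := FiniteField.exists_root_sum_quadratic (f := Polynomial.C α * Polynomial.X ^ 2)
    (g := Polynomial.C β * Polynomial.X ^ 2 - Polynomial.C τ) (Polynomial.degree_C_mul_X_pow 2 hα)
    (by rw [Polynomial.degree_sub_C] <;> simp [Polynomial.degree_C_mul_X_pow 2 hβ])
    (FiniteField.odd_card_of_char_ne_two fun hc => h2 (by
      haveI : CharP F 2 := hc ▸ ringChar.charP F
      exact_mod_cast CharP.cast_eq_zero F 2))
  refine ⟨x, y, ?_⟩
  simp only [Polynomial.eval_mul, Polynomial.eval_C, Polynomial.eval_pow, Polynomial.eval_X, Polynomial.eval_sub] at h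
  linear_combination h

include hs h2 in
/-- Changing the first vector of a product of two reflections in a plane. -/
theorem reflect_pair {a a' : V} (ha : B a a ≠ 0) (ha' : B a' a' ≠ 0) (haa' : B a a' = 0) {x y s t : F}
    (h0 : B (x • a + y • a') (x • a + y • a') ≠ 0) (hb0 : B (s • a + t • a') (s • a + t • a') ≠ 0) :
    let b := (x * s + B a' a' / B a a * y * t) • a + (x * t - y * s) • a'
    B b b ≠ 0 ∧ rf B (x • a + y • a') * rf B (s • a + t • a') = rf B a * rf B b := by
  intro b
  have e : ∀ p q : F, B (p • a + q • a') (p • a + q • a') = B a a * (p * p) + B a' a' * (q * q) := fun p q => by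
    simp only [map_add, map_smul, LinearMap.add_apply, LinearMap.smul_apply, smul_eq_mul, hs a' a, haa']
    ring
  have hbb : B b b * B a a = B (x • a + y • a') (x • a + y • a') * B (s • a + t • a') (s • a + t • a') := by
    rw [e, e, e]; field_simp; ring
  have hb : B b b ≠ 0 := fun h => mul_ne_zero h0 hb0 (by rw [← hbb, h, zero_mul])
  refine ⟨hb, LinearEquiv.ext fun v => ?_⟩
  rw [LinearEquiv.mul_apply, LinearEquiv.mul_apply, rf_apply, rf_apply, rf_apply, rf_apply]
  obtain ⟨D₀, hD₀⟩ : ∃ D, D = B (x • a + y • a') (x • a + y • a') := ⟨_, rfl⟩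
  obtain ⟨Db, hDb⟩ : ∃ D, D = B (s • a + t • a') (s • a + t • a') := ⟨_, rfl⟩
  rw [← hD₀, ← hDb, show B b b = D₀ * Db / B a a by rw [hD₀, hDb, ← hbb, mul_div_cancel_right₀ _ ha]]
  rw [← hD₀] at h0
  rw [← hDb] at hb0
  rw [e] at hD₀ hDb
  simp only [b, map_add, map_sub, map_smul, LinearMap.add_apply, LinearMap.sub_apply, LinearMap.smul_apply,
    smul_eq_mul, hs a' a, haa']
  match_scalars <;> field_simp <;> (subst hD₀; subst hDb; ring)

include hs hnd h2 hP in
/-- No product of two distinct reflections lies in the group. -/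
theorem pure [FiniteDimensional F V] (hn : 3 ≤ finrank F V) {a₀ b₀ : V} (ha₀ : B a₀ a₀ ≠ 0) (hb₀ : B b₀ b₀ ≠ 0)
    (hk : rf B a₀ * rf B b₀ ∈ P) : rf B a₀ = rf B b₀ := by
  by_contra hne
  obtain ⟨k, hkdef⟩ : ∃ k, k = rf B a₀ * rf B b₀ := ⟨_, rfl⟩
  rw [← hkdef] at hk
  -- it suffices to find a rewriting and a third vector
  suffices h : ∃ a b c : V, B a a ≠ 0 ∧ B b b ≠ 0 ∧ B c c = B a a ∧ B a c = 0 ∧ B b c = B b a ∧
      k = rf B a * rf B b by
    obtain ⟨a, b, c, ha, hb, hcc, hac, hbc, rfl⟩ := h
    set s := a - c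
    have hss : B s s ≠ 0 := by
      simp only [s, map_sub, LinearMap.sub_apply, hs c a, hac, hcc]
      intro h0; exact mul_ne_zero h2 ha (by linear_combination h0)
    have hsa : rf B s a = c := rf_swap B hs hcc.symm hss
    have hsb : rf B s b = b := rf_fix B (by simp only [s, map_sub, hbc]; ring)
    have hcb : rf B c * rf B b ∈ P := by
      have e : rf B s * (rf B a * rf B b) * (rf B s)⁻¹ = rf B c * rf B b := by
        rw [show rf B s * (rf B a * rf B b) * (rf B s)⁻¹ =
          (rf B s * rf B a * (rf B s)⁻¹) * (rf B s * rf B b * (rf B s)⁻¹) by group,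
          conj_rf B (rf_isom B hs s), conj_rf B (rf_isom B hs s), hsa, hsb]
      rcases Nat.lt_or_ge (finrank F V) 4 with h3 | h4
      · rw [← e]; exact conj_one B hs hnd h2 hP (by omega) hss hk
      · obtain ⟨z, hz, hza, hzb⟩ := exists_ani₂ B hs hnd h2 (b := b) ha (Or.inr h4)
        have hzfix : rf B z * (rf B a * rf B b) * (rf B z)⁻¹ = rf B a * rf B b := by
          rw [show rf B z * (rf B a * rf B b) * (rf B z)⁻¹ =
            (rf B z * rf B a * (rf B z)⁻¹) * (rf B z * rf B b * (rf B z)⁻¹) by group,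
            conj_rf B (rf_isom B hs z), conj_rf B (rf_isom B hs z), rf_fix B ((hs a z).trans hza),
            rf_fix B ((hs b z).trans hzb)]
        have hc := hP.conj s z hss hz _ hk
        rw [show rf B s * rf B z * (rf B a * rf B b) * (rf B s * rf B z)⁻¹ =
          rf B s * (rf B z * (rf B a * rf B b) * (rf B z)⁻¹) * (rf B s)⁻¹ by group, hzfix, e] at hc
        exact hc
    have hac' : rf B a * rf B c ∈ P := by
      have := P.mul_mem hk (P.inv_mem hcb)
      rw [_root_.mul_inv_rev, rf_inv, rf_inv, mul_assoc, ← mul_assoc (rf B b), rf_sq, one_mul] at this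
      exact this
    have hca : B c a = 0 := (hs c a).trans hac
    have hc0 : B c c ≠ 0 := hcc ▸ ha
    obtain ⟨z, hz, hza, hzc⟩ := exists_ani₂ B hs hnd h2 (b := c) ha (Or.inl ⟨by
      rw [hac, mul_zero, sub_zero]; exact mul_ne_zero ha hc0, hn⟩)
    obtain ⟨d, hd⟩ := no_inv B hs hnd h2 hP hn hac' (c₀ := 1) (fun x => by
      have hcomm : rf B c * rf B a * rf B c = rf B a := by
        have := conj_rf B (rf_isom B hs c) a
        rwa [rf_inv, rf_fix B hac] at this
      rw [one_smul, ← LinearEquiv.mul_apply,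
        show rf B a * rf B c * (rf B a * rf B c) = rf B a * (rf B c * rf B a * rf B c) by group, hcomm, rf_sq]
      rfl)
    have e1 := hd a
    have e2 := hd z
    rw [LinearEquiv.mul_apply, rf_fix B hac, rf_self B ha] at e1
    rw [LinearEquiv.mul_apply, rf_fix B hzc, rf_fix B hza] at e2
    have hd1 : d = -1 := by
      have := congrArg (fun v => B v a) e1
      simp only [map_neg, map_smul, LinearMap.neg_apply, LinearMap.smul_apply, smul_eq_mul] at this
      exact mul_right_cancel₀ ha (by linear_combination -this)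
    have := congrArg (fun v => B v z) e2
    simp only [map_smul, LinearMap.smul_apply, smul_eq_mul, hd1] at this
    exact mul_ne_zero h2 hz (by linear_combination this)
  by_cases hdeg : B a₀ a₀ * B b₀ b₀ - B a₀ b₀ * B a₀ b₀ = 0
  · -- degenerate plane
    set d := b₀ - (B a₀ b₀ / B a₀ a₀) • a₀ with hd
    have had : B a₀ d = 0 := by
      simp only [hd, map_sub, map_smul, smul_eq_mul]; field_simp; ring
    have hdd : B d d = 0 := by
      simp only [hd, map_sub, map_smul, LinearMap.sub_apply, LinearMap.smul_apply, smul_eq_mul, hs b₀ a₀]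
      field_simp
      linear_combination hdeg
    have hβ : B a₀ b₀ ≠ 0 := fun h0 => mul_ne_zero ha₀ hb₀ (by rw [h0, mul_zero, sub_zero] at hdeg; exact hdeg)
    have hdne : d ∉ Submodule.span F (Set.range ![a₀]) := by
      intro hmem
      rw [Matrix.range_cons, Matrix.range_empty, Set.union_empty, Submodule.mem_span_singleton] at hmem
      obtain ⟨c, hc⟩ := hmem
      rw [← hc, map_smul, smul_eq_mul] at had
      rw [(mul_eq_zero.mp had).resolve_right ha₀, zero_smul, eq_comm, hd, sub_eq_zero] at hc
      exact hne (by rw [hc, rf_smul B (div_ne_zero hβ ha₀)])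
    obtain ⟨g, hga, hgd⟩ := exists_sep B hs hnd ![a₀] hdne
    have hga' : B g a₀ = 0 := hga 0
    set β := B a₀ b₀ with hβdef
    set σ := (B a₀ a₀ - β * β * B g g) / (2 * β)
    refine ⟨a₀, b₀, β • g + σ • d, ha₀, hb₀, ?_, ?_, ?_, hkdef⟩
    · simp only [σ, map_add, map_smul, LinearMap.add_apply, LinearMap.smul_apply, smul_eq_mul, hdd, hgd, hs d g]
      field_simp; ring
    · simp only [map_add, map_smul, smul_eq_mul, had, hs a₀ g, hga']; ring
    · have hb : b₀ = (β / B a₀ a₀) • a₀ + d := by rw [hd]; abel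
      rw [hb]
      simp only [map_add, map_smul, LinearMap.add_apply, LinearMap.smul_apply, smul_eq_mul, had, hs a₀ g, hga',
        hgd, hs d g, hdd, hs d a₀]
      field_simp; ring
  · -- nondegenerate plane
    obtain ⟨v, hv, hva, hvb⟩ := exists_ani₂ B hs hnd h2 (b := b₀) ha₀ (Or.inl ⟨hdeg, hn⟩)
    set d₀ := b₀ - (B a₀ b₀ / B a₀ a₀) • a₀ with hd₀
    have had : B a₀ d₀ = 0 := by
      simp only [hd₀, map_sub, map_smul, smul_eq_mul]; field_simp; ring
    have hdd : B d₀ d₀ ≠ 0 := by
      simp only [hd₀, map_sub, map_smul, LinearMap.sub_apply, LinearMap.smul_apply, smul_eq_mul, hs b₀ a₀]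
      intro h0
      field_simp at h0
      exact hdeg (by linear_combination h0)
    set β := B a₀ b₀ with hβdef
    set r := β * β / (B a₀ a₀ * B b₀ b₀ - β * β) with hr
    clear_value r
    have key : ∀ p q, B (p • a₀ + q • d₀) (p • a₀ + q • d₀) = B a₀ a₀ * (p * p) + B d₀ d₀ * (q * q) := fun p q => by
      simp only [map_add, map_smul, LinearMap.add_apply, LinearMap.smul_apply, smul_eq_mul, hs d₀ a₀, had]
      ring
    have hdd' : B d₀ d₀ = B b₀ b₀ - β * β / B a₀ a₀ := by
      simp only [hd₀, map_sub, map_smul, LinearMap.sub_apply, LinearMap.smul_apply, smul_eq_mul, hs b₀ a₀,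
        ← hβdef]
      field_simp; ring
    have hvd : B v d₀ = 0 := by
      simp only [hd₀, map_sub, map_smul, smul_eq_mul, hva, hvb]; ring
    obtain ⟨p, q, hpq0, hpqv⟩ : ∃ p q : F, B a₀ a₀ * (p * p) + B d₀ d₀ * (q * q) ≠ 0 ∧
        (r = 1 ∨ B a₀ a₀ * (p * p) + B d₀ d₀ * (q * q) = B v v * (1 - r)) := by
      by_cases hr1 : r = 1
      · exact ⟨1, 0, by simpa using ha₀, Or.inl hr1⟩
      · obtain ⟨p, q, hpq⟩ := exists_quad_value h2 ha₀ hdd (B v v * (1 - r))
        exact ⟨p, q, hpq ▸ mul_ne_zero hv (sub_ne_zero.mpr (Ne.symm hr1)), Or.inr hpq⟩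
    set α := B a₀ a₀ with hα
    set δ := B d₀ d₀ with hδ
    -- an orthogonal basis of the plane beginning with the new vector
    obtain ⟨a, hadef⟩ : ∃ a, a = p • a₀ + q • d₀ := ⟨_, rfl⟩
    obtain ⟨a', ha'def⟩ : ∃ a', a' = (-(δ * q)) • a₀ + (α * p) • d₀ := ⟨_, rfl⟩
    have haa : B a a = α * (p * p) + δ * (q * q) := hadef ▸ key p q
    have ha : B a a ≠ 0 := haa ▸ hpq0
    have ha'a' : B a' a' = α * δ * B a a := by
      rw [ha'def, key, haa]; ring
    have ha'0 : B a' a' ≠ 0 := ha'a' ▸ mul_ne_zero (mul_ne_zero ha₀ hdd) ha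
    have haa' : B a a' = 0 := by
      rw [hadef, ha'def]
      simp only [map_add, map_smul, LinearMap.add_apply, LinearMap.smul_apply, smul_eq_mul, hs d₀ a₀, had, ← hα, ← hδ]
      ring
    set D := α * (p * p) + δ * (q * q) with hD
    have hA0 : a₀ = (α * p / D) • a + (-q / D) • a' := by
      rw [hadef, ha'def]
      match_scalars
      · field_simp; rw [hD]; ring
      · field_simp; ring
    have hD0 : d₀ = (δ * q / D) • a + (p / D) • a' := by
      rw [hadef, ha'def]
      match_scalars
      · field_simp; ring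
      · field_simp; rw [hD]; ring
    obtain ⟨s, t, hB0⟩ : ∃ s t, b₀ = s • a + t • a' := ⟨β / α * (α * p / D) + δ * q / D,
      β / α * (-q / D) + p / D, by
        conv_lhs => rw [show b₀ = (β / α) • a₀ + d₀ by rw [hd₀]; abel, hA0, hD0]
        module⟩
    obtain ⟨hb, hpair⟩ := reflect_pair B hs h2 ha ha'0 haa'
      (show B ((α * p / D) • a + (-q / D) • a') ((α * p / D) • a + (-q / D) • a') ≠ 0 from hA0 ▸ ha₀)
      (show B (s • a + t • a') (s • a + t • a') ≠ 0 from hB0 ▸ hb₀)
    rw [← hA0, ← hB0] at hpair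
    obtain ⟨x, y, hb', hb'def⟩ : ∃ x y : F, B (x • a + y • a') (x • a + y • a') ≠ 0 ∧
        k = rf B a * rf B (x • a + y • a') := ⟨_, _, hb, hkdef.trans hpair⟩
    -- the invariant `r` in the new coordinates
    have hr' : r * (B a' a' * (y * y)) = B a a * (x * x) := by
      have hy : y ≠ 0 := by
        rintro rfl
        refine hne ?_
        rw [zero_smul, add_zero] at hb'def
        have hx : x ≠ 0 := by rintro rfl; simp at hb'
        rw [rf_smul B hx, rf_sq] at hb'def
        exact inv_injective (by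
          rw [rf_inv B b₀]; exact inv_eq_of_mul_eq_one_right (hkdef.symm.trans hb'def))
      -- evaluate the squared cosine from the trace on `a`
      have e1 : B (k a) a = B a a * (2 * (B a a * (x * x)) / (B a a * (x * x) + B a' a' * (y * y)) - 1) := by
        rw [hb'def, LinearEquiv.mul_apply, rf_apply, rf_apply]
        simp only [map_add, map_sub, map_smul, LinearMap.add_apply, LinearMap.sub_apply, LinearMap.smul_apply,
          smul_eq_mul, hs a' a, haa']
        have : B a a * (x * x) + B a' a' * (y * y) ≠ 0 := fun h0 => hb' (by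
          simp only [map_add, map_smul, LinearMap.add_apply, LinearMap.smul_apply, smul_eq_mul, hs a' a, haa']
          linear_combination h0)
        field_simp; ring
      have e2 : B (k a) a = B a a * (2 * (β * β) / (α * B b₀ b₀) - 1) := by
        rw [hkdef, LinearEquiv.mul_apply, rf_apply, rf_apply, haa, hadef]
        simp only [hd₀, map_add, map_sub, map_smul, LinearMap.add_apply, LinearMap.sub_apply, LinearMap.smul_apply,
          smul_eq_mul, hs b₀ a₀, ← hβdef, ← hα]
        rw [hD, hdd']
        field_simp; ring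
      have h12 := mul_left_cancel₀ ha (e1.symm.trans e2)
      have hden : B a a * (x * x) + B a' a' * (y * y) ≠ 0 := fun h0 => hb' (by
        simp only [map_add, map_smul, LinearMap.add_apply, LinearMap.smul_apply, smul_eq_mul, hs a' a, haa']
        linear_combination h0)
      rw [sub_left_inj, div_eq_div_iff hden (mul_ne_zero ha₀ hb₀)] at h12
      rw [hr, div_mul_eq_mul_div, div_eq_iff (show α * B b₀ b₀ - β * β ≠ 0 from hdeg)]
      refine mul_left_cancel₀ h2 ?_
      linear_combination -h12
    have hva' : B v a = 0 := by simp [hadef, hva, hvd]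
    have hva'' : B v a' = 0 := by simp [ha'def, hva, hvd]
    obtain ⟨c, hcc, hac, hbc⟩ : ∃ c, B c c = B a a ∧ B a c = 0 ∧
        B (x • a + y • a') c = B (x • a + y • a') a := by
      by_cases hy : y = 0
      · -- the plane is a line: excluded
        exfalso
        subst hy
        rw [mul_zero, mul_zero, mul_zero] at hr'
        have hx : x = 0 := mul_self_eq_zero.mp ((mul_eq_zero.mp hr'.symm).resolve_left ha)
        subst hx
        simp at hb'
      set τ := x * B a a / (y * B a' a') with hτ
      have hτr : r * B a a = τ * τ * B a' a' := by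
        rw [hτ]; field_simp; linear_combination hr'
      rcases hpqv with hr1 | hval
      · refine ⟨τ • a', ?_, ?_, ?_⟩
        · simp only [map_smul, LinearMap.smul_apply, smul_eq_mul]
          rw [hr1, one_mul] at hτr; linear_combination -hτr
        · simp [haa']
        · simp only [map_add, map_smul, LinearMap.add_apply, LinearMap.smul_apply, smul_eq_mul, haa', hs a' a, hτ]
          field_simp; ring
      · refine ⟨τ • a' + (1 - r) • v, ?_, ?_, ?_⟩
        · simp only [map_add, map_smul, LinearMap.add_apply, LinearMap.smul_apply, smul_eq_mul, hs a' v, hva'']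
          rw [← haa] at hval
          linear_combination -hτr - (1 - r) * hval
        · simp [haa', hs a v, hva']
        · simp only [map_add, map_smul, LinearMap.add_apply, LinearMap.smul_apply, smul_eq_mul, haa', hs a' a, hτ,
            hs a v, hs a' v, hva', hva'']
          field_simp; ring
    exact ⟨a, x • a + y • a', c, ha, hb', hcc, hac, hbc, hb'def⟩

include hs hnd h2 hP in
theorem scalar_of_lines [FiniteDimensional F V] (hn : 3 ≤ finrank F V) {m : V ≃ₗ[F] V} (hm : m ∈ P)
    (h : ∀ u, B u u ≠ 0 → rf B (m u) * rf B u ∈ P) : ∃ c : F, ∀ x, m x = c • x :=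
  scalar_of_ani B hs hnd h2 hn m.toLinearMap fun u hu => by
    have hmu : B (m u) (m u) ≠ 0 := by rwa [hP.isom m hm]
    exact parallel_of_rf B hmu (pure B hs hnd h2 hP hn hmu hu (h u hu)) h2

include hP in
theorem comm_mem {m : V ≃ₗ[F] V} (hm : m ∈ P) {a b : V} (ha : B a a ≠ 0) (hb : B b b ≠ 0) :
    rf B (m a) * rf B (m b) * (rf B b * rf B a) ∈ P := by
  have h := P.mul_mem hm (hP.conj a b ha hb _ (P.inv_mem hm))
  rw [show m * (rf B a * rf B b * m⁻¹ * (rf B a * rf B b)⁻¹) =
    m * rf B a * m⁻¹ * (m * rf B b * m⁻¹) * ((rf B b)⁻¹ * (rf B a)⁻¹) by group,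
    conj_rf B (hP.isom m hm), conj_rf B (hP.isom m hm), rf_inv, rf_inv] at h
  exact h

include hs hnd h2 hP in
/-- A member with an anisotropic eigenvector is scalar. -/
theorem of_eigen [FiniteDimensional F V] (hn : 3 ≤ finrank F V) {m : V ≃ₗ[F] V} (hm : m ∈ P) {v : V}
    (hv : B v v ≠ 0) {l : F} (hl : m v = l • v) : ∃ c : F, ∀ x, m x = c • x :=
  scalar_of_lines B hs hnd h2 hP hn hm fun u hu => by
    have hl0 : l ≠ 0 := fun h0 => hv (by rw [m.map_eq_zero_iff.mp (show m v = 0 by rw [hl, h0, zero_smul])]; simp)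
    have h := comm_mem B hP hm hu hv
    rw [hl, rf_smul B hl0, mul_assoc, ← mul_assoc (rf B v), rf_sq, one_mul] at h
    exact h

include hs hnd h2 hP in
/-- A member which is not scalar is quadratic. -/
theorem quad [FiniteDimensional F V] (hn : 3 ≤ finrank F V) {m : V ≃ₗ[F] V} (hm : m ∈ P)
    (hns : ¬ ∃ c : F, ∀ x, m x = c • x) : ∃ t : F, ∀ x, m (m x) = t • m x - x := by
  have key : ∀ u, B u u ≠ 0 → ∃ c : F, (m.toLinearMap + m.symm.toLinearMap) u = c • u := by
    intro u hu
    have hiso := hP.isom m hm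
    have hmu : B (m u) (m u) ≠ 0 := by rwa [hiso]
    have hk := comm_mem B hP hm hu hmu
    obtain ⟨w, hw⟩ : ∃ w, w = rf B (m u) (m (m u)) := ⟨_, rfl⟩
    rw [show rf B (m u) * rf B (m (m u)) * (rf B (m u) * rf B u) =
      rf B (m u) * rf B (m (m u)) * (rf B (m u))⁻¹ * rf B u by rw [rf_inv]; group,
      conj_rf B (rf_isom B hs (m u)), ← hw] at hk
    have hww : B w w = B u u := by rw [hw, rf_isom B hs, hiso, hiso]
    obtain ⟨e, he⟩ := parallel_of_rf B (by rwa [hww]) (pure B hs hnd h2 hP hn (by rwa [hww]) hu hk) h2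
    have hm2 : m (m u) = e • rf B (m u) u := by
      rw [← map_smul, ← he, hw]; exact (rfLin_invol B _ _).symm
    have hee : e * e = 1 := by
      have h' := hww
      rw [he] at h'
      simp only [map_smul, LinearMap.smul_apply, smul_eq_mul] at h'
      exact (mul_eq_right₀ hu).mp (by rw [mul_assoc]; exact h')
    have hf : e * B u (m u) = -B u (m u) := by
      have h' := hiso (m u) u
      rw [hm2, rf_apply] at h'
      simp only [map_smul, map_sub, LinearMap.smul_apply, LinearMap.sub_apply, smul_eq_mul, hiso u u, hs (m u) u] at h'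
      field_simp at h'
      linear_combination -h'
    have hcases : e = -1 := by
      rcases mul_self_eq_one_iff.mp hee with h1 | h1
      · exfalso
        rw [h1, one_mul] at hf
        have hf0 : B u (m u) = 0 := (mul_eq_zero.mp (show (2 : F) * B u (m u) = 0 by linear_combination hf)).resolve_left h2
        rw [h1, one_smul, rf_fix B hf0] at hm2
        obtain ⟨j, c, hj⟩ := hP.odd m hm
        have hp : ∀ i, (m ^ (2 * i)) u = u := by
          intro i
          induction i with
          | zero => simp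
          | succ i ih => rw [show 2 * (i + 1) = 2 * i + 2 by ring, pow_add, pow_two, LinearEquiv.mul_apply,
              LinearEquiv.mul_apply, hm2, ih]
        have hc := hj u
        rw [pow_succ', LinearEquiv.mul_apply, hp] at hc
        rw [hc, map_smul, smul_eq_mul, mul_eq_zero] at hf0
        exact hmu (by rw [hc, hf0.resolve_right hu]; simp)
      · exact h1
    refine ⟨2 / B u u * B u (m u), m.injective ?_⟩
    rw [LinearMap.add_apply, LinearEquiv.coe_coe, LinearEquiv.coe_coe, map_add, m.apply_symm_apply, map_smul, hm2,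
      hcases, rf_apply, hiso, neg_one_smul]
    abel
  obtain ⟨c, hc⟩ := scalar_of_ani B hs hnd h2 hn _ key
  refine ⟨c, fun x => eq_sub_of_add_eq ?_⟩
  have := congrArg m (hc x)
  rw [LinearMap.add_apply, LinearEquiv.coe_coe, LinearEquiv.coe_coe, map_add, m.apply_symm_apply, map_smul] at this
  exact this

include hs h2 in
theorem quad_f {m : V ≃ₗ[F] V} (hiso : ∀ x y, B (m x) (m y) = B x y) {t : F}
    (hq : ∀ x, m (m x) = t • m x - x) (x : V) : B x (m x) = t / 2 * B x x := by
  have h := hiso x (m x)
  rw [hq, map_sub, map_smul, hiso, hs (m x) x, smul_eq_mul] at h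
  field_simp
  linear_combination -h

include hs in
theorem quad_skew {m : V ≃ₗ[F] V} (hiso : ∀ x y, B (m x) (m y) = B x y) {t : F}
    (hq : ∀ x, m (m x) = t • m x - x) (x y : V) : B (m x) y = t * B x y - B x (m y) := by
  have h := hiso x (t • y - m y)
  rw [map_sub, map_smul, hq, show t • m y - (t • m y - y) = y by abel] at h
  rw [h, map_sub, map_smul, smul_eq_mul]

include hs hnd h2 hP in
theorem four [FiniteDimensional F V] (hn : 4 ≤ finrank F V) {m : V ≃ₗ[F] V} (hm : m ∈ P) :
    ∃ c : F, ∀ x, m x = c • x := by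
  by_contra hns
  obtain ⟨t, hq⟩ := quad B hs hnd h2 hP (by omega) hm hns
  have hiso := hP.isom m hm
  have hskew := quad_skew B hs hiso hq
  have hf := quad_f B hs h2 hiso hq
  obtain ⟨h, hh⟩ : ∃ h, h = t / 2 := ⟨_, rfl⟩
  have ht2 : t = 2 * h := by rw [hh]; field_simp
  rw [← hh] at hf
  subst ht2
  obtain ⟨u, hu⟩ := exists_ani B hs hnd h2 (by omega)
  obtain ⟨e, he⟩ : ∃ e, e = m u - h • u := ⟨_, rfl⟩
  have hfu : B u (m u) = h * B u u := hf u
  have heu : B e u = 0 := by
    rw [he]; simp only [map_sub, map_smul, LinearMap.sub_apply, LinearMap.smul_apply, smul_eq_mul, hs (m u) u, hfu]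
    ring
  have hee : B e e = (1 - h * h) * B u u := by
    rw [he]
    simp only [map_sub, map_smul, LinearMap.sub_apply, LinearMap.smul_apply, smul_eq_mul, hs (m u) u, hfu, hiso]
    ring
  -- a conjugate with which the product has trace zero gives a contradiction
  have kill : ∀ a b, B a a ≠ 0 → B b b ≠ 0 → rf B a (rf B b u) = u →
      B e (rf B a (rf B b e)) = h * h * B u u → False := by
    intro a b ha hb hgu hge
    obtain ⟨g, hg⟩ : ∃ g, g = rf B a * rf B b := ⟨_, rfl⟩
    have hgiso : ∀ x y, B (g x) (g y) = B x y := fun x y => by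
      rw [hg, LinearEquiv.mul_apply, LinearEquiv.mul_apply, rf_isom B hs, rf_isom B hs]
    have hgu' : g u = u := by rw [hg]; exact hgu
    have hge' : B e (g e) = h * h * B u u := by rw [hg]; exact hge
    have hgi : g⁻¹ u = u := g.symm_apply_eq.mpr hgu'.symm
    have hXP : m * (g * m * g⁻¹) ∈ P := P.mul_mem hm (hg ▸ hP.conj a b ha hb m hm)
    have h1 : B u (g (m u)) = h * B u u := by
      conv_lhs => rw [← hgu']
      rw [hgu', ← hfu]
      conv_lhs => arg 1; arg 2; rw [← hgu']
      rw [hgiso]
    have h2' : B (m u) (g (m u)) = 2 * (h * h) * B u u := by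
      rw [he] at hge'
      simp only [map_sub, map_smul, LinearMap.sub_apply, LinearMap.smul_apply, smul_eq_mul, hgu', h1, hs (m u) u,
        hfu] at hge'
      linear_combination hge'
    have hinv : m ((2 * h) • u - m u) = u := by rw [map_sub, map_smul, hq]; abel
    have hXu : B u ((m * (g * m * g⁻¹)) u) = 0 := by
      rw [LinearEquiv.mul_apply, LinearEquiv.mul_apply, LinearEquiv.mul_apply, hgi]
      calc B u (m (g (m u))) = B (m ((2 * h) • u - m u)) (m (g (m u))) := by rw [hinv]
        _ = 0 := by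
          simp only [hiso, map_sub, map_smul, LinearMap.sub_apply, LinearMap.smul_apply, smul_eq_mul, h1, h2']
          ring
    have hXns : ¬ ∃ c : F, ∀ x, (m * (g * m * g⁻¹)) x = c • x := by
      rintro ⟨c, hc⟩
      rw [hc, map_smul, smul_eq_mul] at hXu
      have h0 := hc u
      rw [(mul_eq_zero.mp hXu).resolve_right hu, zero_smul, LinearEquiv.map_eq_zero_iff] at h0
      exact hu (by rw [h0]; simp)
    obtain ⟨t', ht'⟩ := quad B hs hnd h2 hP (by omega) hXP hXns
    have ht0 : t' = 0 := by
      have := quad_f B hs h2 (hP.isom _ hXP) ht' u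
      rw [hXu, eq_comm, mul_eq_zero, div_eq_zero_iff] at this
      exact (this.resolve_right hu).resolve_right h2
    exact hXns (no_inv B hs hnd h2 hP (by omega) hXP (c₀ := -1) fun x => by
      rw [ht', ht0, zero_smul, zero_sub, neg_one_smul])
  by_cases hd : h * h = 1
  · -- unipotent case
    have he0 : e ≠ 0 := fun h0 => hns (of_eigen B hs hnd h2 hP (by omega) hm hu (l := h) (sub_eq_zero.mp (he ▸ h0)))
    have hee0 : B e e = 0 := by rw [hee, hd, sub_self, zero_mul]
    obtain ⟨x, hx, hxe⟩ := exists_sep B hs hnd ![u] (e := e) (by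
      intro hmem
      rw [Matrix.range_cons, Matrix.range_empty, Set.union_empty, Submodule.mem_span_singleton] at hmem
      obtain ⟨c, hc⟩ := hmem
      rw [← hc, map_smul, LinearMap.smul_apply, smul_eq_mul] at heu
      exact he0 (by rw [← hc, (mul_eq_zero.mp heu).resolve_right hu, zero_smul]))
    have hxu : B x u = 0 := hx 0
    obtain ⟨c, hc⟩ : ∃ c, c = B u u • (x - (B x x / 2) • e) := ⟨_, rfl⟩
    have hcu : B c u = 0 := by simp [hc, hxu, heu]
    have hce : B c e = B u u := by simp [hc, hxe, hee0]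
    have hcc : B c c = 0 := by
      simp only [hc, map_sub, map_smul, LinearMap.sub_apply, LinearMap.smul_apply, smul_eq_mul, hs e x, hxe, hee0]
      field_simp; ring
    obtain ⟨z, hz, hzv⟩ : ∃ z, B z z ≠ 0 ∧ ∀ i, B z (![u, e, c] i) = 0 := by
      refine (ani_or_span B hs hnd h2 ![u, e, c]).resolve_right fun hsp => ?_
      obtain ⟨y, hy0, hy⟩ := exists_kernel B ![u, e, c] (by omega)
      obtain ⟨g, hg⟩ := (Submodule.mem_span_range_iff_exists_fun F).mp (hsp y hy)
      simp only [Fin.sum_univ_three, Matrix.cons_val_zero, Matrix.cons_val_one, Matrix.cons_val_two,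
        Matrix.tail_cons, Matrix.head_cons] at hg
      have y0 : B y u = 0 := hy 0
      have y1 : B y e = 0 := hy 1
      have y2 : B y c = 0 := hy 2
      rw [← hg] at y0 y1 y2
      simp only [map_add, map_smul, LinearMap.add_apply, LinearMap.smul_apply, smul_eq_mul, hs u e, hs u c,
        hs e c, heu, hcu, hce, hee0, hcc, mul_zero, add_zero, zero_add, mul_eq_zero, hu, or_false] at y0 y1 y2
      exact hy0 (by rw [← hg, y0, y1, y2]; simp)
    have hsne : B (e - c) (e - c) ≠ 0 := by
      simp only [map_sub, LinearMap.sub_apply, hee0, hcc, hce, hs e c]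
      intro h0
      exact mul_ne_zero h2 hu (by linear_combination -h0)
    refine kill (e - c) z hsne hz ?_ ?_
    · rw [rf_fix B ((hs u z).trans (hzv 0)), rf_fix B]
      rw [map_sub, hs u e, heu, hs u c, hcu, sub_self]
    · rw [rf_fix B ((hs e z).trans (hzv 1)), rf_swap B hs (hee0.trans hcc.symm) hsne, hs e c, hce, hd, one_mul]
  · -- semisimple case
    have hΔ : 1 - h * h ≠ 0 := sub_ne_zero.mpr (Ne.symm hd)
    obtain ⟨v, hv, hvu, hve⟩ := exists_ani₂ B hs hnd h2 (b := e) hu (Or.inr hn)
    obtain ⟨j, hj⟩ : ∃ j, j = m v - h • v := ⟨_, rfl⟩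
    have hvm : B v (m u) = 0 := by
      rw [he, map_sub, map_smul, smul_eq_mul, hvu, mul_zero, sub_zero] at hve
      exact hve
    have hju : B j u = 0 := by
      simp only [hj, map_sub, map_smul, LinearMap.sub_apply, LinearMap.smul_apply, smul_eq_mul, hskew, hvu, hvm]
      ring
    have hje : B j e = 0 := by
      simp only [hj, he, map_sub, map_smul, LinearMap.sub_apply, LinearMap.smul_apply, smul_eq_mul, hiso, hskew v u,
        hvu, hvm]
      ring
    have hjv : B j v = 0 := by
      simp only [hj, map_sub, map_smul, LinearMap.sub_apply, LinearMap.smul_apply, smul_eq_mul, hs (m v) v, hf v]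
      ring
    have hjj : B j j = (1 - h * h) * B v v := by
      simp only [hj, map_sub, map_smul, LinearMap.sub_apply, LinearMap.smul_apply, smul_eq_mul, hs (m v) v, hf v,
        hiso]
      ring
    obtain ⟨a, ha⟩ : ∃ a, a = h * h / (1 - h * h) := ⟨_, rfl⟩
    have ha' : a * (1 - h * h) = h * h := by rw [ha, div_mul_cancel₀ _ hΔ]
    have ha1 : a ≠ 1 := by
      intro h1
      rw [h1, one_mul] at ha'
      have hh2 : 2 * (h * h) = 1 := by linear_combination -ha'
      obtain ⟨c, hc⟩ := no_inv B hs hnd h2 hP (by omega) (P.mul_mem hm hm) (c₀ := -1) fun x => by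
        simp only [LinearEquiv.mul_apply, hq, map_sub, map_smul]
        match_scalars <;> first | linear_combination 4 * h * hh2 | linear_combination -2 * hh2
      have hne : 2 * h ≠ 0 := by
        intro h0
        exact one_ne_zero (show (1 : F) = 0 by linear_combination h * h0 - hh2)
      refine hns ⟨(2 * h)⁻¹ * (c + 1), fun x => ?_⟩
      have hcx := hc x
      rw [LinearEquiv.mul_apply, hq, sub_eq_iff_eq_add] at hcx
      rw [← smul_smul, add_smul, one_smul, ← hcx, inv_smul_smul₀ hne]
    have ha2 : 1 - a * a ≠ 0 := by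
      intro h0
      rcases mul_self_eq_one_iff.mp (sub_eq_zero.mp h0).symm with h1 | h1
      · exact ha1 h1
      · rw [h1] at ha'
        exact one_ne_zero (show (1 : F) = 0 by linear_combination -ha')
    obtain ⟨x, y, hxy⟩ := exists_quad_value h2 hv (mul_ne_zero hΔ hv) (B u u * (1 - h * h) * (1 - a * a))
    obtain ⟨w, hw⟩ : ∃ w, w = x • v + y • j := ⟨_, rfl⟩
    have hwu : B w u = 0 := by simp [hw, hvu, hju]
    have hwe : B w e = 0 := by simp [hw, hve, hje]
    have hww : B w w = B u u * (1 - h * h) * (1 - a * a) := by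
      simp only [hw, map_add, map_smul, LinearMap.add_apply, LinearMap.smul_apply, smul_eq_mul, hs v j, hjv, hjj]
      linear_combination hxy
    have hw0 : B w w ≠ 0 := hww ▸ mul_ne_zero (mul_ne_zero hu hΔ) ha2
    obtain ⟨c, hc⟩ : ∃ c, c = a • e + w := ⟨_, rfl⟩
    have hcu : B c u = 0 := by simp [hc, heu, hwu]
    have hce : B c e = a * ((1 - h * h) * B u u) := by simp [hc, hwe, hee]
    have hcc : B e e = B c c := by
      simp only [hc, map_add, map_smul, LinearMap.add_apply, LinearMap.smul_apply, smul_eq_mul, hs e w, hwe, hww, hee]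
      ring
    have hsne : B (e - c) (e - c) ≠ 0 := by
      simp only [map_sub, LinearMap.sub_apply, ← hcc, hce, hs e c, hee]
      intro h0
      exact mul_ne_zero (mul_ne_zero h2 (mul_ne_zero hΔ hu)) (sub_ne_zero.mpr (Ne.symm ha1))
        (by linear_combination h0)
    refine kill (e - c) w hsne hw0 ?_ ?_
    · rw [rf_fix B ((hs u w).trans hwu), rf_fix B]
      rw [map_sub, hs u e, heu, hs u c, hcu, sub_self]
    · rw [rf_fix B ((hs e w).trans hwe), rf_swap B hs hcc hsne, hs e c, hce]
      linear_combination B u u * ha'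

include hs hnd h2 hP in
/-- All members are scalar. -/
theorem odd_scalar [FiniteDimensional F V] (hn : 3 ≤ finrank F V) {m : V ≃ₗ[F] V} (hm : m ∈ P) :
    ∃ c : F, ∀ x, m x = c • x := by
  rcases Nat.lt_or_ge (finrank F V) 4 with h3 | h4
  · refine scalar_of_lines B hs hnd h2 hP hn hm fun u hu => ?_
    have hc := P.mul_mem hm (conj_one B hs hnd h2 hP (by omega) hu (P.inv_mem hm))
    rw [show m * (rf B u * m⁻¹ * (rf B u)⁻¹) = m * rf B u * m⁻¹ * (rf B u)⁻¹ by group,
      conj_rf B (hP.isom m hm), rf_inv] at hc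
    exact hc
  · exact four B hs hnd h2 hP h4 hm

end CfsgLib.OrthOdd
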