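import Cfsg.Agent.Lib.PolarAut.CoreGen
import Cfsg.Agent.Lib.PSLn.FieldCentral
import Mathlib.LinearAlgebra.Dimension.Finite
import Mathlib.FieldTheory.Finite.Basic
import Mathlib.Tactic.Module

/-!
Tools for showing that centralizers of field-like automorphisms are rigid.
-/

set_option autoImplicit false

namespace CfsgLib.RigidGen

variable {K : Type*} [Group K]

/-- Reduction of rigidity to the fixed points and to a set they contain. -/
theorem rigid_of [Finite K] {p : ℕ} {x : MulAut K} (hinj : Function.Injective (MulAut.conj : K → MulAut K))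
    (L : Set K) (hL : ∀ l ∈ L, x l = l)
    (hM : p ∣ Nat.card ↥(MonoidHom.eqLocus x.toMonoidHom (MonoidHom.id K)) →
      ∀ M : Subgroup K, (∀ k ∈ M, x k = k) → (Nat.card M).Coprime p →
        (∀ k, x k = k → ∀ m ∈ M, k * m * k⁻¹ ∈ M) → M = ⊥)
    (hb : ∀ y : MulAut K, y * x = x * y → (orderOf y).Coprime p → (∀ l ∈ L, y l = l) → y = 1) :
    CoreGen.Rigid p x := by
  intro hp N hN hc hk
  have hMbot : N.comap (MulAut.conj : K →* MulAut K) = ⊥ := by
    refine hM hp _ (fun k hkM => hinj ?_) ?_ ?_
    · have h := hN _ (Subgroup.mem_comap.mp hkM)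
      rw [CoreGen.mul_conj] at h
      exact (mul_right_cancel h).symm
    · exact Nat.Coprime.coprime_dvd_left (Subgroup.card_comap_dvd_of_injective N _ hinj) hc
    · intro k hk' m hm
      rw [Subgroup.mem_comap] at hm ⊢
      rw [map_mul, map_mul, map_inv]
      exact hk k hk' _ hm
  refine (Subgroup.eq_bot_iff_forall _).mpr fun y hy => hb y (hN y hy) ?_ fun l hl => ?_
  · refine Nat.Coprime.coprime_dvd_left ?_ hc
    rw [← Subgroup.orderOf_mk y hy]
    exact orderOf_dvd_natCard _
  · have h1 : y l * l⁻¹ ∈ N.comap (MulAut.conj : K →* MulAut K) := by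
      have := N.mul_mem hy (hk l (hL l hl) _ (N.inv_mem hy))
      rw [Subgroup.mem_comap, map_mul, map_inv,
        show MulAut.conj (y l) = y * MulAut.conj l * y⁻¹ by rw [CoreGen.mul_conj]; group]
      simpa [mul_assoc] using this
    rw [hMbot, Subgroup.mem_bot, mul_inv_eq_one] at h1
    exact h1

variable {F : Type*} [Field F]

/-- The centre of a transvection commuting up to a scalar with a semilinear map is an eigenvector. -/
theorem eigen {W : Type*} [AddCommGroup W] [Module F W] [FiniteDimensional F W]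
    (hd : 3 ≤ Module.finrank F W) {T : W → W} {σ : RingAut F} (Tadd : ∀ a b, T (a + b) = T a + T b)
    (Tsmul : ∀ (a : F) w, T (a • w) = σ a • T w) (Tinj : Function.Injective T) (v : W) (φ : W →ₗ[F] F)
    (hφ : ∃ x, φ x ≠ 0) (c : F) (hT : ∀ x, T (x + φ x • v) = c • (T x + φ (T x) • v)) :
    ∃ μ : F, T v = μ • v := by
  have Tzero : T 0 = 0 := by simpa using Tsmul 0 0
  have hc1 : c = 1 := by
    by_contra hc
    have hker : ∀ x, φ x = 0 → ∃ a : F, T x = a • v := by
      intro x hx
      have h := hT x
      rw [hx, zero_smul, add_zero, smul_add, smul_smul] at h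
      refine ⟨(1 - c)⁻¹ * (c * φ (T x)), ?_⟩
      rw [← smul_smul, eq_inv_smul_iff₀ (sub_ne_zero.mpr (Ne.symm hc)), sub_smul, one_smul, sub_eq_iff_eq_add,
        add_comm]
      exact h
    have hlow : 2 ≤ Module.finrank F (LinearMap.ker φ) := by
      have h1 := φ.finrank_range_add_finrank_ker
      have h2 : Module.finrank F (LinearMap.range φ) ≤ 1 := (Submodule.finrank_le _).trans (Module.finrank_self F).le
      omega
    obtain ⟨x₁, hx₁, hx₁0⟩ := Submodule.exists_mem_ne_zero_of_ne_bot (p := LinearMap.ker φ) fun h0 => by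
      rw [h0, finrank_bot] at hlow; omega
    obtain ⟨a₁, ha₁⟩ := hker x₁ hx₁
    have ha₁0 : a₁ ≠ 0 := fun h0 => hx₁0 (Tinj (by rw [ha₁, h0, zero_smul, Tzero]))
    have hle : LinearMap.ker φ ≤ Submodule.span F {x₁} := fun x hx => by
      obtain ⟨a, ha⟩ := hker x hx
      refine Submodule.mem_span_singleton.mpr ⟨σ.symm (a * a₁⁻¹), Tinj ?_⟩
      rw [Tsmul, RingEquiv.apply_symm_apply, ha₁, smul_smul, mul_assoc, inv_mul_cancel₀ ha₁0, mul_one, ha]
    have := (Submodule.finrank_mono hle).trans (finrank_span_singleton hx₁0).le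
    omega
  obtain ⟨x, hx⟩ := hφ
  have h := hT x
  rw [hc1, one_smul, Tadd, Tsmul, add_right_inj] at h
  exact ⟨(σ (φ x))⁻¹ * φ (T x), by rw [← smul_smul, ← h, inv_smul_smul₀ (by simpa using hx)]⟩

variable [Fintype F]

/-- A field automorphism of order prime to `p` fixing the fixed field of one of order `p` is trivial. -/
theorem galois_one {p : ℕ} (σ τ : RingAut F) (hord : orderOf σ = p)
    (hfix : ∀ y, σ y = y → τ y = y) (hc : (orderOf τ).Coprime p) : τ = 1 := by
  let ι : PSLn.fixedField σ →+* F := (PSLn.fixedField σ).subtype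
  letI : Algebra (PSLn.fixedField σ) (PSLn.fixedField τ) :=
    (ι.codRestrict _ fun b => hfix _ b.2).toAlgebra
  haveI : Fintype (PSLn.fixedField σ) := Fintype.ofFinite _
  haveI : Fintype (PSLn.fixedField τ) := Fintype.ofFinite _
  haveI : Module.Finite (PSLn.fixedField σ) (PSLn.fixedField τ) := Module.Finite.of_finite
  have hj := Module.card_eq_pow_finrank (K := PSLn.fixedField σ) (V := PSLn.fixedField τ)
  rw [← Nat.card_eq_fintype_card, ← Nat.card_eq_fintype_card] at hj
  have hq1 := PSLn.card_eq_fixedField_pow σ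
  have hq2 := PSLn.card_eq_fixedField_pow τ
  rw [hq1, hord, hj, ← pow_mul] at hq2
  have hmul := Nat.pow_right_injective (Finite.one_lt_card (α := PSLn.fixedField σ)) hq2
  exact orderOf_eq_one_iff.mp (Nat.eq_one_of_dvd_coprimes hc dvd_rfl (Dvd.intro_left _ hmul.symm))

omit [Fintype F]

/-- Two embeddings agreeing on a set which is too large for a proper subfield are equal. -/
theorem hom_eq {K₀ : Type*} [Field K₀] [Fintype K₀] (f g : K₀ →+* F) (S : Finset K₀)
    (h : ∀ s ∈ S, f s = g s) (h0 : (0 : K₀) ∉ S) (hS : Fintype.card K₀ < (S.card + 1) ^ 2) : f = g := by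
  classical
  let E : Subfield K₀ := RingHom.eqLocusField f g
  haveI : Fintype E := Fintype.ofFinite _
  haveI : Module.Finite E K₀ := Module.Finite.of_finite
  have hsub : S.card + 1 ≤ Fintype.card E := by
    rw [← Finset.card_insert_of_notMem h0, ← Fintype.card_coe]
    refine Fintype.card_le_of_injective (fun s => (⟨s.1, ?_⟩ : E)) fun a b hab => Subtype.ext (congrArg (fun e : E => e.1) hab)
    show f s.1 = g s.1
    rcases Finset.mem_insert.mp s.2 with e | hs
    · rw [e, map_zero, map_zero]
    · exact h _ hs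
  have hj := Module.card_eq_pow_finrank (K := E) (V := K₀)
  have hj1 : Module.finrank E K₀ ≤ 1 := by
    by_contra hne
    have := Nat.pow_le_pow_right (n := Fintype.card E) (by omega) (show 2 ≤ Module.finrank E K₀ by omega)
    have := Nat.pow_le_pow_left hsub 2
    omega
  have hpos : 0 < Module.finrank E K₀ := Module.finrank_pos
  rw [show Module.finrank E K₀ = 1 by omega, pow_one] at hj
  have hall : Function.Surjective (fun e : E => e.1) :=
    ((Fintype.bijective_iff_injective_and_card _).mpr ⟨Subtype.val_injective, hj.symm⟩).surjective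
  refine RingHom.ext fun x => ?_
  obtain ⟨e, rfl⟩ := hall x
  exact e.2

end CfsgLib.RigidGen
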