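import Cfsg.Agent.Lib.PSLn.FieldCentral
import Cfsg.Agent.Lib.PolarAut.RigidGen
import Cfsg.Agent.Lib.SLPerfect
import Mathlib.LinearAlgebra.Matrix.GeneralLinearGroup.Card

/-!
Field automorphisms of prime order of `PSL_n(q)` are rigid.
-/

set_option autoImplicit false

namespace CfsgLib.PSLRigid

open Matrix CfsgLib.PSLn
open scoped MatrixGroups

variable {F : Type*} [Field F] {n : ℕ}

local notation "SL" => Matrix.SpecialLinearGroup (Fin n) F
local notation "PSL" => Matrix.ProjectiveSpecialLinearGroup (Fin n) F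

theorem conj_injective (hn : 2 ≤ n) : Function.Injective (MulAut.conj : PSL → MulAut PSL) := by
  refine (injective_iff_map_eq_one _).mpr fun a ha => ?_
  obtain ⟨A, rfl⟩ := mk_surjective a
  rw [← diagAut_toGL] at ha
  obtain ⟨-, r, hr⟩ := eq_one_imp hn (e := 1) (by rw [map_one, mul_one]; exact ha :
    diagAut (SpecialLinearGroup.toGL A) * fieldAut 1 = (1 : MulAut PSL))
  rw [QuotientGroup.mk'_apply, QuotientGroup.eq_one_iff, Matrix.SpecialLinearGroup.mem_center_iff]
  refine ⟨r, ?_, ?_⟩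
  · have h := congrArg Matrix.det hr
    rw [Matrix.scalar_apply, det_diagonal, Finset.prod_const, Finset.card_univ] at h
    exact h.symm.trans A.2
  · exact hr.symm

/-- The order of the field part divides the order of the automorphism. -/
theorem orderOf_field_dvd (hn : 2 ≤ n) (g : GL (Fin n) F) (τ : RingAut F) :
    orderOf τ ∣ orderOf (diagAut g * fieldAut τ : MulAut PSL) := by
  obtain ⟨T, -, hT⟩ := diag_field_pow τ g (orderOf (diagAut g * fieldAut τ : MulAut PSL))
  rw [pow_orderOf_eq_one] at hT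
  exact orderOf_dvd_of_pow_eq_one (eq_one_imp hn hT.symm).1

variable {F₀ : Type*} [Field F₀] (ι : F₀ →+* F)

/-- The small linear group inside. -/
def inclS : Matrix.SpecialLinearGroup (Fin n) F₀ →* SL := SpecialLinearGroup.map ι

theorem inclS_center (hn : 2 ≤ n) (A : Matrix.SpecialLinearGroup (Fin n) F₀) :
    inclS ι A ∈ Subgroup.center SL ↔ A ∈ Subgroup.center (Matrix.SpecialLinearGroup (Fin n) F₀) := by
  rw [Matrix.SpecialLinearGroup.mem_center_iff, Matrix.SpecialLinearGroup.mem_center_iff]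
  constructor
  · rintro ⟨r, hr, hA⟩
    let i₀ : Fin n := ⟨0, by omega⟩
    have h0 : r = ι (A.1 i₀ i₀) := by
      have := congrFun (congrFun hA i₀) i₀
      simpa [inclS] using this
    subst h0
    refine ⟨A.1 i₀ i₀, ι.injective (by rw [map_pow, map_one]; exact hr), Matrix.map_injective ι.injective ?_⟩
    show (Matrix.scalar (Fin n) (A.1 i₀ i₀)).map ι = A.1.map ι
    rw [Matrix.scalar_apply, Matrix.diagonal_map (map_zero ι)]
    exact hA
  · rintro ⟨r, hr, hA⟩
    refine ⟨ι r, by rw [← map_pow, hr, map_one], ?_⟩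
    show _ = A.1.map ι
    rw [← hA, Matrix.scalar_apply, Matrix.scalar_apply, Matrix.diagonal_map (map_zero ι)]

/-- The small simple group inside. -/
def psi (hn : 2 ≤ n) : Matrix.ProjectiveSpecialLinearGroup (Fin n) F₀ →* PSL :=
  QuotientGroup.lift _ (mk.comp (inclS ι)) fun A hA => by
    rw [MonoidHom.mem_ker, MonoidHom.comp_apply, QuotientGroup.mk'_apply, QuotientGroup.eq_one_iff]
    exact (inclS_center ι hn A).mpr hA

theorem psi_mk (hn : 2 ≤ n) (A : Matrix.SpecialLinearGroup (Fin n) F₀) :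
    psi ι hn (mk A) = mk (inclS ι A) := rfl

theorem psi_inj (hn : 2 ≤ n) : Function.Injective (psi (n := n) ι hn) := by
  refine (injective_iff_map_eq_one _).mpr fun a ha => ?_
  obtain ⟨A, rfl⟩ := mk_surjective a
  rw [psi_mk, QuotientGroup.mk'_apply, QuotientGroup.eq_one_iff, inclS_center ι hn] at ha
  exact (QuotientGroup.eq_one_iff A).mpr ha

theorem psi_fixed (hn : 2 ≤ n) {σ : RingAut F} (hι : ∀ y, σ y = y ↔ y ∈ ι.range)
    (a : Matrix.ProjectiveSpecialLinearGroup (Fin n) F₀) : fieldAut σ (psi ι hn a) = psi ι hn a := by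
  obtain ⟨A, rfl⟩ := mk_surjective a
  rw [psi_mk, fieldAut_mk]
  congr 1
  exact Subtype.ext (Matrix.ext fun i j => (hι _).mpr ⟨A.1 i j, rfl⟩)

theorem psi_xx (hn : 2 ≤ n) {i j : Fin n} (hij : i ≠ j) (a : F₀) :
    psi ι hn (mk (xx i j hij a)) = mk (xx i j hij (ι a)) := by
  rw [psi_mk]
  congr 1
  refine Subtype.ext (Matrix.ext fun k l => ?_)
  show ι ((xx i j hij a).1 k l) = _
  rw [coe_xx, coe_xx, Matrix.add_apply, Matrix.add_apply, map_add]
  congr 1
  · rw [Matrix.one_apply, Matrix.one_apply]; split_ifs <;> simp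
  · rw [Matrix.single_apply, Matrix.single_apply]; split_ifs <;> simp

/-- An automorphism fixing the small group and commuting suitably is trivial. -/
theorem field_fix [Fintype F] (r : ℕ) [Fact r.Prime] [CharP F r] (hn : 2 ≤ n) {σ : RingAut F} {p : ℕ}
    (hord : orderOf σ = p) (hι : ∀ y, σ y = y ↔ y ∈ ι.range) (y : MulAut PSL)
    (hc : (orderOf y).Coprime p) (hy : ∀ a, y (psi ι hn a) = psi ι hn a) : y = 1 := by
  obtain ⟨g, τ, rfl | ⟨h3, rfl⟩⟩ := exists_decomposition_any r hn y
  · have hfix : ∀ i j (hij : i ≠ j) (a : F₀), g.1 * single i j (τ (ι a)) = single i j (ι a) * g.1 :=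
      fun i j hij a => single_comm_of_eq (hij := hij) (hkl := hij) (by rw [← psi_xx ι hn]; exact hy _)
    have off : ∀ k i, k ≠ i → g.1 k i = 0 := by
      intro k i hki
      have := congrFun (congrFun (hfix i k hki.symm 1) k) k
      rw [map_one ι, map_one, Matrix.mul_single_apply_same, Matrix.single_mul_apply_of_ne (h := hki), mul_one] at this
      exact this
    have diag : ∀ i j (hij : i ≠ j) (a : F₀), g.1 i i * τ (ι a) = ι a * g.1 j j := by
      intro i j hij a
      have := congrFun (congrFun (hfix i j hij a) i) j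
      rwa [Matrix.mul_single_apply_same, Matrix.single_mul_apply_same] at this
    let i₀ : Fin n := ⟨0, by omega⟩
    let i₁ : Fin n := ⟨1, by omega⟩
    have h01 : i₀ ≠ i₁ := by simp [i₀, i₁]
    have heq : ∀ i, g.1 i i = g.1 i₀ i₀ := fun i => by
      rcases eq_or_ne i i₀ with rfl | hi
      · rfl
      · have := diag i i₀ hi 1; rwa [map_one ι, map_one, mul_one, one_mul] at this
    have hg : g.1 = Matrix.scalar (Fin n) (g.1 i₀ i₀) := by
      ext i j
      rcases eq_or_ne i j with rfl | hij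
      · simp [heq i]
      · simp [off i j hij, hij]
    have hg0 : g.1 i₀ i₀ ≠ 0 := fun h0 => by
      haveI : Nonempty (Fin n) := ⟨i₀⟩
      exact g.ne_zero (by rw [hg, h0, map_zero])
    have hτ : τ = 1 := by
      refine RigidGen.galois_one σ τ hord (fun z hz => ?_) ?_
      · obtain ⟨b, rfl⟩ := (hι z).mp hz
        have := diag i₀ i₁ h01 b
        rw [heq i₁, mul_comm (ι b)] at this
        exact mul_left_cancel₀ hg0 this
      · exact Nat.Coprime.coprime_dvd_left (orderOf_field_dvd hn g τ) hc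
    rw [hτ, map_one, mul_one, diagAut_scalar g _ hg]
  · exfalso
    have hfix : ∀ i j (hij : i ≠ j), g.1 * single j i (τ (-1 : F)) = single i j (1 : F) * g.1 := by
      intro i j hij
      refine single_comm_of_eq (e := τ) (hij := hij.symm) (hkl := hij) ?_
      have h := hy (mk (xx i j hij 1))
      rw [psi_xx, map_one ι, MulAut.mul_apply, graphAut_mk, graphSL_xx] at h
      exact h
    have hcol : ∀ i j, i ≠ j → ∀ k, k ≠ i → g.1 k j = 0 := by
      intro i j hij k hk
      have := congrFun (congrFun (hfix i j hij) k) i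
      rw [map_neg, map_one, Matrix.mul_single_apply_same, Matrix.single_mul_apply_of_ne (h := hk), mul_neg_one,
        neg_eq_zero] at this
      exact this
    let i₀ : Fin n := ⟨0, by omega⟩
    let i₁ : Fin n := ⟨1, by omega⟩
    let i₂ : Fin n := ⟨2, by omega⟩
    apply ((Matrix.isUnit_iff_isUnit_det _).mp g.isUnit).ne_zero
    refine Matrix.det_eq_zero_of_column_eq_zero i₀ fun k => ?_
    rcases eq_or_ne k i₁ with rfl | hk
    · exact hcol i₂ i₀ (by simp [i₀, i₂]) _ (by simp [i₁, i₂])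
    · exact hcol i₁ i₀ (by simp [i₀, i₁]) k hk

variable [Fintype F₀]

/-- The order of the general linear group. -/
theorem card_GL_eq (hn : 2 ≤ n) :
    Nat.card (GL (Fin n) F₀) = Nat.card F₀ˣ * Nat.card (Matrix.SpecialLinearGroup (Fin n) F₀) := by
  have h := (GeneralLinearGroup.det : GL (Fin n) F₀ →* F₀ˣ).ker.card_mul_index
  rw [Subgroup.index_ker, MonoidHom.range_eq_top.mpr fun c => ⟨dil hn c, det_dil hn c⟩, Subgroup.card_top] at h
  rw [← h, mul_comm]
  congr 1
  exact (Nat.card_congr (Equiv.ofBijective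
    (fun A => (⟨SpecialLinearGroup.toGL A, MonoidHom.mem_ker.mpr (Units.ext A.2)⟩ :
      (GeneralLinearGroup.det : GL (Fin n) F₀ →* F₀ˣ).ker))
    ⟨fun A B h => Subtype.ext (congrArg (fun z : (GeneralLinearGroup.det : GL (Fin n) F₀ →* F₀ˣ).ker => z.1.1) h),
     fun z => by
      obtain ⟨A, hA⟩ := exists_toGL_of_det_one z.1 (MonoidHom.mem_ker.mp z.2)
      exact ⟨A, Subtype.ext hA⟩⟩)).symm

/-- A prime divisor, not the characteristic, of the order of the general linear group. -/
theorem dvd_card_psl (hn : 2 ≤ n) {p : ℕ} [hp : Fact p.Prime] (hp0 : (p : F₀) ≠ 0)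
    (h : p ∣ Nat.card (GL (Fin n) F₀)) : p ∣ Nat.card (Matrix.ProjectiveSpecialLinearGroup (Fin n) F₀) := by
  classical
  by_cases hq : p ∣ Nat.card F₀ˣ
  · -- an explicit element of order `p`
    have hmake : ∀ (A : Matrix (Fin n) (Fin n) F₀), A.det = 1 →
        (∃ r, r ^ n = 1 ∧ Matrix.scalar (Fin n) r = A ^ p) → (∀ r, Matrix.scalar (Fin n) r ≠ A) →
        p ∣ Nat.card (Matrix.ProjectiveSpecialLinearGroup (Fin n) F₀) := by
      intro A hd hAp hA
      obtain ⟨S, hS⟩ : ∃ S : Matrix.SpecialLinearGroup (Fin n) F₀, S.1 = A := ⟨⟨A, hd⟩, rfl⟩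
      have hz1 : mk S ^ p = 1 := by
        rw [← map_pow]
        refine (QuotientGroup.eq_one_iff _).mpr (Matrix.SpecialLinearGroup.mem_center_iff.mpr ?_)
        rw [Matrix.SpecialLinearGroup.coe_pow, hS, Fintype.card_fin]
        exact hAp
      have hz2 : mk S ≠ 1 := fun h1 => by
        obtain ⟨r, -, hr⟩ := Matrix.SpecialLinearGroup.mem_center_iff.mp ((QuotientGroup.eq_one_iff S).mp h1)
        exact hA r (hr.trans hS)
      rw [← orderOf_eq_prime hz1 hz2]
      exact orderOf_dvd_natCard _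
    obtain ⟨u, hu⟩ := exists_prime_orderOf_dvd_card' p hq
    have hu1 : (u : F₀) ≠ 1 := fun h1 => by
      rw [show u = 1 from Units.ext h1, orderOf_one] at hu
      exact hp.out.ne_one hu.symm
    have hup : (u : F₀) ^ p = 1 := by rw [← Units.val_pow_eq_pow_val, ← hu, pow_orderOf_eq_one, Units.val_one]
    by_cases h22 : n = 2 ∧ p = 2
    · obtain ⟨rfl, rfl⟩ := h22
      refine hmake !![0, 1; -1, 0] (by simp [Matrix.det_fin_two]) ⟨-1, by norm_num, ?_⟩ fun r hr => ?_
      · rw [pow_two]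
        ext i j
        fin_cases i <;> fin_cases j <;> simp
      · have := congrFun (congrFun hr 0) 1
        simp at this
    let i₀ : Fin n := ⟨0, by omega⟩
    let i₁ : Fin n := ⟨1, by omega⟩
    let d : Fin n → F₀ := Function.update (Function.update 1 i₀ (u : F₀)) i₁ ((u⁻¹ : F₀ˣ) : F₀)
    refine hmake (diagonal d) (by
      rw [det_diagonal, Finset.prod_update_of_mem (Finset.mem_univ _),
        Finset.prod_update_of_mem (by simp [i₀, i₁])]
      simp) ⟨1, one_pow _, ?_⟩ fun r hr => ?_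
    · rw [map_one]
      rw [diagonal_pow, ← diagonal_one]
      refine congrArg _ (funext fun i => ?_)
      rcases eq_or_ne i i₁ with rfl | h1
      · simp [d, inv_pow, hup]
      · rcases eq_or_ne i i₀ with rfl | h0
        · simp [d, Function.update_of_ne h1, hup]
        · simp [d, Function.update_of_ne h1, Function.update_of_ne h0]
    · have h01 : i₀ ≠ i₁ := by simp [i₀, i₁]
      have e0 := congrFun (congrFun hr i₀) i₀
      have e1 := congrFun (congrFun hr i₁) i₁
      simp [d, h01] at e0 e1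
      rcases eq_or_ne n 2 with rfl | hn2
      · have hp2 : p ≠ 2 := fun h2 => h22 ⟨rfl, h2⟩
        have huu : (u : F₀) * u = 1 := by
          have h3 : (u : F₀) = (u : F₀)⁻¹ := e0.symm.trans e1
          nth_rewrite 2 [h3]
          exact mul_inv_cancel₀ u.ne_zero
        obtain ⟨k, hk⟩ := hp.out.odd_of_ne_two hp2
        rw [hk, pow_succ, pow_mul, pow_two, huu, one_pow, one_mul] at hup
        exact hu1 hup
      · have e2 := congrFun (congrFun hr ⟨2, by omega⟩) ⟨2, by omega⟩
        simp [d, i₀, i₁] at e2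
        exact hu1 (e0.symm.trans e2)
  · rw [card_GL_eq hn] at h
    have hSL := ((Nat.Prime.dvd_mul hp.out).mp h).resolve_left hq
    rw [Subgroup.card_eq_card_quotient_mul_card_subgroup (Subgroup.center (Matrix.SpecialLinearGroup (Fin n) F₀))]
      at hSL
    refine ((Nat.Prime.dvd_mul hp.out).mp hSL).resolve_right fun hz => hq ?_
    obtain ⟨z, hz⟩ := exists_prime_orderOf_dvd_card' p hz
    obtain ⟨r, hr, hA⟩ := Matrix.SpecialLinearGroup.mem_center_iff.mp z.2
    have hr0 : r ≠ 0 := fun h0 => by rw [h0, zero_pow (by simp; omega)] at hr; exact zero_ne_one hr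
    have hzp : z.1 ^ p = 1 := by rw [← Subgroup.coe_pow, ← hz, pow_orderOf_eq_one]; rfl
    have h1 : r ^ p = 1 := by
      have := congrFun (congrFun (congrArg Subtype.val hzp) ⟨0, by omega⟩) ⟨0, by omega⟩
      rw [Matrix.SpecialLinearGroup.coe_pow, ← hA, Matrix.scalar_apply, diagonal_pow] at this
      simpa using this
    have hu1 : Units.mk0 r hr0 ^ p = 1 := Units.ext (by rw [Units.val_pow_eq_pow_val]; simpa using h1)
    have hne : Units.mk0 r hr0 ≠ 1 := fun h => by
      have hr1 : r = 1 := congrArg Units.val h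
      have hz1 : z = 1 := Subtype.ext (Subtype.ext (by rw [← hA, hr1, map_one]; rfl))
      rw [hz1, orderOf_one] at hz
      exact hp.out.ne_one hz.symm
    rw [← orderOf_eq_prime hu1 hne]
    exact orderOf_dvd_natCard _

/-- A nontrivial normal subgroup has order divisible by a prime divisor other than the characteristic. -/
theorem dvd_normal (hn : 2 ≤ n) {p : ℕ} [hp : Fact p.Prime] (hp0 : (p : F₀) ≠ 0)
    (h : p ∣ Nat.card (Matrix.ProjectiveSpecialLinearGroup (Fin n) F₀))
    (M : Subgroup (Matrix.ProjectiveSpecialLinearGroup (Fin n) F₀)) [M.Normal] (hM : M ≠ ⊥) :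
    p ∣ Nat.card M := by
  classical
  by_cases hs : 3 ≤ n ∨ 4 ≤ Fintype.card F₀
  · haveI : IsSimpleGroup (Matrix.ProjectiveSpecialLinearGroup (Fin n) F₀) := by
      by_cases h3 : 3 ≤ n
      · exact SLPerfect.isSimpleGroup h3
      · obtain rfl : n = 2 := by omega
        exact Matrix.ProjectiveSpecialLinearGroup.rank_two_simple
          (by rw [Nat.card_eq_fintype_card]; exact hs.resolve_left h3)
    rw [(IsSimpleGroup.eq_bot_or_eq_top_of_normal M inferInstance).resolve_left hM, Subgroup.card_top]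
    exact h
  push Not at hs
  obtain rfl : n = 2 := by omega
  by_contra hpM
  have hq2 : 2 ≤ Fintype.card F₀ := Fintype.one_lt_card
  have hq0 := FiniteField.cast_card_eq_zero F₀
  have hpsl : Nat.card (Matrix.ProjectiveSpecialLinearGroup (Fin 2) F₀) ∣ Nat.card (GL (Fin 2) F₀) :=
    (Subgroup.card_quotient_dvd_card _).trans ⟨_, (card_GL_eq le_rfl).trans (mul_comm _ _)⟩
  have hGL : Nat.card (GL (Fin 2) F₀) = (Fintype.card F₀ ^ 2 - 1) * (Fintype.card F₀ ^ 2 - Fintype.card F₀) := by
    rw [card_GL_field]; simp [Fin.prod_univ_two, Nat.card_eq_fintype_card]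
  set P := Matrix.ProjectiveSpecialLinearGroup (Fin 2) F₀
  have hMd : Nat.card M ∣ Nat.card P := Subgroup.card_subgroup_dvd_card M
  have hMne : Nat.card M ≠ 1 := fun h1 => hM (Subgroup.card_eq_one.mp h1)
  -- the normal subgroup has characteristic order and prime-to-characteristic index
  obtain ⟨r, hr, hMr, hidx⟩ : ∃ r, Nat.Prime r ∧ Nat.card M = r ∧ Nat.Coprime r M.index ∧ (r : F₀) = 0 := by
    have hindex := M.card_mul_index
    have hd : Nat.card M * M.index ∣ Nat.card (GL (Fin 2) F₀) := hindex ▸ hpsl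
    have hpG : p ∣ Nat.card (GL (Fin 2) F₀) := h.trans hpsl
    rcases (show Fintype.card F₀ = 2 ∨ Fintype.card F₀ = 3 by omega) with hq | hq
    · rw [hq] at hGL hq0
      rw [hGL] at hd hpG
      rw [show (2 ^ 2 - 1) * (2 ^ 2 - 2) = 2 * 3 by norm_num] at hd hpG
      have hp3 : p = 3 := by
        rcases (Nat.Prime.dvd_mul hp.out).mp (show p ∣ 2 * 3 from hpG) with h2 | h3
        · exact absurd (by rw [(Nat.prime_dvd_prime_iff_eq hp.out Nat.prime_two).mp h2]; exact_mod_cast hq0) hp0
        · exact (Nat.prime_dvd_prime_iff_eq hp.out Nat.prime_three).mp h3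
      subst hp3
      have hc := (Nat.prime_three.coprime_iff_not_dvd.mpr hpM).symm
      have h2 : Nat.card M = 2 := ((Nat.dvd_prime Nat.prime_two).mp
        (hc.dvd_of_dvd_mul_right (show Nat.card M ∣ 2 * 3 from (Dvd.intro _ rfl).trans hd))).resolve_left hMne
      refine ⟨2, Nat.prime_two, h2, ?_, by exact_mod_cast hq0⟩
      rw [h2] at hd
      have : M.index ∣ 3 := Nat.dvd_of_mul_dvd_mul_left two_pos (show 2 * M.index ∣ 2 * 3 from hd)
      exact Nat.Coprime.coprime_dvd_right this (by norm_num)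
    · rw [hq] at hGL hq0
      rw [hGL] at hd hpG
      rw [show (3 ^ 2 - 1) * (3 ^ 2 - 3) = 2 ^ 4 * 3 by norm_num] at hd hpG
      have hp2 : p = 2 := by
        rcases (Nat.Prime.dvd_mul hp.out).mp (show p ∣ 2 ^ 4 * 3 from hpG) with h2 | h3
        · exact (Nat.prime_dvd_prime_iff_eq hp.out Nat.prime_two).mp (hp.out.dvd_of_dvd_pow h2)
        · exact absurd (by rw [(Nat.prime_dvd_prime_iff_eq hp.out Nat.prime_three).mp h3]; exact_mod_cast hq0) hp0
      subst hp2
      have hc := Nat.Coprime.pow_right 4 (Nat.prime_two.coprime_iff_not_dvd.mpr hpM).symm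
      have h3 : Nat.card M = 3 := ((Nat.dvd_prime Nat.prime_three).mp
        (hc.dvd_of_dvd_mul_left (show Nat.card M ∣ 2 ^ 4 * 3 from (Dvd.intro _ rfl).trans hd))).resolve_left hMne
      refine ⟨3, Nat.prime_three, h3, ?_, by exact_mod_cast hq0⟩
      rw [h3] at hd
      have : M.index ∣ 16 := Nat.dvd_of_mul_dvd_mul_left (by norm_num) (show 3 * M.index ∣ 3 * 16 from hd)
      exact Nat.Coprime.coprime_dvd_right this (by norm_num)
  obtain ⟨hidx, hr0⟩ := hidx
  haveI := Fact.mk hr
  haveI : CharP F₀ r := by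
    obtain ⟨c, hc⟩ := CharP.exists F₀
    have := (Nat.prime_dvd_prime_iff_eq (CharP.char_is_prime F₀ c) hr).mp ((CharP.cast_eq_zero_iff F₀ c r).mp hr0)
    rwa [← this]
  -- the root elements lie in it
  have hmem : ∀ i j (hij : i ≠ j), mk (xx i j hij (1 : F₀)) ∈ M := by
    intro i j hij
    have hy : mk (xx i j hij (1 : F₀)) ^ r = 1 := by
      rw [← map_pow, xx_pow', mul_one, show ((r : ℕ) : F₀) = 0 from hr0, xx_zero, map_one]
    have hq : (QuotientGroup.mk (mk (xx i j hij (1 : F₀))) : P ⧸ M) = 1 := by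
      refine orderOf_eq_one_iff.mp (Nat.eq_one_of_dvd_coprimes hidx (orderOf_dvd_of_pow_eq_one ?_) ?_)
      · rw [← QuotientGroup.mk_pow, hy]; rfl
      · rw [Subgroup.index_eq_card]; exact orderOf_dvd_natCard _
    exact (QuotientGroup.eq_one_iff _).mp hq
  let A : P := mk (xx (0 : Fin 2) 1 (by decide) (1 : F₀))
  let B : P := mk (xx (1 : Fin 2) 0 (by decide) (1 : F₀))
  have hA1 : A ≠ 1 := fun h1 => by
    have h01 : (0 : Fin 2) ≠ 1 := by decide
    have := mk_xx_injective h01 (show mk (xx 0 1 h01 (1 : F₀)) = mk (xx 0 1 h01 0) by rw [xx_zero, map_one]; exact h1)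
    exact one_ne_zero this
  have hord : orderOf (⟨A, hmem 0 1 _⟩ : M) = r := by
    refine orderOf_eq_prime ?_ fun h1 => hA1 (congrArg Subtype.val h1)
    rw [← hMr]; exact pow_card_eq_one'
  have htop : Subgroup.zpowers (⟨A, hmem 0 1 _⟩ : M) = ⊤ :=
    Subgroup.eq_top_of_card_eq _ (by rw [Nat.card_zpowers, hord, hMr])
  obtain ⟨k, hk⟩ := (Submonoid.mem_powers_iff _ _).mp (mem_powers_iff_mem_zpowers.mpr
    (htop ▸ Subgroup.mem_top (⟨B, hmem 1 0 _⟩ : M)))
  have hk' : A ^ k = B := congrArg Subtype.val hk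
  rw [show A ^ k = mk (xx 0 1 (by decide) ((k : F₀) * 1)) by rw [← map_pow, xx_pow']] at hk'
  simp only [B, xx_eq_tv] at hk'
  have := congrFun (congrFun (mk_tv_injective hk') 1) 0
  rw [← single_eq_vec, ← single_eq_vec] at this
  simp at this
where
  xx_pow' {n : ℕ} {i j : Fin n} {hij : i ≠ j} {c : F₀} {k : ℕ} : xx i j hij c ^ k = xx i j hij (k * c) := by
    induction k with
    | zero => simp [xx_zero]
    | succ k ih => rw [pow_succ, ih, ← xx_add]; congr 1; push_cast; ring

theorem rigid_field [Fintype F] (r : ℕ) [Fact r.Prime] [CharP F r] (hn : 2 ≤ n) {σ : RingAut F} {p : ℕ}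
    [hp : Fact p.Prime] (hpr : p ≠ r) (hord : orderOf σ = p) (hι : ∀ y, σ y = y ↔ y ∈ ι.range) :
    CoreGen.Rigid p (fieldAut σ : MulAut PSL) := by
  have hinj := conj_injective (F := F) hn
  have hp0 : (p : F₀) ≠ 0 := fun h => hpr (by
    have h' := congrArg ι h
    rw [map_natCast, map_zero, CharP.cast_eq_zero_iff F r p] at h'
    exact ((Nat.prime_dvd_prime_iff_eq (Fact.out : r.Prime) hp.out).mp h').symm)
  refine RigidGen.rigid_of hinj (Set.range (psi (n := n) ι hn)) (by rintro _ ⟨a, rfl⟩; exact psi_fixed ι hn hι a)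
    ?_ fun y _ hc hy => field_fix ι r hn hord hι y hc fun a => hy _ ⟨a, rfl⟩
  intro hdvd M hMx hMc hMn
  have hcomm : ∀ k, fieldAut σ k = k → Commute (MulAut.conj k) (fieldAut σ : MulAut PSL) := fun k hk => by
    rw [commute_iff_eq, CoreGen.mul_conj, hk]
  have hGL : p ∣ Nat.card (GL (Fin n) F₀) := by
    refine hdvd.trans ?_
    rw [← Subgroup.card_map_of_injective (f := (MulAut.conj : PSL →* _)) hinj]
    refine (Subgroup.card_dvd_of_le (K := (fixedHom ι : GL (Fin n) F₀ →* MulAut PSL).range) ?_).trans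
      (Subgroup.card_range_dvd _)
    rintro _ ⟨k, hk, rfl⟩
    obtain ⟨A, rfl⟩ := mk_surjective k
    rw [range_fixedHom hn σ ι hι]
    refine Subgroup.mem_inf.mpr ⟨?_, Subgroup.mem_centralizer_singleton_iff.mpr (hcomm _ hk).eq⟩
    rw [← diagAut_toGL, inndiag_eq]
    exact ⟨_, rfl⟩
  have hpP := dvd_card_psl hn hp0 hGL
  haveI : (M.comap (psi (n := n) ι hn)).Normal := ⟨fun m hm a => by
    rw [Subgroup.mem_comap, map_mul, map_mul, map_inv]
    exact hMn _ (psi_fixed ι hn hι a) _ hm⟩
  have hbot : M.comap (psi (n := n) ι hn) = ⊥ := by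
    by_contra hne
    have hd := (dvd_normal hn hp0 hpP _ hne).trans
      (Subgroup.card_comap_dvd_of_injective M _ (psi_inj ι hn))
    exact hp.out.not_dvd_one (hMc ▸ Nat.dvd_gcd hd dvd_rfl)
  refine (Subgroup.eq_bot_iff_forall _).mpr fun m hm => hinj ?_
  rw [map_one]
  refine field_fix ι r hn hord hι _ ?_ fun a => ?_
  · refine Nat.Coprime.coprime_dvd_left ?_ hMc
    rw [orderOf_injective _ hinj, ← Subgroup.orderOf_mk m hm]
    exact orderOf_dvd_natCard _
  · obtain ⟨l, rfl⟩ := mk_surjective a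
    have hc := hcomm m (hMx m hm)
    obtain ⟨S, rfl⟩ := mk_surjective m
    rw [← diagAut_toGL] at hc
    obtain ⟨v, hv⟩ := exists_scalar_fixed hn hc
    obtain ⟨y, hy⟩ : ∃ y, y = GeneralLinearGroup.scalar (Fin n) v * SpecialLinearGroup.toGL S := ⟨_, rfl⟩
    rw [← hy] at hv
    have hdiag : (MulAut.conj (mk S) : MulAut PSL) = diagAut y := by
      rw [← diagAut_toGL, diagAut_eq_iff hn]
      exact ⟨v⁻¹, by rw [hy, ← mul_assoc, ← map_mul, inv_mul_cancel, map_one, one_mul]⟩
    have hyi : ∀ i j, σ ((y⁻¹).1 i j) = (y⁻¹).1 i j := by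
      have e : GeneralLinearGroup.map (σ : F ≃+* F).toRingHom y = y := Units.ext (Matrix.ext hv)
      intro i j
      have e2 := congrArg (fun z : GL (Fin n) F => (z⁻¹).1 i j) e
      simp only [← map_inv] at e2
      exact e2
    have hfix : ∀ i j, σ ((conjSL y (inclS ι l)).1 i j) = (conjSL y (inclS ι l)).1 i j := by
      intro i j
      have e : (conjSL y (inclS ι l)).1.map σ = (conjSL y (inclS ι l)).1 := by
        rw [coe_conjSL, Matrix.map_mul, Matrix.map_mul, show y.1.map σ = y.1 from Matrix.ext hv,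
          show (y⁻¹).1.map σ = (y⁻¹).1 from Matrix.ext hyi,
          show (inclS ι l).1.map σ = (inclS ι l).1 from Matrix.ext fun i j => (hι _).mpr ⟨l.1 i j, rfl⟩]
      exact congrFun (congrFun e i) j
    choose B hB using fun i j => (hι _).mp (hfix i j)
    let l₀ : Matrix.SpecialLinearGroup (Fin n) F₀ := ⟨Matrix.of B, ι.injective (by
      rw [RingHom.map_det, map_one, show ι.mapMatrix (Matrix.of B) = (conjSL y (inclS ι l)).1 from Matrix.ext hB]
      exact (conjSL y (inclS ι l)).2)⟩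
    have e : MulAut.conj (mk S) (psi ι hn (mk l)) = psi ι hn (mk l₀) := by
      rw [hdiag, psi_mk, psi_mk, diagAut_mk]
      congr 1
      exact Subtype.ext (Matrix.ext fun i j => (hB i j).symm)
    have h1 : mk S * psi ι hn (mk l) * (mk S)⁻¹ * (psi ι hn (mk l))⁻¹ ∈ M := by
      rw [mul_assoc, mul_assoc, ← mul_assoc (psi ι hn (mk l))]
      exact M.mul_mem hm (hMn _ (psi_fixed ι hn hι _) _ (M.inv_mem hm))
    rw [MulAut.conj_apply] at e
    rw [e, ← map_inv (psi ι hn), ← map_mul, ← Subgroup.mem_comap, hbot, Subgroup.mem_bot, mul_inv_eq_one] at h1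
    rw [MulAut.conj_apply, e, h1]

omit [Fintype F₀] in
theorem fixed_nontrivial (hn : 2 ≤ n) {σ : RingAut F} (hι : ∀ y, σ y = y ↔ y ∈ ι.range) :
    ∃ k : PSL, k ≠ 1 ∧ fieldAut σ k = k := by
  have h01 : (⟨0, by omega⟩ : Fin n) ≠ ⟨1, by omega⟩ := by simp
  refine ⟨psi ι hn (mk (xx _ _ h01 (1 : F₀))), fun h => ?_, psi_fixed ι hn hι _⟩
  rw [psi_xx, map_one ι] at h
  have := mk_xx_injective h01 (show mk (xx _ _ h01 (1 : F)) = mk (xx _ _ h01 0) by rw [xx_zero, map_one]; exact h)
  exact one_ne_zero this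

end CfsgLib.PSLRigid
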