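import Cfsg.Agent.Lib.PolarAut.SpField
import Cfsg.Agent.Lib.PolarAut.CoreGen

/-!
The centralizer of a field automorphism of `PSp_2m(q)`.
-/

set_option autoImplicit false

namespace CfsgLib.PSpAut

open Matrix MulAction CfsgLib.SympGen
open CfsgLib.SympTransvection (tv)
open scoped MatrixGroups LinearAlgebra.Projectivization

variable {F : Type*} [Field F] [Fintype F] {m : ℕ}

local notation "ι'" => (Fin m ⊕ Fin m)
local notation "Vec" => (Fin m ⊕ Fin m → F)
local notation "GS" => Cfsg.GSp m F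
local notation "A" => MulAut (Cfsg.PSp m F)

/-- A nontrivial normal subgroup has order divisible by every prime divisor of the order, away from
the characteristic. -/
theorem dvd_card_normal (hm : 2 ≤ m) {p : ℕ} (hp : p.Prime) (h2 : (2 : F) = 0 → p ≠ 2)
    (hdvd : p ∣ Nat.card (Cfsg.PSp m F)) (M : Subgroup (Cfsg.PSp m F)) [M.Normal] (hM : M ≠ ⊥) :
    p ∣ Nat.card M := by
  by_cases h22 : m = 2 → 3 ≤ Fintype.card F
  · haveI := SympSimple.simple (F := F) hm h22
    rw [(IsSimpleGroup.eq_bot_or_eq_top_of_normal M inferInstance).resolve_left hM, Subgroup.card_top]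
    exact hdvd
  · rw [Classical.not_imp, not_le] at h22
    obtain ⟨rfl, hq⟩ := h22
    have hq2 : Fintype.card F = 2 := by have := Fintype.one_lt_card (α := F); omega
    haveI := SympSimple.primitive (F := F) (m := 2) (by omega)
    haveI : IsPreprimitive (Matrix.symplecticGroup (Fin 2) F) (ℙ F (Fin 2 ⊕ Fin 2 → F)) :=
      (isPreprimitive_congr (φ := SympSimple.toSpGL (F := F) (m := 2)) (f := ⟨id, fun _ _ => rfl⟩)
        SympSimple.toSpGL_surjective Function.bijective_id).mpr inferInstance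
    haveI : IsPreprimitive (Cfsg.PSp 2 F) (ℙ F (Fin 2 ⊕ Fin 2 → F)) :=
      IsPreprimitive.of_surjective (f := (⟨id, fun _ _ => rfl⟩ :
        ℙ F (Fin 2 ⊕ Fin 2 → F) →ₑ[(QuotientGroup.mk' _ : Matrix.symplecticGroup (Fin 2) F → Cfsg.PSp 2 F)]
          ℙ F (Fin 2 ⊕ Fin 2 → F))) Function.surjective_id
    haveI : IsPretransitive M (ℙ F (Fin 2 ⊕ Fin 2 → F)) := by
      refine IsQuasiPreprimitive.isPretransitive_of_normal fun huniv => hM ?_
      rw [Subgroup.eq_bot_iff_forall]
      intro y hy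
      refine (QuotientGroup.injective_lift_iff _ _ _).mpr SympSimple.ker_perm.symm
        (show SympSimple.pspPerm y = SympSimple.pspPerm 1 from Equiv.ext fun z => ?_)
      have hz : z ∈ MulAction.fixedPoints M (ℙ F (Fin 2 ⊕ Fin 2 → F)) := huniv ▸ Set.mem_univ z
      rw [map_one, Equiv.Perm.one_apply]
      exact hz ⟨y, hy⟩
    have h15 : Nat.card (ℙ F (Fin 2 ⊕ Fin 2 → F)) = 15 := by
      rw [Projectivization.card'' F, Nat.card_fun, Nat.card_eq_fintype_card (α := F), hq2]
      simp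
    have hd : 15 ∣ Nat.card M := by
      have h := (MulAction.stabilizer M (Classical.arbitrary (ℙ F (Fin 2 ⊕ Fin 2 → F)))).card_mul_index
      rw [MulAction.index_stabilizer_of_transitive, h15] at h
      exact Dvd.intro_left _ h
    refine dvd_trans ?_ hd
    have hcard : Nat.card (Matrix.symplecticGroup (Fin 2) F) = 720 := by
      rw [Cfsg.Agent.S0245.result hq2 2, Finset.prod_range_succ, Finset.prod_range_one]; norm_num
    have h720 : p ∣ 720 := hcard ▸ dvd_trans hdvd (Subgroup.card_quotient_dvd_card _)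
    haveI : CharP F 2 := PolarAut.charP_of_natCard (k := 1) (by rw [Nat.card_eq_fintype_card, hq2, pow_one])
    have hne := h2 (by exact_mod_cast CharP.cast_eq_zero F 2)
    have h : p ∣ 15 ^ 2 := by
      have h45 : p ∣ 16 * 45 := h720
      rcases (Nat.Prime.dvd_mul hp).mp h45 with h | h
      · exact absurd ((Nat.prime_dvd_prime_iff_eq hp Nat.prime_two).mp (hp.dvd_of_dvd_pow (n := 4) h)) hne
      · exact dvd_trans h ⟨5, rfl⟩
    exact hp.dvd_of_dvd_pow h

/-- An element of order two. -/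
theorem two_dvd_card (hm : 2 ≤ m) (h22 : m = 2 → 3 ≤ Fintype.card F) (h2 : (2 : F) ≠ 0) :
    2 ∣ Nat.card (Cfsg.PSp m F) := by
  classical
  let d : Fin m → F := Function.update 1 ⟨0, by omega⟩ (-1)
  have hd : ∀ i, d i * d i = 1 := fun i => by
    rcases eq_or_ne i ⟨0, by omega⟩ with h | h
    · simp [d, h]
    · simp [d, Function.update_of_ne h]
  let M : Matrix ι' ι' F := fromBlocks (diagonal d) 0 0 (diagonal d)
  have hM : M ∈ Matrix.symplecticGroup (Fin m) F := by
    rw [sp_iff]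
    simp only [M, Matrix.J, fromBlocks_transpose, fromBlocks_multiply, diagonal_transpose]
    simp [diagonal_mul_diagonal, hd]
    ext i j
    by_cases h : i = j <;> simp [h]
  let y : Cfsg.PSp m F := QuotientGroup.mk ⟨M, hM⟩
  have hy2 : y ^ 2 = 1 := by
    rw [pow_two]
    show (QuotientGroup.mk (⟨M, hM⟩ * ⟨M, hM⟩) : Cfsg.PSp m F) = QuotientGroup.mk 1
    congr 1
    refine Subtype.ext ?_
    show M * M = 1
    simp [M, fromBlocks_multiply, diagonal_mul_diagonal, hd, fromBlocks_one]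
    funext i
    rcases i with i | i <;> simp [hd]
  have hy : y ≠ 1 := fun h => by
    rw [QuotientGroup.eq_one_iff] at h
    obtain ⟨r, hr⟩ := SympTransvection.scalar_of_central _ h
    have e0 := congrFun (congrFun (hr : M = _) (Sum.inl ⟨0, by omega⟩)) (Sum.inl ⟨0, by omega⟩)
    have e1 := congrFun (congrFun (hr : M = _) (Sum.inl ⟨1, by omega⟩)) (Sum.inl ⟨1, by omega⟩)
    simp [M, d, Matrix.scalar_apply] at e0 e1
    exact h2 (by linear_combination e1 - e0)
  rw [← orderOf_eq_prime hy2 hy]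
  exact orderOf_dvd_natCard y

omit [Fintype F] in
/-- A vector whose transvection commutes up to a scalar with a semilinear map is an eigenvector. -/
theorem eigen_of_comm {T : Vec → Vec} (τ : F ≃+* F) (Tadd : ∀ a b, T (a + b) = T a + T b)
    (Tinj : Function.Injective T) (Tsmul : ∀ (a : F) v, T (a • v) = τ a • T v) {U : Vec}
    (s' : Matrix.symplecticGroup (Fin m) F) (hT : ∀ w, s'.1 *ᵥ T w = T ((tv U (1 : F)).1 *ᵥ w))
    (hpr : (PolarAut.spGeo F m).pr s' = (PolarAut.spGeo F m).pr (tv U 1)) : ∃ μ : F, T U = μ • U := by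
  by_contra hne
  push Not at hne
  have hU : U ≠ 0 := by
    rintro rfl
    have := Tsmul 0 0
    rw [zero_smul, map_zero, zero_smul] at this
    exact hne 0 (by rw [this, smul_zero])
  have Tzero : T 0 = 0 := by
    have := Tsmul 0 0
    rwa [zero_smul, map_zero, zero_smul] at this
  obtain ⟨c, hc⟩ := ((PolarAut.spGeo F m).pr_eq_iff).mp hpr
  have e : ∀ w, s'.1 *ᵥ w = c • ((tv U (1 : F)).1 *ᵥ w) ∨ (tv U (1 : F)).1 *ᵥ w = c • (s'.1 *ᵥ w) := fun w => by
    first
    | exact Or.inl (hc w)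
    | exact Or.inr (hc w)
  have hTu : T U ≠ 0 := fun h0 => hU (Tinj (h0.trans Tzero.symm))
  have fu : (tv U (1 : F)).1 *ᵥ U = U := by rw [tv_apply, B_self, mul_zero, zero_smul, add_zero]
  have hB : B (T U) U = 0 := by
    by_contra hB
    have h0 := hT U
    rw [fu] at h0
    have := e (T U)
    rw [h0, tv_apply, one_mul] at this
    rcases this with this | this
    · by_cases hc1 : c = 1
      · rw [hc1, one_smul, left_eq_add, smul_eq_zero] at this
        exact this.elim hB hU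
      · refine hne ((1 - c)⁻¹ * (c * B (T U) U)) ?_
        have h' : (1 - c) • T U = (c * B (T U) U) • U := by
          rw [sub_smul, one_smul]; nth_rewrite 1 [this]; rw [smul_add, smul_smul]; abel
        rw [← smul_smul, ← h', inv_smul_smul₀ (sub_ne_zero.mpr (Ne.symm hc1))]
    · by_cases hc1 : c = 1
      · rw [hc1, one_smul, add_eq_left, smul_eq_zero] at this
        exact this.elim hB hU
      · refine hne ((c - 1)⁻¹ * B (T U) U) ?_
        have h' : (c - 1) • T U = B (T U) U • U := by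
          rw [sub_smul, one_smul, ← this]; abel
        rw [← smul_smul, ← h', inv_smul_smul₀ (sub_ne_zero.mpr hc1)]
  have hc1 : c = 1 := by
    have h0 := hT U
    rw [fu] at h0
    have := e (T U)
    rw [h0, tv_apply, one_mul, hB, zero_smul, add_zero] at this
    have : T U = c • T U := this.elim id id
    exact smul_left_injective _ hTu (this.symm.trans (one_smul _ _).symm)
  obtain ⟨z, hz⟩ := SympTransvection.exists_dot_ne hU
  have hz' : B z U ≠ 0 := hz
  have h0 := hT ((B z U)⁻¹ • z)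
  have := e (T ((B z U)⁻¹ • z))
  rw [h0, tv_apply U 1 (T _), hc1, one_smul, one_smul, one_mul] at this
  have h' := this.elim id Eq.symm
  rw [tv_apply, B_smul_left, inv_mul_cancel₀ hz', one_mul, one_smul, Tadd, add_right_inj] at h'
  exact hne _ h'

omit [Fintype F] in
/-- Only scalars act trivially, over any field. -/
theorem conjS_eq_one (hm : 1 ≤ m) (y : ↥(GS)) : conjS y = 1 ↔ ∃ μ : F, μ ≠ 0 ∧ y.1.1 = μ • 1 := by
  classical
  constructor
  · intro hy
    have hfix : ∀ u : Vec, ∃ a : F, y.1.1 *ᵥ u = a • u := fun u =>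
      eigen_of_comm (T := fun w => y.1.1 *ᵥ w) (RingEquiv.refl F) (fun a b => mulVec_add _ a b)
        (Matrix.mulVec_injective_of_isUnit y.1.isUnit) (fun a v => mulVec_smul _ a v) (conjSp y (tv u 1))
        (fun w => by
          show (y.1.1 * (tv u 1).1 * (y.1⁻¹).1) *ᵥ (y.1.1 *ᵥ w) = y.1.1 *ᵥ ((tv u 1).1 *ᵥ w)
          rw [mulVec_mulVec, Matrix.mul_assoc, Units.inv_mul, Matrix.mul_one, mulVec_mulVec])
        (congrArg (fun β : MulAut (Cfsg.PSp m F) => β (QuotientGroup.mk (tv u 1))) hy)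
    obtain ⟨μ, hμ⟩ := (Matrix.toLin' y.1.1).exists_eq_smul_id_of_forall_notLinearIndependent (by
      intro v
      by_cases hv : v = 0
      · simp [hv, linearIndependent_fin2]
      · obtain ⟨a, ha⟩ := hfix v
        rw [LinearIndependent.pair_iff' hv]
        push Not
        exact ⟨a, by rw [Matrix.toLin'_apply, ha]⟩)
    have hyμ : y.1.1 = μ • 1 := Matrix.ext_of_mulVec_single fun i => by
      rw [← Matrix.toLin'_apply, hμ, smul_mulVec, one_mulVec]
      rfl
    refine ⟨μ, ?_, hyμ⟩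
    rintro rfl
    rw [zero_smul] at hyμ
    haveI : Nonempty ι' := ⟨Sum.inl ⟨0, hm⟩⟩
    exact y.1.ne_zero hyμ
  · rintro ⟨μ, hμ, h⟩
    rw [show y = scalS (Units.mk0 μ hμ) from Subtype.ext (Units.ext (by rw [scalS_val]; exact h)), conjS_scalS]

omit [Fintype F] in
theorem conj_injective' (hm : 1 ≤ m) : Function.Injective (MulAut.conj : Cfsg.PSp m F → A) := by
  refine (injective_iff_map_eq_one _).mpr fun a ha => ?_
  obtain ⟨s, rfl⟩ := QuotientGroup.mk_surjective a
  rw [← conjS_ofSp, conjS_eq_one hm] at ha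
  obtain ⟨μ, -, hμ⟩ := ha
  rw [QuotientGroup.eq_one_iff, Subgroup.mem_center_iff]
  refine fun k => Subtype.ext ?_
  show k.1 * s.1 = s.1 * k.1
  rw [ofSp_val] at hμ
  rw [hμ, Matrix.smul_mul, Matrix.mul_smul, Matrix.one_mul, Matrix.mul_one]

omit [Fintype F] in
theorem comap_inn' (hm : 1 ≤ m) :
    (Cfsg.Inn (Cfsg.PSp m F)).comap conjS = (powMonoidHom 2 : Fˣ →* Fˣ).range.comap (mult hm) := by
  apply le_antisymm
  · intro x hx
    obtain ⟨a, ha⟩ := Subgroup.mem_comap.mp hx
    obtain ⟨s, rfl⟩ := QuotientGroup.mk_surjective a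
    rw [← conjS_ofSp] at ha
    obtain ⟨μ, hμ0, hμ⟩ := (conjS_eq_one hm (x * (ofSp s)⁻¹)).mp
      (by rw [map_mul, map_inv]; exact mul_inv_eq_one.mpr ha.symm)
    have hx' : x.1.1 = μ • s.1 := by
      rw [← inv_mul_cancel_right x (ofSp s)]
      show (x * (ofSp s)⁻¹).1.1 * s.1 = _
      rw [hμ, Matrix.smul_mul, Matrix.one_mul]
    refine Subgroup.mem_comap.mpr ⟨Units.mk0 μ hμ0, (mult_eq hm ?_).symm⟩
    rw [hx', transpose_smul, Matrix.smul_mul, Matrix.mul_smul, Matrix.smul_mul, sp_iff.mp s.2, smul_smul]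
    simp [sq]
  · intro x hx
    obtain ⟨u, hu⟩ := Subgroup.mem_comap.mp hx
    have hm' := mult_spec hm x
    rw [← hu] at hm'
    have hs : ((u⁻¹ : Fˣ) : F) • x.1.1 ∈ Matrix.symplecticGroup (Fin m) F := by
      rw [sp_iff, transpose_smul, Matrix.smul_mul, Matrix.mul_smul, Matrix.smul_mul, hm', smul_smul, smul_smul,
        powMonoidHom_apply, ← Units.val_mul, ← Units.val_mul, show u⁻¹ * u⁻¹ * u ^ 2 = 1 by group, Units.val_one,
        one_smul]
    refine Subgroup.mem_comap.mpr ⟨QuotientGroup.mk ⟨_, hs⟩, ?_⟩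
    rw [← conjS_ofSp, show ofSp ⟨_, hs⟩ = scalS u⁻¹ * x from Subtype.ext (Units.ext (by
      show ((u⁻¹ : Fˣ) : F) • x.1.1 = (scalS u⁻¹).1.1 * x.1.1
      rw [scalS_val, Matrix.smul_mul, Matrix.one_mul])), map_mul, conjS_scalS, one_mul]

theorem dvd_of_dvd_range (hm : 2 ≤ m) {p : ℕ} (hp : p.Prime) (hp2 : (2 : F) = 0 → p ≠ 2)
    (h : p ∣ Nat.card (conjS (F := F) (m := m)).range) : p ∣ Nat.card (Cfsg.PSp m F) := by
  have h1 : 1 ≤ m := by omega
  have hle : Cfsg.Inn (Cfsg.PSp m F) ≤ (conjS (F := F) (m := m)).range := by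
    rw [← inndiag_eq]; exact inn_le_inndiag
  rw [← ((Cfsg.Inn (Cfsg.PSp m F)).subgroupOf (conjS (F := F) (m := m)).range).card_mul_index,
    Nat.card_congr (Subgroup.subgroupOfEquivOfLe hle).toEquiv,
    show ((Cfsg.Inn (Cfsg.PSp m F)).subgroupOf (conjS (F := F) (m := m)).range).index =
      (Cfsg.Inn (Cfsg.PSp m F)).relIndex (conjS (F := F) (m := m)).range from rfl, ← Subgroup.index_comap,
    comap_inn' h1, Subgroup.index_comap_of_surjective _ (mult_surj _), IsCyclic.index_powMonoidHom_range,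
    Nat.card_units, ← Nat.card_congr (MonoidHom.ofInjective (conj_injective' (F := F) h1)).toEquiv] at h
  rcases hp.dvd_mul.mp h with h | h
  · exact h
  · obtain rfl : p = 2 := (Nat.prime_dvd_prime_iff_eq hp Nat.prime_two).mp (h.trans (Nat.gcd_dvd_right _ _))
    have h2F : (2 : F) ≠ 0 := fun h0 => hp2 h0 rfl
    refine two_dvd_card hm (fun _ => ?_) h2F
    by_contra hlt
    have hc2 : Fintype.card F = 2 := by have := Fintype.one_lt_card (α := F); omega
    haveI : CharP F 2 := PolarAut.charP_of_natCard (k := 1) (by rw [Nat.card_eq_fintype_card, hc2, pow_one])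
    exact h2F (by exact_mod_cast CharP.cast_eq_zero F 2)

theorem rigid_fieldS (hm : 2 ≤ m) (h22 : m = 2 → 3 ≤ Fintype.card F) {p : ℕ} [hp : Fact p.Prime]
    (σ : RingAut F) (hord : orderOf σ = p) (hp2 : (2 : F) = 0 → p ≠ 2) :
    CoreGen.Rigid p (fieldS (m := m) σ) := by
  classical
  intro hdvd N hN hc hk
  have h1 : 1 ≤ m := by omega
  haveI : Fintype (PSLn.fixedField σ) := Fintype.ofFinite _
  obtain ⟨ι, hι⟩ := FieldGen.exists_emb σ (PSLn.fixedField σ) Nat.card_eq_fintype_card.symm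
  have hmapJ : (Matrix.J (Fin m) (PSLn.fixedField σ)).map ι = Matrix.J (Fin m) F := by
    ext i j
    rcases i with i | i <;> rcases j with j | j <;> simp [Matrix.J, Matrix.one_apply, apply_ite]
  -- the homomorphisms
  let φ : ↥(Cfsg.GSp m (PSLn.fixedField σ)) →* A := conjS.comp (incl ι)
  let ψ : ↥(Cfsg.GSp m (PSLn.fixedField σ)) →* MulAut (Cfsg.PSp m (PSLn.fixedField σ)) := conjS
  have hφI : ∀ y, φ y ∈ Cfsg.inndiagPSp m F := fun y => by rw [inndiag_eq]; exact ⟨_, rfl⟩
  have hrange : ∀ a ∈ Cfsg.inndiagPSp m F, a * fieldS σ = fieldS σ * a → a ∈ φ.range := by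
    intro a ha hc'
    rw [inndiag_eq] at ha
    obtain ⟨x, rfl⟩ := ha
    obtain ⟨u, hu⟩ := (commute_iff hm h22 σ x).mp hc'
    obtain ⟨v, y, hy⟩ := exists_descend hι h1 hu
    exact ⟨y, by rw [MonoidHom.comp_apply, hy, map_mul, conjS_scalS, one_mul]⟩
  -- scalars only act trivially on both sides
  have hker : φ.ker = ψ.ker := by
    ext y
    rw [MonoidHom.mem_ker, MonoidHom.mem_ker, MonoidHom.comp_apply, conjS_eq_one h1, conjS_eq_one h1, incl_val]
    constructor
    · rintro ⟨μ, hμ0, hμ⟩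
      have hi : μ = ι (y.1.1 (Sum.inl ⟨0, h1⟩) (Sum.inl ⟨0, h1⟩)) := by
        have := congrFun (congrFun hμ (Sum.inl ⟨0, h1⟩)) (Sum.inl ⟨0, h1⟩)
        simpa using this.symm
      refine ⟨y.1.1 (Sum.inl ⟨0, h1⟩) (Sum.inl ⟨0, h1⟩), fun h0 => hμ0 (by rw [hi, h0, map_zero]),
        Matrix.map_injective ι.injective ?_⟩
      show y.1.1.map ι = (y.1.1 (Sum.inl ⟨0, h1⟩) (Sum.inl ⟨0, h1⟩) • (1 : Matrix ι' ι' (PSLn.fixedField σ))).map ι
      rw [hμ, hi, FieldGen.map_smul_hom, Matrix.map_one _ (map_zero ι) (map_one ι)]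
    · rintro ⟨μ, hμ0, hμ⟩
      refine ⟨ι μ, by simpa using hμ0, ?_⟩
      rw [hμ, FieldGen.map_smul_hom, Matrix.map_one _ (map_zero ι) (map_one ι)]
  have hcardmap : ∀ H : Subgroup ↥(Cfsg.GSp m (PSLn.fixedField σ)),
      Nat.card (H.map ψ) = Nat.card (H.map φ) := fun H => by
    rw [← Subgroup.relIndex_ker, ← Subgroup.relIndex_ker, hker]
  -- fixed symplectic matrices
  let up : Matrix.symplecticGroup (Fin m) (PSLn.fixedField σ) → Matrix.symplecticGroup (Fin m) F := fun s =>
    ⟨s.1.map ι, by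
      rw [sp_iff, ← hmapJ, ← transpose_map, ← Matrix.map_mul, ← Matrix.map_mul, sp_iff.mp s.2]⟩
  have hupfix : ∀ s, fieldS σ (QuotientGroup.mk (up s) : Cfsg.PSp m F) = QuotientGroup.mk (up s) := fun s => by
    rw [fieldS_mk]
    congr 1
    exact Subtype.ext (Matrix.ext fun i j => (hι _).mpr ⟨s.1 i j, rfl⟩)
  have hφof : ∀ s, φ (ofSp s) = MulAut.conj (QuotientGroup.mk (up s) : Cfsg.PSp m F) := fun s => by
    rw [← conjS_ofSp]
    show conjS (incl ι (ofSp s)) = conjS (ofSp (up s))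
    exact congrArg conjS (Subtype.ext (Units.ext rfl))
  have hinj := conj_injective' (F := F) h1
  have hψinj := conj_injective' (F := PSLn.fixedField σ) h1
  -- `p` divides the order of the small group
  have hpK : p ∣ Nat.card (Cfsg.PSp m (PSLn.fixedField σ)) := by
    let g : ↥(MonoidHom.eqLocus (fieldS (m := m) σ).toMonoidHom (MonoidHom.id (Cfsg.PSp m F))) →* A :=
      MulAut.conj.comp (Subgroup.subtype _)
    have hg : g.range ≤ φ.range := by
      rintro _ ⟨k, rfl⟩
      refine hrange _ (inn_le_inndiag ⟨k.1, rfl⟩) ?_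
      show MulAut.conj k.1 * fieldS σ = fieldS σ * MulAut.conj k.1
      rw [CoreGen.mul_conj, show fieldS σ k.1 = k.1 from k.2]
    have h : p ∣ Nat.card φ.range := dvd_trans hdvd (dvd_trans
      (Nat.card_congr (MonoidHom.ofInjective (f := g) (hinj.comp (Subgroup.subtype_injective _))).toEquiv).dvd
      (Subgroup.card_dvd_of_le hg))
    rw [MonoidHom.range_eq_map, ← hcardmap, ← MonoidHom.range_eq_map] at h
    exact dvd_of_dvd_range hm hp.out (fun h0 => hp2 (by rw [← map_ofNat ι 2, h0, map_zero])) h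
  -- the part inside the inner-diagonal group
  have hMbot : ∀ a ∈ N, a ∈ Cfsg.inndiagPSp m F → a = 1 := by
    intro a ha haI
    let M1 : Subgroup (MulAut (Cfsg.PSp m (PSLn.fixedField σ))) := (N.comap φ).map ψ
    have hc1 : (Nat.card M1).Coprime p := by
      rw [hcardmap]
      exact Nat.Coprime.coprime_dvd_left (Subgroup.card_dvd_of_le (Subgroup.map_comap_le φ N)) hc
    have hnorm : ∀ k, ∀ y ∈ M1, MulAut.conj k * y * (MulAut.conj k)⁻¹ ∈ M1 := by
      rintro k _ ⟨y, hy, rfl⟩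
      obtain ⟨s, rfl⟩ := QuotientGroup.mk_surjective k
      refine ⟨ofSp s * y * (ofSp s)⁻¹, ?_, by rw [map_mul, map_mul, map_inv, ← conjS_ofSp]⟩
      show φ (ofSp s * y * (ofSp s)⁻¹) ∈ N
      rw [map_mul, map_mul, map_inv, hφof]
      exact hk _ (hupfix s) _ hy
    haveI hn2 : (M1.comap (MulAut.conj : Cfsg.PSp m (PSLn.fixedField σ) →* _)).Normal :=
      ⟨fun n hn g => by
        show MulAut.conj (g * n * g⁻¹) ∈ M1
        rw [map_mul, map_mul, map_inv]
        exact hnorm g _ hn⟩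
    have hbot : M1.comap (MulAut.conj : Cfsg.PSp m (PSLn.fixedField σ) →* _) = ⊥ := by
      by_contra hne
      have hd := dvd_card_normal hm hp.out (fun h0 => hp2 (by rw [← map_ofNat ι 2, h0, map_zero])) hpK _ hne
      have hdd : Nat.card (M1.comap (MulAut.conj : Cfsg.PSp m (PSLn.fixedField σ) →* _)) ∣ Nat.card M1 :=
        Subgroup.card_comap_dvd_of_injective M1 _ hψinj
      exact hp.out.not_dvd_one (hc1 ▸ Nat.dvd_gcd (hd.trans hdd) dvd_rfl)
    have hM1 : M1 = ⊥ := CoreGen.eq_bot_of_normalized hψinj M1 hnorm fun k hk' =>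
      (Subgroup.eq_bot_iff_forall _).mp hbot k hk'
    obtain ⟨b, rfl⟩ := hrange a haI (hN a ha)
    have : ψ b = 1 := Subgroup.mem_bot.mp (hM1 ▸ (⟨b, ha, rfl⟩ : ψ b ∈ M1))
    exact (hker ▸ (MonoidHom.mem_ker.mpr this : b ∈ ψ.ker) : b ∈ φ.ker)
  refine (Subgroup.eq_bot_iff_forall _).mpr fun y hy => ?_
  -- `y` fixes the small group pointwise
  have hyfix : ∀ k, fieldS σ k = k → y k = k := fun k hk' => by
    have hyk : fieldS σ (y k) = y k := by
      rw [← MulAut.mul_apply, ← hN y hy, MulAut.mul_apply, hk']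
    have h1' : MulAut.conj (y k * k⁻¹) ∈ N := by
      have := N.mul_mem hy (hk k hk' _ (N.inv_mem hy))
      rw [map_mul, map_inv, show MulAut.conj (y k) = y * MulAut.conj k * y⁻¹ by rw [CoreGen.mul_conj]; group]
      simpa [mul_assoc] using this
    have := hMbot _ h1' (inn_le_inndiag ⟨_, rfl⟩)
    exact mul_inv_eq_one.mp (hinj (this.trans (map_one _).symm))
  -- `y` is semilinear
  let up' : (Fin m ⊕ Fin m → PSLn.fixedField σ) → Vec := fun u i => ι (u i)
  have htv : ∀ u c, up (tv u c) = tv (up' u) (ι c) := fun u c => SympSimple.ext_apply fun w => by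
    refine congrArg (· *ᵥ w) (Matrix.ext_of_mulVec_single fun j => ?_)
    funext i
    have e := congrFun (tv_apply (up' u) (ι c) (Pi.single j 1)) i
    have e' := congrFun (tv_apply u c (Pi.single j 1)) i
    show ((tv u c).1.map ι *ᵥ Pi.single j 1) i = _
    rw [e, show (Pi.single j (1 : F) : Vec) = up' (Pi.single j 1) by
      funext l; by_cases hl : l = j <;> simp [up', Pi.single_apply, hl]]
    rw [show (tv u c).1.map ι *ᵥ up' (Pi.single j 1) = fun l => ι (((tv u c).1 *ᵥ Pi.single j 1) l) from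
      funext fun l => (RingHom.map_mulVec ι (tv u c).1 (Pi.single j 1) l).symm]
    show ι _ = _
    rw [e']
    simp only [Pi.add_apply, Pi.smul_apply, smul_eq_mul, map_add, map_mul, up']
    congr 3
    show ι (Pi.single j 1 ⬝ᵥ (Matrix.J (Fin m) (PSLn.fixedField σ) *ᵥ u)) = _
    rw [RingHom.map_dotProduct]
    congr 1
    funext l
    refine (RingHom.map_mulVec ι _ u l).trans ?_
    rw [hmapJ]
    rfl
  have hy1 : ∀ u c, y (QuotientGroup.mk (tv (up' u) (ι c)) : Cfsg.PSp m F) = QuotientGroup.mk (tv (up' u) (ι c)) :=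
    fun u c => by rw [← htv]; exact hyfix _ (hupfix _)
  let e₁ : Fin m ⊕ Fin m → PSLn.fixedField σ := bas (Sum.inl ⟨0, h1⟩)
  have hup0 : ∀ u, u ≠ 0 → up' u ≠ 0 := fun u hu h0 => hu (funext fun i => ι.injective (by
    rw [show ι (u i) = 0 from congrFun h0 i]; exact (map_zero ι).symm))
  have he1 : e₁ ≠ 0 := fun h => one_ne_zero (α := PSLn.fixedField σ) (by
    simpa [e₁] using congrFun h (Sum.inl ⟨0, h1⟩))
  have hsemi : ∃ (g : GL ι' F) (τ : F ≃+* F), g ∈ GS ∧ Cfsg.IsInducedBySemilinearPSp g τ y := by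
    by_cases h4 : m = 2 ∧ (2 : F) = 0
    · haveI : CharP F 2 := CharTwo.of_one_ne_zero_of_two_eq_zero one_ne_zero h4.2
      refine PolarAut.psp_semilinear_of_tperm hm y (PolarAut.tperm_of_fix h1 y (hup0 _ he1) ?_)
      have := hy1 e₁ 1
      rwa [map_one] at this
    · exact PolarAut.psp_semilinear hm (fun a b => h4 ⟨a, b⟩) y
  obtain ⟨g, τ, hg, hgy⟩ := hsemi
  let T : Vec → Vec := fun v => g.1 *ᵥ (fun i => τ (v i))
  have Tadd : ∀ a b, T (a + b) = T a + T b := fun a b => by
    simp only [T, ← mulVec_add]; congr 1; funext i; simp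
  have Tsmul : ∀ (a : F) v, T (a • v) = τ a • T v := fun a v => by
    simp only [T, ← mulVec_smul]; congr 1; funext i; simp
  have Tinj : Function.Injective T := fun u v h => by
    funext i
    exact τ.injective (congrFun (Matrix.mulVec_injective_of_isUnit g.isUnit h) i)
  have Tzero : T 0 = 0 := by simpa using Tsmul 0 0
  have eig : ∀ u, u ≠ 0 → ∃ μ : F, T (up' u) = μ • up' u := by
    intro u hu
    have hy' := hy1 u 1
    rw [map_one] at hy'
    obtain ⟨s', hs'⟩ : ∃ s' : Matrix.symplecticGroup (Fin m) F,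
        s'.1 = g.1 * (tv (up' u) (1 : F)).1.map τ * (g⁻¹).1 :=
      ⟨⟨_, conj_mem ⟨g, hg⟩ (fieldSp τ (tv (up' u) 1))⟩, rfl⟩
    refine eigen_of_comm τ Tadd Tinj Tsmul s' (fun w => ?_) ((hgy _ s' hs').symm.trans hy')
    show s'.1 *ᵥ (g.1 *ᵥ _) = g.1 *ᵥ _
    rw [hs', mulVec_mulVec, Matrix.mul_assoc, Units.inv_mul, Matrix.mul_one, ← mulVec_mulVec]
    congr 1
    exact (funext fun i => RingHom.map_mulVec (τ : F ≃+* F).toRingHom (tv (up' u) (1 : F)).1 w i).symm
  let e₂ : Fin m ⊕ Fin m → PSLn.fixedField σ := bas (Sum.inr ⟨0, h1⟩)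
  have hup' : ∀ (a : PSLn.fixedField σ) u v, up' (u + a • v) = up' u + ι a • up' v := fun a u v => by
    funext i; simp [up']
  have hbas : ∀ i, up' (bas i) = bas i := fun i => by
    funext l; by_cases hl : l = i <;> simp [up', bas, Pi.single_apply, hl]
  have ind : ∀ (i j : ι'), i ≠ j → ∀ a b : F, a • (bas i : Vec) + b • bas j = 0 → a = 0 ∧ b = 0 := by
    intro i j hij a b h
    exact ⟨by simpa [bas, hij, hij.symm] using congrFun h i, by simpa [bas, hij, hij.symm] using congrFun h j⟩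
  have hbne : ∀ i, (bas i : Fin m ⊕ Fin m → PSLn.fixedField σ) ≠ 0 := fun i h =>
    one_ne_zero (α := PSLn.fixedField σ) (by simpa [bas] using congrFun h i)
  choose lam hlam using fun i => eig (bas i) (hbne i)
  simp only [hbas] at hlam
  have key : ∀ i j, i ≠ j → ∀ b, τ (ι b) * lam j = lam i * ι b := by
    intro i j hij b
    have hne : (bas i + b • bas j : Fin m ⊕ Fin m → PSLn.fixedField σ) ≠ 0 := fun h => one_ne_zero (α := PSLn.fixedField σ) (by
      simpa [bas, hij, hij.symm] using congrFun h i)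
    obtain ⟨κ, hκ⟩ := eig _ hne
    rw [hup', hbas, hbas, Tadd, Tsmul, hlam, hlam, smul_smul, smul_add, smul_smul, ← sub_eq_zero] at hκ
    obtain ⟨h₁, h₂⟩ := ind i j hij (lam i - κ) (τ (ι b) * lam j - κ * ι b) (by
      rw [sub_smul, sub_smul, ← hκ]; abel)
    rw [sub_eq_zero] at h₁ h₂
    rw [h₂, h₁]
  set i₁ : ι' := Sum.inl ⟨0, h1⟩
  have hall : ∀ i, lam i = lam i₁ := fun i => by
    rcases eq_or_ne i i₁ with rfl | hi
    · rfl
    · simpa using key i₁ i (Ne.symm hi) 1
  have hl0 : lam i₁ ≠ 0 := fun h0 => by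
    have := hlam i₁
    rw [h0, zero_smul, ← Tzero] at this
    exact one_ne_zero (α := F) (by simpa [bas] using congrFun (Tinj this) i₁)
  have hτι : ∀ b, τ (ι b) = ι b := fun b => mul_right_cancel₀ hl0 (by
    have := key i₁ (Sum.inr ⟨0, h1⟩) (by simp [i₁]) b
    rw [hall] at this
    rw [this, mul_comm])
  have hgμ : g.1 = lam i₁ • 1 := Matrix.ext_of_mulVec_single fun i => by
    have e := hlam i
    rw [hall] at e
    rw [smul_mulVec, one_mulVec, ← e]
    show _ = g.1 *ᵥ _
    congr 1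
    funext l
    by_cases hl : l = i <;> simp [bas, Pi.single_apply, hl]
  have hyτ : y = fieldS τ := by
    rw [semilinear_eq hg hgy, show (⟨g, hg⟩ : ↥(GS)) = scalS (Units.mk0 _ hl0) from
      Subtype.ext (Units.ext (by rw [scalS_val]; exact hgμ)), conjS_scalS, one_mul]
  have hτ : (orderOf τ).Coprime p := by
    refine Nat.Coprime.coprime_dvd_left ?_ hc
    rw [← orderOf_injective _ (fieldS_inj hm h22) τ, ← hyτ, ← Subgroup.orderOf_mk y hy]
    exact orderOf_dvd_natCard _
  -- Galois theory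
  have hle : ∀ b, ι b ∈ PSLn.fixedField τ := hτι
  letI : Algebra (PSLn.fixedField σ) (PSLn.fixedField τ) := (ι.codRestrict _ hle).toAlgebra
  haveI : Fintype (PSLn.fixedField τ) := Fintype.ofFinite _
  haveI : Module.Finite (PSLn.fixedField σ) (PSLn.fixedField τ) := Module.Finite.of_finite
  have hj := Module.card_eq_pow_finrank (K := PSLn.fixedField σ) (V := PSLn.fixedField τ)
  rw [← Nat.card_eq_fintype_card, ← Nat.card_eq_fintype_card] at hj
  have hq1 := PSLn.card_eq_fixedField_pow σ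
  have hq2 := PSLn.card_eq_fixedField_pow τ
  rw [hq1, hord, hj, ← pow_mul] at hq2
  have hlt : 1 < Nat.card (PSLn.fixedField σ) := Finite.one_lt_card
  have hmul := Nat.pow_right_injective hlt hq2
  have : orderOf τ ∣ p := Dvd.intro_left _ hmul.symm
  have hτ1 : τ = 1 := orderOf_eq_one_iff.mp (Nat.eq_one_of_dvd_coprimes hτ dvd_rfl this)
  rw [hyτ, hτ1, map_one]

theorem field_fixed_ne_one (hm : 1 ≤ m) (σ : RingAut F) :
    ∃ k : Cfsg.PSp m F, k ≠ 1 ∧ fieldS σ k = k := by
  classical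
  let e : Vec := bas (Sum.inl ⟨0, hm⟩)
  have he : e ≠ 0 := fun h => one_ne_zero (α := F) (by simpa [e, bas] using congrFun h (Sum.inl ⟨0, hm⟩))
  refine ⟨QuotientGroup.mk (tv e (1 : F)), fun h => ?_, ?_⟩
  · rw [QuotientGroup.eq_one_iff] at h
    obtain ⟨r, hr⟩ := SympTransvection.scalar_of_central _ h
    obtain ⟨z, hz⟩ := SympTransvection.exists_dot_ne he
    have h1 := tv_apply e (1 : F) e
    have h2 := tv_apply e (1 : F) z
    rw [hr, Matrix.scalar_apply, ← Matrix.smul_one_eq_diagonal, smul_mulVec, one_mulVec] at h1 h2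
    rw [B_self, mul_zero, zero_smul, add_zero] at h1
    have hr1 : r = 1 := smul_left_injective F he (h1.trans (one_smul F e).symm)
    rw [hr1, one_smul, left_eq_add, one_mul, smul_eq_zero] at h2
    exact h2.elim hz he
  · rw [fieldS_mk]
    congr 1
    refine Subtype.ext ?_
    show (tv e (1 : F)).1.map σ = (tv e (1 : F)).1
    refine Matrix.ext_of_mulVec_single fun j => ?_
    have hs : ∀ j : ι', (fun i => σ ((Pi.single j (1 : F) : Vec) i)) = (Pi.single j 1 : Vec) := fun j => by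
      funext i; by_cases hi : i = j <;> simp [Pi.single_apply, hi]
    conv_lhs => rw [← hs j]
    rw [show (tv e (1 : F)).1.map σ *ᵥ (fun i => σ ((Pi.single j (1 : F) : Vec) i)) =
      fun i => σ (((tv e (1 : F)).1 *ᵥ Pi.single j 1) i) from
        funext fun i => (RingHom.map_mulVec (σ : F ≃+* F).toRingHom _ _ i).symm, tv_apply]
    funext i
    have hB : σ (B (Pi.single j (1 : F) : Vec) e) = B (Pi.single j (1 : F) : Vec) e := by
      show σ ((Pi.single j (1 : F) : Vec) ⬝ᵥ (Matrix.J (Fin m) F *ᵥ e)) = _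
      rw [single_one_dotProduct]
      simp only [e, bas, B, single_one_dotProduct, Matrix.mulVec_single_one, Matrix.col_apply]
      conv_rhs => rw [← J_map σ]
      rfl
    simp only [Pi.add_apply, Pi.smul_apply, smul_eq_mul, map_add, map_mul, map_one, hB]
    rw [show σ (e i) = e i from congrFun (hs _) i, show σ ((Pi.single j (1 : F) : Vec) i) = _ from congrFun (hs j) i]

/-- An automorphism of prime order different from the characteristic and not inner-diagonal is a
field automorphism. -/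
theorem exists_field_conj (hm : 2 ≤ m) (h22 : m = 2 → 3 ≤ Fintype.card F) {p : ℕ} [hp : Fact p.Prime]
    (hp2 : (2 : F) = 0 → p ≠ 2) {x : A} (hord : orderOf x = p) (hnot : ¬ Cfsg.IsInnerDiagonalAutPSp x) :
    ∃ (k : ↥(GS)) (τ : RingAut F), τ ≠ 1 ∧ orderOf τ = p ∧ x = conjS k * fieldS τ * (conjS k)⁻¹ := by
  obtain ⟨g, τ, hx⟩ : ∃ (g : ↥(GS)) (τ : RingAut F), x = conjS g * fieldS τ := by
    by_cases h4 : m = 2 ∧ (2 : F) = 0
    · obtain ⟨rfl, h2⟩ := h4
      haveI : CharP F 2 := CharTwo.of_one_ne_zero_of_two_eq_zero one_ne_zero h2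
      obtain ⟨f, -, hf⟩ := FiniteField.card F 2
      haveI := inndiag_normal (F := F) hm h22
      have hI : Cfsg.inndiagPSp 2 F = Cfsg.Inn (Cfsg.PSp 2 F) := by
        refine le_antisymm ?_ inn_le_inndiag
        rw [← Subgroup.relIndex_eq_one, (inndiag_quotient hm h22).1, hf]
        exact ((Nat.Even.sub_odd Nat.one_le_two_pow (Nat.even_pow.2 ⟨even_two, f.pos.ne'⟩) odd_one).coprime_two_left)
      set R := (fieldS (F := F) (m := 2)).range
      have hbot : Cfsg.inndiagPSp 2 F ⊓ R = ⊥ := by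
        refine (Subgroup.eq_bot_iff_forall _).mpr fun a ha => ?_
        obtain ⟨ha1, σ, rfl⟩ := Subgroup.mem_inf.mp ha
        rw [inndiag_eq] at ha1
        rw [fieldS_mem hm h22 ha1, map_one]
      have hidx : (R ⊔ Cfsg.inndiagPSp 2 F).index = 2 := by
        have h := Subgroup.relIndex_mul_index (le_sup_right : Cfsg.inndiagPSp 2 F ≤ R ⊔ Cfsg.inndiagPSp 2 F)
        rw [Subgroup.relIndex_sup_right, ← Subgroup.inf_relIndex_right, hbot, Subgroup.relIndex_bot_left,
          ← Nat.card_congr (MonoidHom.ofInjective (fieldS_inj (F := F) (m := 2) hm h22)).toEquiv,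
          (Chev.ringAut_cyclic_card (F := F) 2 (f := (f : ℕ)) (by rw [Nat.card_eq_fintype_card, hf])).2, hI,
          (Cfsg.Inn (Cfsg.PSp 2 F)).index_eq_card, card_out_two (F := F) f.pos (by rw [Nat.card_eq_fintype_card, hf]),
          mul_comm 2 (f : ℕ)] at h
        rw [hI]
        exact Nat.eq_of_mul_eq_mul_left f.pos h
      have hx : x ∈ R ⊔ Cfsg.inndiagPSp 2 F := by
        obtain ⟨j, hj⟩ := hp.out.odd_of_ne_two (hp2 h2)
        have : x = (x ^ (j + 1)) ^ 2 := by
          rw [← pow_mul, show (j + 1) * 2 = p + 1 by omega, pow_succ, ← hord, pow_orderOf_eq_one, one_mul]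
        rw [this]
        exact Subgroup.sq_mem_of_index_two hidx _
      rw [sup_comm] at hx
      obtain ⟨a, ha, b, ⟨τ, rfl⟩, rfl⟩ := Subgroup.mem_sup_of_normal_left.mp hx
      rw [inndiag_eq] at ha
      obtain ⟨g, rfl⟩ := ha
      exact ⟨g, τ, rfl⟩
    · obtain ⟨g, τ, hg, h⟩ := PolarAut.psp_semilinear hm (fun a b => h4 ⟨a, b⟩) x
      exact ⟨_, τ, semilinear_eq hg h⟩
  have hτ : τ ≠ 1 := by
    rintro rfl
    refine hnot ?_
    rw [hx, map_one, mul_one]
    exact isInnerDiag g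
  have hpow : (conjS g * fieldS τ : A) ^ p = 1 := by rw [← hx, ← hord, pow_orderOf_eq_one]
  have hτp : orderOf τ = p := by
    refine orderOf_eq_prime ?_ hτ
    rw [FieldGen.pow_conj_field conjS fieldS mapS fieldS_conjS] at hpow
    exact (conj_field_one hm h22 _ _ hpow).1
  obtain ⟨k, hk⟩ := conjUnder_of_pow hm h22 τ g (by rw [hτp]; exact hpow)
  exact ⟨k, τ, hτ, hτp, hx.trans hk⟩

end CfsgLib.PSpAut
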