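import Cfsg.Agent.Lib.PolarAut.PSURigidField
import Cfsg.Agent.Lib.PolarAut.OrthOdd
import Cfsg.Agent.Lib.PolarAut.SpCore
import Cfsg.Agent.Lib.PSUGraph.Split

/-!
Involutory graph automorphisms of `PSU_n(q)`, `q` odd, are rigid.
-/

set_option autoImplicit false

namespace CfsgLib.PSURigid

open Matrix CfsgLib.UnitaryTransvection CfsgLib.UnitarySimple CfsgLib.PSUGraph CfsgLib.PolarAut
open CfsgLib.SympTransvection (tv)
open scoped MatrixGroups

variable {F : Type*} [Field F] [Fintype F] {n q : ℕ} (hF : Fintype.card F = q ^ 2)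
variable {F₀ : Type*} [Field F₀] {κ : Type} [Fintype κ] [DecidableEq κ]

/-- A fixed basis for a graph automorphism. -/
structure GFrame (ι : F₀ →+* F) (g : GL (Fin n) F) (A : Matrix κ κ F₀) where
  k : Matrix (Fin n) κ F
  k' : Matrix κ (Fin n) F
  u : Fˣ
  δ : Fˣ
  hk : k * k' = 1
  hk' : k' * k = 1
  hgk : g.1 * k.map (fr hF) = (u : F) • k
  hkk : (k.map (fr hF))ᵀ * k = (δ : F) • A.map ι
  hA : A.det ≠ 0

theorem nonempty_gframe {ι : F₀ →+* F} {g : GL (Fin n) F} {A : Matrix κ κ F₀} (hA : A.det ≠ 0)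
    (h : Std hF ι g A) : Nonempty (GFrame hF ι g A) := by
  obtain ⟨k, k', u, δ, hk, hk', hgk, hkk⟩ := h
  exact ⟨⟨k, k', u, δ, hk, hk', hgk, hkk, hA⟩⟩

/-- The isometries of a bilinear form. -/
def Iso (A : Matrix κ κ F₀) : Subgroup (GL κ F₀) where
  carrier := {P | P.1ᵀ * A * P.1 = A}
  one_mem' := by simp
  mul_mem' := by
    rintro a b (ha : _ = _) (hb : _ = _)
    show (a.1 * b.1)ᵀ * A * (a.1 * b.1) = A
    rw [transpose_mul, show b.1ᵀ * a.1ᵀ * A * (a.1 * b.1) = b.1ᵀ * (a.1ᵀ * A * a.1) * b.1 by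
      simp only [Matrix.mul_assoc], ha, hb]
  inv_mem' := by
    rintro a (ha : _ = _)
    show (a⁻¹).1ᵀ * A * (a⁻¹).1 = A
    conv_lhs => rw [← ha]
    rw [show (a⁻¹).1ᵀ * (a.1ᵀ * A * a.1) * (a⁻¹).1 = ((a⁻¹).1ᵀ * a.1ᵀ) * A * (a.1 * (a⁻¹).1) by
      simp only [Matrix.mul_assoc], ← transpose_mul, Units.mul_inv, transpose_one, Matrix.one_mul, Matrix.mul_one]

/-- The isometries of determinant one. -/
def Iso1 (A : Matrix κ κ F₀) : Subgroup (GL κ F₀) := Iso A ⊓ GeneralLinearGroup.det.ker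

variable {ι : F₀ →+* F} (hι : ∀ y, fr hF y = y ↔ y ∈ ι.range) {g : ↥(GS hF n)} {A : Matrix κ κ F₀}
  (D : GFrame hF ι g.1 A)

/-- An isometry as a matrix on the big space. -/
def lift (D : GFrame hF ι g.1 A) (P : Matrix κ κ F₀) : Matrix (Fin n) (Fin n) F := D.k * P.map ι * D.k'

theorem lift_one : lift hF D (1 : Matrix κ κ F₀) = 1 := by
  rw [lift, Matrix.map_one _ (map_zero ι) (map_one ι), Matrix.mul_one, D.hk]

theorem lift_mul (P R : Matrix κ κ F₀) : lift hF D (P * R) = lift hF D P * lift hF D R := by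
  rw [lift, lift, lift, Matrix.map_mul]
  calc _ = D.k * P.map ι * ((D.k' * D.k) * R.map ι) * D.k' := by
        rw [D.hk', Matrix.one_mul]; simp only [Matrix.mul_assoc]
    _ = _ := by simp only [Matrix.mul_assoc]

/-- An isometry as a similitude. -/
def isoGS (hι : ∀ y, fr hF y = y ↔ y ∈ ι.range) (D : GFrame hF ι g.1 A) : ↥(Iso A) →* ↥(GS hF n) where
  toFun P := ⟨⟨lift hF D P.1.1, lift hF D (P.1⁻¹).1,
      by rw [← lift_mul, Units.mul_inv, lift_one], by rw [← lift_mul, Units.inv_mul, lift_one]⟩,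
    1, by rw [Units.val_one]; exact (gs_mult hF hι D.hk D.hkk (c := 1)
      (show P.1.1ᵀ * A * P.1.1 = (1 : F₀) • A by rw [one_smul]; exact P.2)).trans (by rw [map_one])⟩
  map_one' := Subtype.ext (Units.ext (lift_one hF D))
  map_mul' P R := Subtype.ext (Units.ext (lift_mul hF D P.1.1 R.1.1))

theorem isoGS_val (P : ↥(Iso A)) : (isoGS hF hι D P).1.1 = lift hF D P.1.1 := rfl

/-- The action of the isometries. -/
noncomputable def Psi (hι : ∀ y, fr hF y = y ↔ y ∈ ι.range) (D : GFrame hF ι g.1 A) :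
    ↥(Iso A) →* MulAut (Cfsg.PSU n F q) := (conjP hF).comp (isoGS hF hι D)

theorem Psi_comm (hn : 3 ≤ n) (h32 : ¬ (n = 3 ∧ q = 2)) (P : ↥(Iso A)) :
    Psi hF hι D P * γ hF g = γ hF g * Psi hF hι D P := by
  show conjP hF _ * γ hF g = γ hF g * conjP hF _
  obtain ⟨x, hx⟩ : ∃ x, x = isoGS hF hι D P := ⟨_, rfl⟩
  rw [← hx, ← mul_inv_eq_iff_eq_mul, conj_γ, γ_eq_iff hF hn h32, val_conj]
  refine ⟨1, ?_⟩
  rw [Units.val_one, one_smul]
  have hxv : x.1.1 = D.k * P.1.1.map ι * D.k' := by rw [hx]; rfl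
  have hl : x.1.1 * (g.1.1 * D.k.map (fr hF)) = g.1.1 * (x.1.1 * D.k).map (fr hF) := by
    rw [D.hgk, Matrix.mul_smul, hxv, Matrix.mul_assoc _ D.k' D.k, D.hk', Matrix.mul_one, Matrix.map_mul,
      map_fr_ι hF hι, ← Matrix.mul_assoc, D.hgk, Matrix.smul_mul]
  have hl2 : x.1.1 * g.1.1 = g.1.1 * x.1.1.map (fr hF) := by
    have := congrArg (fun M => M * D.k'.map (fr hF)) hl
    simp only [Matrix.mul_assoc, ← Matrix.map_mul, D.hk, Matrix.map_one _ (map_zero (fr hF)) (map_one (fr hF)),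
      Matrix.mul_one] at this
    exact this
  rw [hl2, Matrix.mul_assoc, ← Matrix.map_mul, Units.mul_inv, Matrix.map_one _ (map_zero _) (map_one _),
    Matrix.mul_one]

theorem Psi_eq_one (hn : 3 ≤ n) (h32 : ¬ (n = 3 ∧ q = 2)) [Nonempty κ] (P : ↥(Iso A))
    (h : Psi hF hι D P = 1) : ∃ a : F₀, P.1.1 = a • 1 := by
  rw [← map_one (conjP hF (n := n))] at h
  obtain ⟨c, hc⟩ := (conjP_eq_iff hF hn h32 (isoGS hF hι D P) 1).mp h
  change D.k * P.1.1.map ι * D.k' = (c : F) • (1 : Matrix (Fin n) (Fin n) F) at hc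
  have e := congrArg (fun M => D.k' * M * D.k) hc
  simp only [← Matrix.mul_assoc, D.hk', Matrix.one_mul, Matrix.mul_smul, Matrix.mul_one, Matrix.smul_mul] at e
  rw [Matrix.mul_assoc, D.hk', Matrix.mul_one] at e
  let i₀ := Classical.arbitrary κ
  refine ⟨P.1.1 i₀ i₀, Matrix.map_injective ι.injective ?_⟩
  show P.1.1.map ι = (P.1.1 i₀ i₀ • (1 : Matrix κ κ F₀)).map ι
  rw [FieldGen.map_smul_hom, Matrix.map_one _ (map_zero ι) (map_one ι), show ι (P.1.1 i₀ i₀) = (c : F) by
    simpa using congrFun (congrFun e i₀) i₀]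
  exact e

/-- An isometry of determinant one as an element of the special unitary group. -/
noncomputable def isoSU (hι : ∀ y, fr hF y = y ↔ y ∈ ι.range) (D : GFrame hF ι g.1 A) :
    ↥(Iso1 A) →* Cfsg.SU n F q where
  toFun P := suOf hF (lift hF D P.1.1)
    ((gs_mult hF hι D.hk D.hkk (c := 1) (show P.1.1ᵀ * A * P.1.1 = (1 : F₀) • A by
      rw [one_smul]; exact (Subgroup.mem_inf.mp P.2).1)).trans (by rw [map_one, one_smul]))
    (by
      rw [lift, det_conj_of_mul_eq_one D.hk D.hk', show P.1.1.map ι = ι.mapMatrix P.1.1 from rfl, ← RingHom.map_det,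
        show P.1.1.det = 1 from congrArg Units.val (MonoidHom.mem_ker.mp (Subgroup.mem_inf.mp P.2).2), map_one])
  map_one' := su_eq (lift_one hF D)
  map_mul' P R := su_eq (lift_mul hF D P.1.1 R.1.1)

/-- The fixed subgroup given by the isometries. -/
noncomputable def psiI (hι : ∀ y, fr hF y = y ↔ y ∈ ι.range) (D : GFrame hF ι g.1 A) :
    ↥(Iso1 A) →* Cfsg.PSU n F q := (QuotientGroup.mk' _).comp (isoSU hF hι D)

theorem Psi_psiI (P : ↥(Iso1 A)) :
    Psi hF hι D ⟨P.1, (Subgroup.mem_inf.mp P.2).1⟩ = MulAut.conj (psiI hF hι D P) := by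
  show conjP hF _ = MulAut.conj (QuotientGroup.mk (isoSU hF hι D P) : Cfsg.PSU n F q)
  rw [← ρ_toGL hF]
  exact congrArg (conjP hF) (Subtype.ext (Units.ext rfl))

theorem psiI_fixed (hn : 3 ≤ n) (h32 : ¬ (n = 3 ∧ q = 2)) (P : ↥(Iso1 A)) :
    γ hF g (psiI hF hι D P) = psiI hF hι D P := by
  refine conj_injective hF hn h32 (mul_right_cancel (b := γ hF g) ?_)
  rw [← CoreGen.mul_conj, ← Psi_psiI, Psi_comm hF hι D hn h32]

/-- The square of a fixed element comes from an isometry. -/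
theorem sq_mem [Nonempty κ] (hn : 3 ≤ n) (h32 : ¬ (n = 3 ∧ q = 2)) {a : Cfsg.PSU n F q} (ha : γ hF g a = a) :
    ∃ R : ↥(Iso A), Psi hF hι D R = MulAut.conj (a * a) := by
  obtain ⟨s, rfl⟩ := QuotientGroup.mk_surjective a
  have hcomm : MulAut.conj (QuotientGroup.mk s : Cfsg.PSU n F q) * γ hF g =
      γ hF g * MulAut.conj (QuotientGroup.mk s : Cfsg.PSU n F q) := by rw [CoreGen.mul_conj, ha]
  rw [← ρ_toGL hF] at hcomm
  obtain ⟨x, hx⟩ : ∃ x : ↥(Cfsg.GU n F q), x = ⟨SpecialLinearGroup.toGL s.1, toGL_mem hF s⟩ := ⟨_, rfl⟩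
  rw [← hx] at hcomm
  change conjP hF ⟨x.1, GU_le_GS hF x.2⟩ * γ hF g = γ hF g * conjP hF ⟨x.1, GU_le_GS hF x.2⟩ at hcomm
  rw [← mul_inv_eq_iff_eq_mul, conj_γ, γ_eq_iff hF hn h32, val_conj] at hcomm
  obtain ⟨v, hv⟩ := hcomm
  change x.1.1 * g.1.1 * (x.1⁻¹).1.map (fr hF) = (v : F) • g.1.1 at hv
  have hxk : g.1.1 * (x.1.1 * D.k).map (fr hF) = ((v⁻¹ * D.u : Fˣ) : F) • (x.1.1 * D.k) := by
    have hv' : g.1.1 = (v⁻¹ : Fˣ).1 • (x.1.1 * g.1.1 * (x.1⁻¹).1.map (fr hF)) := by
      rw [hv, smul_smul, Units.inv_mul, one_smul]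
    conv_lhs => rw [hv', Matrix.map_mul, Matrix.smul_mul, Matrix.mul_assoc (x.1.1 * g.1.1),
      ← Matrix.mul_assoc ((x.1⁻¹).1.map _), ← Matrix.map_mul, Units.inv_mul,
      Matrix.map_one _ (map_zero _) (map_one _), Matrix.one_mul, Matrix.mul_assoc, D.hgk, Matrix.mul_smul, smul_smul]
    rw [Units.val_mul]
  obtain ⟨P, P', t, hP, hP', hxP⟩ := transition hF hι (by omega) D.hk D.hk' D.hgk (K' := D.k' * (x.1⁻¹).1)
    (by rw [Matrix.mul_assoc, ← Matrix.mul_assoc D.k, D.hk, Matrix.one_mul, Units.mul_inv])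
    (by rw [Matrix.mul_assoc, ← Matrix.mul_assoc (x.1⁻¹).1, Units.inv_mul, Matrix.one_mul, D.hk']) hxk
  have hxc : (x.1.1.map (fr hF))ᵀ * x.1.1 = 1 := (mem_GU hF x.1).mp x.2
  have hxkk : (((t : F) • (D.k * P.map ι)).map (fr hF))ᵀ * ((t : F) • (D.k * P.map ι)) = (D.δ : F) • A.map ι := by
    rw [← hxP, Matrix.map_mul, transpose_mul, Matrix.mul_assoc, ← Matrix.mul_assoc (x.1.1.map _)ᵀ, hxc,
      Matrix.one_mul, D.hkk]
  obtain ⟨r, hr⟩ := forms_eq hF hι (by omega) D.hA D.hkk hxkk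
  have hxl : x.1.1 = (t : F) • lift hF D P := by
    rw [lift, ← Matrix.smul_mul, ← hxP, Matrix.mul_assoc, D.hk, Matrix.mul_one]
  have hR1 : ((r : F₀) • (P * P)) * (((r⁻¹ : F₀ˣ) : F₀) • (P' * P')) = 1 := by
    rw [Matrix.smul_mul, Matrix.mul_smul, smul_smul, Units.mul_inv, one_smul, Matrix.mul_assoc,
      ← Matrix.mul_assoc P P', hP, Matrix.one_mul, hP]
  let R : GL κ F₀ := ⟨(r : F₀) • (P * P), ((r⁻¹ : F₀ˣ) : F₀) • (P' * P'), hR1, mul_eq_one_comm.mp hR1⟩
  have hRm : R ∈ Iso A := by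
    show ((r : F₀) • (P * P))ᵀ * A * ((r : F₀) • (P * P)) = A
    calc _ = (r : F₀) • (Pᵀ * ((r : F₀) • (Pᵀ * A * P)) * P) := by
          simp only [transpose_smul, transpose_mul, Matrix.smul_mul, Matrix.mul_smul, Matrix.mul_assoc, smul_smul]
      _ = _ := by rw [hr, hr]
  refine ⟨⟨R, hRm⟩, ?_⟩
  rw [map_mul, ← ρ_toGL hF, ← hx, ← map_mul]
  refine (conjP_eq_iff hF hn h32 _ ⟨(x * x).1, GU_le_GS hF (x * x).2⟩).mpr
    ⟨Units.map (ι : F₀ →* F) r * (t * t)⁻¹, ?_⟩
  show lift hF D ((r : F₀) • (P * P)) = ((Units.map (ι : F₀ →* F) r * (t * t)⁻¹ : Fˣ) : F) • (x.1.1 * x.1.1)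
  rw [hxl, Matrix.smul_mul, Matrix.mul_smul, smul_smul, smul_smul, ← lift_mul, lift, lift, FieldGen.map_smul_hom,
    Matrix.mul_smul, Matrix.smul_mul]
  congr 1
  simp only [Units.val_mul, Units.coe_map, Units.val_inv_eq_inv_val, MonoidHom.coe_coe]
  field_simp

/-- A vector of the small space in the big one. -/
def kv (D : GFrame hF ι g.1 A) (a : κ → F₀) : Fin n → F := D.k *ᵥ fun l => ι (a l)

theorem kv_add (a b : κ → F₀) : kv hF D (a + b) = kv hF D a + kv hF D b := by
  rw [kv, kv, kv, ← mulVec_add]; congr 1; funext l; simp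

theorem kv_smul (c : F₀) (a : κ → F₀) : kv hF D (c • a) = ι c • kv hF D a := by
  rw [kv, kv, ← mulVec_smul]; congr 1; funext l; simp

theorem kv_back (a : κ → F₀) : D.k' *ᵥ kv hF D a = fun l => ι (a l) := by
  rw [kv, mulVec_mulVec, D.hk', one_mulVec]

theorem kv_lift (P : Matrix κ κ F₀) (a : κ → F₀) : lift hF D P *ᵥ kv hF D a = kv hF D (P *ᵥ a) := by
  rw [lift, ← mulVec_mulVec, kv_back, ← mulVec_mulVec, kv]
  congr 1
  exact funext fun i => (RingHom.map_mulVec ι P a i).symm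

include hι in
/-- A semilinear map which is scalar on the fixed basis gives the trivial automorphism. -/
theorem final (hn : 3 ≤ n) (h32 : ¬ (n = 3 ∧ q = 2)) {g' : ↥(GS hF n)} {τ : RingAut F}
    (hodd : (orderOf (conjP hF g' * fieldP hF τ : MulAut (Cfsg.PSU n F q))).Coprime 2)
    (hτ : ∀ b, τ (ι b) = ι b) (μ : F)
    (hμ : ∀ i, sT g'.1.1 τ (kv hF D (Pi.single i 1)) = μ • kv hF D (Pi.single i 1)) :
    conjP hF g' * fieldP hF τ = (1 : MulAut (Cfsg.PSU n F q)) := by
  obtain ⟨π, -, -, hπ⟩ := exists_fieldPart hF hn h32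
  have hτ1 : τ = 1 := by
    refine RigidGen.galois_one (fr hF) τ (orderOf_fr hF) (fun z hz => ?_) (Nat.Coprime.coprime_dvd_left ?_ hodd)
    · obtain ⟨b, rfl⟩ := (hι z).mp hz
      exact hτ b
    · have := orderOf_map_dvd π (conjP hF g' * fieldP hF τ)
      rwa [hπ] at this
  subst hτ1
  have hgk : g'.1.1 * D.k = μ • D.k := Matrix.ext_of_mulVec_single fun i => by
    have e : kv hF D (Pi.single i 1) = D.k *ᵥ Pi.single i 1 := by
      rw [kv]; congr 1; funext l; by_cases hl : l = i <;> simp [Pi.single_apply, hl]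
    rw [← mulVec_mulVec, smul_mulVec, ← e, ← hμ i]
    rfl
  have hg : g'.1.1 = μ • 1 := by
    have := congrArg (fun M => M * D.k') hgk
    simp only [Matrix.mul_assoc, Matrix.smul_mul, D.hk, Matrix.mul_one] at this
    exact this
  have hμ0 : μ ≠ 0 := by
    rintro rfl
    haveI : Nonempty (Fin n) := ⟨⟨0, by omega⟩⟩
    exact g'.1.ne_zero (by rw [hg, zero_smul])
  rw [map_one, mul_one, show g' = ⟨scal (Units.mk0 μ hμ0), scal_mem hF _⟩ from
    Subtype.ext (Units.ext (by rw [scal_val]; exact hg)), conjP_scal]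

section skew

variable {m : ℕ} {g : ↥(GS hF n)} (E₀ : GFrame hF ι g.1 (Matrix.J (Fin m) F₀))

/-- A symplectic matrix as an isometry. -/
def spI : Matrix.symplecticGroup (Fin m) F₀ →* ↥(Iso1 (Matrix.J (Fin m) F₀)) where
  toFun S := ⟨⟨S.1, (S⁻¹).1,
      show (S * S⁻¹).1 = (1 : Matrix.symplecticGroup (Fin m) F₀).1 by rw [mul_inv_cancel],
      show (S⁻¹ * S).1 = (1 : Matrix.symplecticGroup (Fin m) F₀).1 by rw [inv_mul_cancel]⟩,
    Subgroup.mem_inf.mpr ⟨SymplecticGroup.mem_iff'.mp S.2,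
      MonoidHom.mem_ker.mpr (Units.ext (SymplecticGroup.det_eq_one S.2))⟩⟩
  map_one' := Subtype.ext (Units.ext rfl)
  map_mul' S T := Subtype.ext (Units.ext rfl)

theorem center_psiI (hn : 3 ≤ n) (h32 : ¬ (n = 3 ∧ q = 2)) (hm : 1 ≤ m) (S : Matrix.symplecticGroup (Fin m) F₀) :
    psiI hF hι E₀ (spI S) = 1 ↔ S ∈ Subgroup.center _ := by
  haveI : Nonempty (Fin m ⊕ Fin m) := ⟨Sum.inl ⟨0, hm⟩⟩
  constructor
  · intro h
    obtain ⟨a, ha⟩ := Psi_eq_one hF hι E₀ hn h32 ⟨(spI S).1, (Subgroup.mem_inf.mp (spI S).2).1⟩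
      (by rw [Psi_psiI, h, map_one])
    rw [Subgroup.mem_center_iff]
    intro k
    refine Subtype.ext ?_
    show k.1 * S.1 = S.1 * k.1
    rw [show S.1 = a • 1 from ha, Matrix.smul_mul, Matrix.mul_smul, Matrix.one_mul, Matrix.mul_one]
  · intro h
    obtain ⟨r, hr⟩ := SympTransvection.scalar_of_central S h
    show (QuotientGroup.mk (isoSU hF hι E₀ (spI S)) : Cfsg.PSU n F q) = 1
    rw [QuotientGroup.eq_one_iff]
    refine central_of_scalar _ (c := ι r) fun x => ?_
    show lift hF E₀ S.1 *ᵥ x = _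
    rw [show S.1 = r • 1 by rw [hr, Matrix.scalar_apply, Matrix.smul_one_eq_diagonal], lift, FieldGen.map_smul_hom,
      Matrix.map_one _ (map_zero ι) (map_one ι), Matrix.mul_smul, Matrix.mul_one, Matrix.smul_mul, E₀.hk,
      Matrix.smul_mulVec, Matrix.one_mulVec]

/-- The symplectic group inside. -/
noncomputable def psiSp (hn : 3 ≤ n) (h32 : ¬ (n = 3 ∧ q = 2)) (hm : 1 ≤ m) :
    Cfsg.PSp m F₀ →* Cfsg.PSU n F q :=
  QuotientGroup.lift _ ((psiI hF hι E₀).comp spI) fun S hS =>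
    MonoidHom.mem_ker.mpr ((center_psiI hF hι E₀ hn h32 hm S).mpr hS)

theorem psiSp_mk (hn : 3 ≤ n) (h32 : ¬ (n = 3 ∧ q = 2)) (hm : 1 ≤ m) (S : Matrix.symplecticGroup (Fin m) F₀) :
    psiSp hF hι E₀ hn h32 hm (QuotientGroup.mk S) = psiI hF hι E₀ (spI S) := rfl

theorem psiSp_fixed (hn : 3 ≤ n) (h32 : ¬ (n = 3 ∧ q = 2)) (hm : 1 ≤ m) (a : Cfsg.PSp m F₀) :
    γ hF g (psiSp hF hι E₀ hn h32 hm a) = psiSp hF hι E₀ hn h32 hm a := by
  obtain ⟨S, rfl⟩ := QuotientGroup.mk_surjective a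
  exact psiI_fixed hF hι E₀ hn h32 _

theorem psiSp_inj (hn : 3 ≤ n) (h32 : ¬ (n = 3 ∧ q = 2)) (hm : 1 ≤ m) :
    Function.Injective (psiSp hF hι E₀ hn h32 hm) := by
  refine (injective_iff_map_eq_one _).mpr fun a ha => ?_
  obtain ⟨S, rfl⟩ := QuotientGroup.mk_surjective a
  rw [psiSp_mk, center_psiI hF hι E₀ hn h32 hm] at ha
  exact (QuotientGroup.eq_one_iff S).mpr ha

include hι in
theorem skew_fix (hn : 3 ≤ n) (h32 : ¬ (n = 3 ∧ q = 2)) (hm : 1 ≤ m) (y : MulAut (Cfsg.PSU n F q))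
    (hc : (orderOf y).Coprime 2) (hy : ∀ S, y (psiI hF hι E₀ (spI S)) = psiI hF hι E₀ (spI S)) : y = 1 := by
  obtain ⟨g', τ, rfl⟩ := psu_decomp hF hn h32 y
  have Tadd : ∀ a b, sT g'.1.1 τ (a + b) = sT g'.1.1 τ a + sT g'.1.1 τ b := sT_add _ τ
  have Tsmul : ∀ (a : F) v, sT g'.1.1 τ (a • v) = τ a • sT g'.1.1 τ v := sT_smul _ τ
  let e : Fin m ⊕ Fin m → Fin m ⊕ Fin m → F₀ := fun i => Pi.single i 1
  have eig : ∀ a, a ≠ 0 → ∃ μ : F, sT g'.1.1 τ (kv hF E₀ a) = μ • kv hF E₀ a := by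
    intro a ha
    obtain ⟨c, hc'⟩ := fix_semi hF hn (hy (tv a 1))
    let ia : Fin m ⊕ Fin m → F := fun l => ι (a l)
    have hmap : (tv a (1 : F₀)).1.map ι = (tv ia (1 : F)).1 := by
      have hJ : ∀ l, ι ((Matrix.J (Fin m) F₀ *ᵥ a) l) = (Matrix.J (Fin m) F *ᵥ ia) l := fun l => by
        rw [RingHom.map_mulVec]
        congr 2
        ext i j
        rcases i with i | i <;> rcases j with j | j <;> simp [Matrix.J, Matrix.one_apply, apply_ite ι]
      refine Matrix.ext fun i j => ?_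
      show ι ((Cfsg.sympTransvection m a 1) i j) = (Cfsg.sympTransvection m ia 1) i j
      simp only [Cfsg.sympTransvection, Matrix.add_apply, one_smul, vecMulVec_apply, map_add, map_mul, hJ]
      rcases eq_or_ne i j with rfl | hij <;> simp [*, ia]
    have hia : ia ≠ 0 := fun h0 => ha (funext fun l => ι.injective (by
      rw [show ι (a l) = 0 from congrFun h0 l]; exact (map_zero ι).symm))
    let φ : (Fin n → F) →ₗ[F] F :=
      { toFun := fun x => SympGen.B (E₀.k' *ᵥ x) ia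
        map_add' := fun a b => by rw [mulVec_add, SympGen.B_add_left]
        map_smul' := fun a b => by rw [mulVec_smul, SympGen.B_smul_left, RingHom.id_apply, smul_eq_mul] }
    have hM : ∀ x, lift hF E₀ (tv a 1).1 *ᵥ x = x + φ x • kv hF E₀ a := fun x => by
      rw [lift, hmap, ← mulVec_mulVec, ← mulVec_mulVec, SympGen.tv_apply, one_mul, mulVec_add, mulVec_smul,
        mulVec_mulVec, E₀.hk, one_mulVec]
      rfl
    refine RigidGen.eigen (by rw [Module.finrank_fin_fun]; exact hn) Tadd Tsmul (sT_inj g'.1 τ) (kv hF E₀ a) φ ?_ c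
      fun x => ?_
    · obtain ⟨z, hz⟩ := SympTransvection.exists_dot_ne hia
      exact ⟨E₀.k *ᵥ z, by show SympGen.B (E₀.k' *ᵥ (E₀.k *ᵥ z)) ia ≠ 0; rw [mulVec_mulVec, E₀.hk', one_mulVec]; exact hz⟩
    · have := hc' x
      change sT g'.1.1 τ (lift hF E₀ (tv a 1).1 *ᵥ x) = c • (lift hF E₀ (tv a 1).1 *ᵥ _) at this
      rwa [hM, hM] at this
  have hne : ∀ i, e i ≠ 0 := fun i h => one_ne_zero (α := F₀) (by simpa [e] using congrFun h i)
  choose lam hlam using fun i => eig (e i) (hne i)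
  have key : ∀ i j, i ≠ j → ∀ b, τ (ι b) * lam j = lam i * ι b := by
    intro i j hij b
    obtain ⟨ν, hν⟩ := eig (e i + b • e j) fun h => one_ne_zero (α := F₀) (by
      simpa [e, hij, hij.symm] using congrFun h i)
    rw [kv_add, kv_smul, Tadd, Tsmul, hlam, hlam] at hν
    have e' := congrArg (fun z => E₀.k' *ᵥ z) hν
    simp only [mulVec_add, mulVec_smul, kv_back] at e'
    have h1 := congrFun e' i
    have h2 := congrFun e' j
    simp [e, hij, hij.symm] at h1 h2
    rw [h1]; exact h2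
  let i₁ : Fin m ⊕ Fin m := Sum.inl ⟨0, hm⟩
  let i₂ : Fin m ⊕ Fin m := Sum.inr ⟨0, hm⟩
  have hall : ∀ i, lam i = lam i₁ := fun i => by
    rcases eq_or_ne i i₁ with rfl | hi
    · rfl
    · simpa using key i₁ i (Ne.symm hi) 1
  have hl0 : lam i₁ ≠ 0 := fun h0 => one_ne_zero (α := F) (by
    have := hlam i₁
    rw [h0, zero_smul] at this
    have h1 : kv hF E₀ (e i₁) = 0 := sT_inj g'.1 τ (this.trans (by simpa using (Tsmul 0 0).symm))
    have h2 := congrArg (fun z => E₀.k' *ᵥ z) h1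
    simp only [kv_back, mulVec_zero] at h2
    simpa [e] using congrFun h2 i₁)
  refine final hF hι E₀ hn h32 hc (fun b => mul_right_cancel₀ hl0 ?_) (lam i₁) fun i => by rw [← hall i]; exact hlam i
  have := key i₁ i₂ (by simp [i₁, i₂]) b
  rw [hall] at this
  rw [this, mul_comm]

include hι E₀ in
theorem rigid_skew [Fintype F₀] (hn : 3 ≤ n) (h32 : ¬ (n = 3 ∧ q = 2)) (hm : 2 ≤ m) (h2 : (2 : F₀) ≠ 0) :
    CoreGen.Rigid 2 (γ hF g) ∧
      2 ∣ Nat.card ↥(MonoidHom.eqLocus (γ hF g).toMonoidHom (MonoidHom.id (Cfsg.PSU n F q))) := by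
  have hinj := conj_injective hF hn h32
  have hm1 : 1 ≤ m := by omega
  have h22 : m = 2 → 3 ≤ Fintype.card F₀ := fun _ => by
    have := Fintype.one_lt_card (α := F₀)
    by_contra h3
    exact h2 (by
      have h := FiniteField.cast_card_eq_zero F₀
      rwa [show Fintype.card F₀ = 2 by omega] at h)
  have h2P := PSpAut.two_dvd_card hm h22 h2
  have hLfix : ∀ l ∈ Set.range (fun S => psiI hF hι E₀ (spI S)), γ hF g l = l := by
    rintro _ ⟨S, rfl⟩; exact psiI_fixed hF hι E₀ hn h32 _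
  constructor
  · refine RigidGen.rigid_of hinj _ hLfix ?_ fun y _ hc hy => skew_fix hF hι E₀ hn h32 hm1 y hc fun S => hy _ ⟨S, rfl⟩
    intro _ M hMx hMc hMn
    haveI : (M.comap (psiSp hF hι E₀ hn h32 hm1)).Normal := ⟨fun x hx a => by
      rw [Subgroup.mem_comap, map_mul, map_mul, map_inv]
      exact hMn _ (psiSp_fixed hF hι E₀ hn h32 hm1 a) _ hx⟩
    have hbot : M.comap (psiSp hF hι E₀ hn h32 hm1) = ⊥ := by
      haveI := SympSimple.simple (F := F₀) hm h22
      refine (IsSimpleGroup.eq_bot_or_eq_top_of_normal _ inferInstance).resolve_right fun htop => ?_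
      have hd := Subgroup.card_comap_dvd_of_injective M _ (psiSp_inj hF hι E₀ hn h32 hm1)
      rw [htop, Subgroup.card_top] at hd
      exact Nat.prime_two.not_dvd_one (hMc ▸ Nat.dvd_gcd (h2P.trans hd) dvd_rfl)
    refine (Subgroup.eq_bot_iff_forall _).mpr fun x hx => ?_
    haveI : Nonempty (Fin m ⊕ Fin m) := ⟨Sum.inl ⟨0, hm1⟩⟩
    obtain ⟨R, hR⟩ := sq_mem hF hι E₀ hn h32 (hMx x hx)
    let S : Matrix.symplecticGroup (Fin m) F₀ := ⟨R.1.1, SymplecticGroup.mem_iff'.mpr R.2⟩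
    have hS : psiI hF hι E₀ (spI S) = x * x := hinj (by
      rw [← Psi_psiI, ← hR]; exact congrArg _ (Subtype.ext (Units.ext rfl)))
    have h1 : (QuotientGroup.mk S : Cfsg.PSp m F₀) ∈ M.comap (psiSp hF hι E₀ hn h32 hm1) := by
      rw [Subgroup.mem_comap, psiSp_mk, hS]; exact M.mul_mem hx hx
    rw [hbot, Subgroup.mem_bot, QuotientGroup.eq_one_iff, ← center_psiI hF hι E₀ hn h32 hm1, hS, ← pow_two] at h1
    have hd : orderOf x ∣ Nat.card M := by
      rw [← Subgroup.orderOf_mk x hx]; exact orderOf_dvd_natCard _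
    exact orderOf_eq_one_iff.mp (Nat.eq_one_of_dvd_coprimes hMc hd (orderOf_dvd_of_pow_eq_one h1))
  · refine h2P.trans (Subgroup.card_dvd_of_injective ((psiSp hF hι E₀ hn h32 hm1).codRestrict _ fun a =>
      psiSp_fixed hF hι E₀ hn h32 hm1 a) fun a b hab => psiSp_inj hF hι E₀ hn h32 hm1 (congrArg Subtype.val hab))

end skew

section symm

variable [Fintype F₀]

/-- The bilinear form of a matrix. -/
noncomputable abbrev bilA (A : Matrix κ κ F₀) : (κ → F₀) →ₗ[F₀] (κ → F₀) →ₗ[F₀] F₀ :=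
  Matrix.toLinearMap₂' F₀ A

/-- Matrices as linear automorphisms. -/
noncomputable def toE : GL κ F₀ ≃* ((κ → F₀) ≃ₗ[F₀] (κ → F₀)) :=
  Matrix.GeneralLinearGroup.toLin.trans (LinearMap.GeneralLinearGroup.generalLinearEquiv F₀ (κ → F₀))

omit [Fintype F₀] in
theorem toE_apply (P : GL κ F₀) (x : (κ → F₀)) : toE P x = P.1 *ᵥ x := rfl

omit [Fintype F₀] in
theorem bil_mul (R A : Matrix κ κ F₀) (x y : (κ → F₀)) :
    bilA A (R *ᵥ x) (R *ᵥ y) = bilA (Rᵀ * A * R) x y := by
  rw [Matrix.toLinearMap₂'_apply', Matrix.toLinearMap₂'_apply', ← mulVec_mulVec, ← mulVec_mulVec,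
    dotProduct_mulVec x Rᵀ, vecMul_transpose]

omit [Fintype F₀] in
theorem mem_Iso_iff (A : Matrix κ κ F₀) (P : GL κ F₀) :
    P ∈ Iso A ↔ ∀ x y, bilA A (toE P x) (toE P y) = bilA A x y := by
  constructor
  · intro h x y
    rw [toE_apply, toE_apply, bil_mul, show P.1ᵀ * A * P.1 = A from h]
  · intro h
    have hinj : Function.Injective (bilA : Matrix κ κ F₀ → (κ → F₀) →ₗ[F₀] (κ → F₀) →ₗ[F₀] F₀) :=
      LinearEquiv.injective _
    refine hinj (LinearMap.ext fun x => LinearMap.ext fun y => ?_)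
    rw [← bil_mul, ← toE_apply, ← toE_apply, h]

omit [Fintype F₀] in
theorem det_rf (A : Matrix κ κ F₀) {a : (κ → F₀)}
    (ha : bilA A a a ≠ 0) :
    (toE.symm (OrthOdd.rf (bilA A) a)).1.det = -1 := by
  obtain ⟨w, hw⟩ : ∃ w : (κ → F₀), w = (-(2 / bilA A a a)) • (A *ᵥ a) := ⟨_, rfl⟩
  have e : (toE.symm (OrthOdd.rf (bilA A) a)).1 =
      1 + replicateCol Unit a * replicateRow Unit w := by
    refine Matrix.ext_of_mulVec_single fun i => ?_
    rw [← toE_apply, MulEquiv.apply_symm_apply, OrthOdd.rf_apply, ← vecMulVec_eq, add_mulVec, one_mulVec,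
      vecMulVec_mulVec, op_smul_eq_smul, hw, smul_dotProduct, Matrix.toLinearMap₂'_apply',
      Matrix.toLinearMap₂'_apply', dotProduct_comm (A *ᵥ a), smul_eq_mul, neg_mul, neg_smul, sub_eq_add_neg]
  rw [e, det_one_add_replicateCol_mul_replicateRow, hw, smul_dotProduct, dotProduct_comm,
    ← Matrix.toLinearMap₂'_apply', smul_eq_mul, neg_mul, div_mul_cancel₀ _ ha]
  ring

omit [Fintype F₀] in
theorem rf_mem (A : Matrix κ κ F₀) (hs : ∀ x y, bilA A x y = bilA A y x)
    {a b : (κ → F₀)} (ha : bilA A a a ≠ 0) (hb : bilA A b b ≠ 0) :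
    toE.symm (OrthOdd.rf (bilA A) a * OrthOdd.rf (bilA A) b) ∈ Iso1 A := by
  refine Subgroup.mem_inf.mpr ⟨(mem_Iso_iff A _).mpr fun x y => ?_, MonoidHom.mem_ker.mpr (Units.ext ?_)⟩
  · rw [MulEquiv.apply_symm_apply, LinearEquiv.mul_apply, LinearEquiv.mul_apply, OrthOdd.rf_isom _ hs,
      OrthOdd.rf_isom _ hs]
  · rw [GeneralLinearGroup.val_det_apply, map_mul, Units.val_mul, det_mul, det_rf A ha, det_rf A hb]
    norm_num

include hι in
theorem symm_fix (hn : 3 ≤ n) (h32 : ¬ (n = 3 ∧ q = 2))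
    (hs : ∀ x y, bilA A x y = bilA A y x)
    (hnd : ∀ x, (∀ y, bilA A x y = 0) → x = 0) (h2 : (2 : F₀) ≠ 0)
    (y : MulAut (Cfsg.PSU n F q)) (hc : (orderOf y).Coprime 2)
    (hy : ∀ R, y (psiI hF hι D R) = psiI hF hι D R) : y = 1 := by
  classical
  obtain ⟨g', τ, rfl⟩ := psu_decomp hF hn h32 y
  obtain ⟨T, hT⟩ : ∃ T, T = sT g'.1.1 τ := ⟨_, rfl⟩
  have Tadd : ∀ a b, T (a + b) = T a + T b := hT ▸ sT_add _ τ
  have Tsmul : ∀ (a : F) v, T (a • v) = τ a • T v := hT ▸ sT_smul _ τ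
  have h2F : (2 : F) ≠ 0 := fun h => h2 (ι.injective (by rw [map_ofNat, h, map_zero]))
  have hκ : Fintype.card κ = n := card_κ D.hk D.hk'
  have hfin : 3 ≤ Module.finrank F₀ (κ → F₀) := by rw [Module.finrank_fintype_fun_eq_card, hκ]; exact hn
  set B := bilA A with hB
  obtain ⟨j, hj⟩ : Odd (orderOf (conjP hF g' * fieldP hF τ : MulAut (Cfsg.PSU n F q))) :=
    Nat.coprime_two_right.mp hc
  have hiter : ∀ i x, T^[i] x = ((fun y => g' * mapGS hF τ y)^[i] 1).1.1 *ᵥ fun l => (τ ^ i) (x l) := by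
    intro i
    induction i with
    | zero => intro x; simp
    | succ i ih =>
      intro x
      rw [Function.iterate_succ_apply', Function.iterate_succ_apply', ih, hT, sT]
      show g'.1.1 *ᵥ _ = (g'.1.1 * ((fun y => g' * mapGS hF τ y)^[i] 1).1.1.map τ) *ᵥ _
      rw [← mulVec_mulVec]
      congr 1
      funext l
      refine (RingHom.map_mulVec (τ : F ≃+* F).toRingHom _ _ l).trans ?_
      congr 1
      funext r
      show τ ((τ ^ i) (x r)) = (τ ^ (i + 1)) (x r)
      rw [pow_succ', RingAut.mul_apply]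
  obtain ⟨lam, hlam⟩ : ∃ lam : F, ∀ x, T^[2 * j + 1] x = lam • x := by
    have h := pow_orderOf_eq_one (conjP hF g' * fieldP hF τ : MulAut (Cfsg.PSU n F q))
    rw [hj, FieldGen.pow_conj_field (conjP hF) (fieldP hF) (mapGS hF) (fieldP_conjP hF)] at h
    obtain ⟨h1, μ, hμ⟩ := conj_field_one hF hn h32 _ _ h
    refine ⟨μ, fun x => ?_⟩
    rw [hiter, h1, hμ, scal_val, smul_mulVec, one_mulVec]
    rfl
  -- products of two orthogonal reflections commute with the semilinear map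
  have comm : ∀ a b, B a a ≠ 0 → B b b ≠ 0 → B a b = 0 → ∀ R : ↥(Iso1 A),
      R.1 = toE.symm (OrthOdd.rf B a * OrthOdd.rf B b) →
        ∀ x, T (lift hF D R.1.1 *ᵥ x) = lift hF D R.1.1 *ᵥ T x := by
    intro a b ha hb hab R hR
    obtain ⟨c, hc'⟩ := fix_semi hF hn (hy R)
    rw [← hT] at hc'
    have hc'' : ∀ x, T (lift hF D R.1.1 *ᵥ x) = c • (lift hF D R.1.1 *ᵥ T x) := hc'
    obtain ⟨S, hS⟩ : ∃ S, S = lift hF D R.1.1 := ⟨_, rfl⟩
    rw [← hS] at hc'' ⊢
    have hinv : ∀ x, S *ᵥ (S *ᵥ x) = x := by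
      intro x
      have hR2 : R.1.1 * R.1.1 = 1 := by
        have e : (OrthOdd.rf B a * OrthOdd.rf B b) * (OrthOdd.rf B a * OrthOdd.rf B b) = 1 := by
          have hcm : OrthOdd.rf B b * OrthOdd.rf B a * OrthOdd.rf B b = OrthOdd.rf B a := by
            have := OrthOdd.conj_rf B (OrthOdd.rf_isom B hs b) a
            rwa [OrthOdd.rf_inv, OrthOdd.rf_fix B hab] at this
          rw [mul_assoc, ← mul_assoc (OrthOdd.rf B b), hcm, OrthOdd.rf_sq]
        show (R.1 * R.1).1 = (1 : GL κ F₀).1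
        rw [hR, ← map_mul, e, map_one]
      rw [hS, mulVec_mulVec, ← lift_mul, hR2, lift_one, one_mulVec]
    have hcc : c * c = 1 := by
      haveI : Nonempty (Fin n) := ⟨⟨0, by omega⟩⟩
      obtain ⟨x, hx⟩ := exists_ne (0 : Fin n → F)
      have hTx : T x ≠ 0 := fun h0 => hx (sT_inj g'.1 τ (hT ▸ (h0.trans (by simpa using (Tsmul 0 0).symm))))
      have e2 := hc'' (S *ᵥ x)
      rw [hinv, hc'' x, mulVec_smul, smul_smul, hinv] at e2
      exact smul_left_injective F hTx (e2.symm.trans (one_smul F _).symm)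
    have hτc : τ c = c := by
      rcases mul_self_eq_one_iff.mp hcc with h | h <;> simp [h]
    have hit : ∀ i x, T^[i] (S *ᵥ x) = c ^ i • (S *ᵥ T^[i] x) := by
      intro i
      induction i with
      | zero => simp
      | succ i ih =>
        intro x
        rw [Function.iterate_succ_apply', ih, Tsmul, map_pow, hτc, hc'', smul_smul, ← pow_succ,
          Function.iterate_succ_apply']
    have hc1 : c = 1 := by
      haveI : Nonempty (Fin n) := ⟨⟨0, by omega⟩⟩
      obtain ⟨x, hx⟩ := exists_ne (0 : Fin n → F)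
      have hl0 : lam ≠ 0 := fun h0 => hx (Function.Injective.iterate (hT ▸ sT_inj g'.1 τ) (2 * j + 1)
        (a₁ := x) (a₂ := 0) (by rw [hlam, hlam, h0, zero_smul, zero_smul]))
      have e2 := hit (2 * j + 1) (S *ᵥ x)
      rw [hinv, hlam, hlam, mulVec_smul, hinv, smul_smul, pow_succ, pow_mul, pow_two, hcc, one_pow, one_mul] at e2
      have e3 := smul_left_injective F hx e2
      exact mul_right_cancel₀ hl0 (e3.symm.trans (one_mul lam).symm)
    intro x
    rw [hc'' x, hc1, one_smul]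
  have hpair : ∀ u v : (κ → F₀), (fun l => ι (u l)) ⬝ᵥ (A.map ι *ᵥ fun l => ι (v l)) = ι (B u v) := fun u v => by
    rw [hB, Matrix.toLinearMap₂'_apply', RingHom.map_dotProduct]
    congr 1
    exact funext fun l => (RingHom.map_mulVec ι A v l).symm
  -- anisotropic vectors are eigenvectors
  have eig : ∀ a, B a a ≠ 0 → ∃ μ : F, T (kv hF D a) = μ • kv hF D a := by
    intro a ha
    obtain ⟨b, hb, hba⟩ : ∃ b, B b b ≠ 0 ∧ B b a = 0 := by
      rcases OrthOdd.ani_or_span B hs hnd h2 ![a] with ⟨z, hz, hzv⟩ | h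
      · exact ⟨z, hz, hzv 0⟩
      exfalso
      obtain ⟨z, hz0, hz⟩ := OrthOdd.exists_kernel B ![a] (by omega)
      have hz' := h z hz
      rw [Matrix.range_cons, Matrix.range_empty, Set.union_empty, Submodule.mem_span_singleton] at hz'
      obtain ⟨r, rfl⟩ := hz'
      have : r * B a a = 0 := by simpa using hz 0
      exact hz0 (by rw [(mul_eq_zero.mp this).resolve_right ha, zero_smul])
    obtain ⟨d, hd, hda, hdb⟩ := OrthOdd.exists_ani₂ B hs hnd h2 (b := b) ha
      (Or.inl ⟨by rw [hs a b, hba, mul_zero, sub_zero]; exact mul_ne_zero ha hb, hfin⟩)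
    have step : ∀ b, B b b ≠ 0 → B a b = 0 → ∃ α β : F,
        D.k' *ᵥ T (kv hF D a) = α • (fun l => ι (a l)) + β • (fun l => ι (b l)) := by
      intro b hb hab
      obtain ⟨R, hR⟩ : ∃ R : ↥(Iso1 A), R.1 = toE.symm (OrthOdd.rf B a * OrthOdd.rf B b) :=
        ⟨⟨_, rf_mem A hs ha hb⟩, rfl⟩
      have hRa : ∀ x, R.1.1 *ᵥ x = OrthOdd.rf B a (OrthOdd.rf B b x) := fun x => by
        rw [← toE_apply, hR, MulEquiv.apply_symm_apply]; rfl
      have e := comm a b ha hb hab R hR (kv hF D a)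
      have hneg : kv hF D (-a) = -kv hF D a := by
        rw [← neg_one_smul F₀ a, kv_smul, map_neg, map_one, neg_one_smul]
      rw [kv_lift, hRa, OrthOdd.rf_fix B hab, OrthOdd.rf_self B ha, hneg] at e
      obtain ⟨z, hz⟩ : ∃ z, z = D.k' *ᵥ T (kv hF D a) := ⟨_, rfl⟩
      have hTneg : T (-kv hF D a) = -T (kv hF D a) := by
        rw [← neg_one_smul F (kv hF D a), Tsmul, map_neg, map_one, neg_one_smul]
      have hz' : R.1.1.map ι *ᵥ z = -z := by
        have := congrArg (fun w => D.k' *ᵥ w) e.symm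
        simp only [hTneg, lift, mulVec_neg, mulVec_mulVec, ← Matrix.mul_assoc, D.hk', Matrix.one_mul] at this
        rw [hz, mulVec_mulVec]; exact this
      have hcol : ∀ l, (fun r => (Pi.single l (1 : F) : κ → F) r - (R.1.1.map ι) r l) =
          ι (2 / B b b * B (Pi.single l 1) b) • (fun r => ι (b r)) +
            ι (2 / B a a * B (Pi.single l 1) a) • (fun r => ι (a r)) := by
        intro l
        have h0 : R.1.1 *ᵥ Pi.single l 1 = (Pi.single l 1 : (κ → F₀)) - (2 / B b b * B (Pi.single l 1) b) • b -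
            (2 / B a a * B (Pi.single l 1) a) • a := by
          rw [hRa, OrthOdd.rf_apply B b, map_sub, map_smul, OrthOdd.rf_fix B ((hs b a).trans hab), OrthOdd.rf_apply]
          abel
        funext r
        have h1 : R.1.1 r l = _ := (congrFun (mulVec_single_one R.1.1 l) r).symm.trans (congrFun h0 r)
        rw [Matrix.map_apply, h1]
        simp only [Pi.sub_apply, Pi.add_apply, Pi.smul_apply, smul_eq_mul, map_sub, map_mul]
        rcases eq_or_ne r l with rfl | hrl <;> simp [*] <;> ring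
      refine ⟨(2 : F)⁻¹ * ∑ l, z l * ι (2 / B a a * B (Pi.single l 1) a),
        (2 : F)⁻¹ * ∑ l, z l * ι (2 / B b b * B (Pi.single l 1) b), ?_⟩
      rw [← hz]
      funext r
      refine mul_left_cancel₀ h2F ?_
      have e2 : (2 : F) * z r = ∑ l, ((Pi.single l (1 : F) : κ → F) r - (R.1.1.map ι) r l) * z l := by
        simp only [sub_mul, Finset.sum_sub_distrib]
        rw [show ∑ l, (R.1.1.map ι) r l * z l = (R.1.1.map ι *ᵥ z) r from rfl, hz']
        simp [Pi.single_apply, two_mul]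
      rw [e2]
      simp only [Pi.add_apply, Pi.smul_apply, smul_eq_mul, ← mul_assoc, mul_inv_cancel₀ h2F, one_mul, mul_add,
        Finset.sum_mul, ← Finset.sum_add_distrib]
      refine Finset.sum_congr rfl fun l _ => ?_
      rw [congrFun (hcol l) r]
      simp only [Pi.add_apply, Pi.smul_apply, smul_eq_mul]
      ring
    obtain ⟨α, β, e1⟩ := step b hb ((hs a b).trans hba)
    obtain ⟨α', β', e2⟩ := step d hd ((hs a d).trans hda)
    have hβ : β = 0 := by
      have := congrArg (fun w => w ⬝ᵥ (A.map ι *ᵥ fun l => ι (b l))) (e1.symm.trans e2)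
      simp only [add_dotProduct, smul_dotProduct, hpair, smul_eq_mul, hs a b, hba, hdb, map_zero, mul_zero,
        zero_add, add_zero] at this
      exact (mul_eq_zero.mp this).resolve_right fun h0 => hb (ι.injective (h0.trans (map_zero ι).symm))
    refine ⟨α, ?_⟩
    have := congrArg (fun w => D.k *ᵥ w) e1
    simp only [hβ, zero_smul, add_zero, mulVec_mulVec, D.hk, one_mulVec, mulVec_smul] at this
    exact this
  obtain ⟨a, ha⟩ := OrthOdd.exists_ani B hs hnd h2 (by omega)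
  obtain ⟨μ, hμ⟩ := eig a ha
  -- the field automorphism fixes the subfield
  have hτι : ∀ b, τ (ι b) = ι b := by
    obtain ⟨b, hb, hba⟩ : ∃ b, B b b ≠ 0 ∧ B b a = 0 := by
      obtain ⟨z, hz, hzv⟩ := (OrthOdd.ani_or_span B hs hnd h2 ![a]).resolve_right fun h => by
        obtain ⟨z, hz0, hz⟩ := OrthOdd.exists_kernel B ![a] (by omega)
        have hz' := h z hz
        rw [Matrix.range_cons, Matrix.range_empty, Set.union_empty, Submodule.mem_span_singleton] at hz'
        obtain ⟨r, rfl⟩ := hz'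
        have : r * B a a = 0 := by simpa using hz 0
        exact hz0 (by rw [(mul_eq_zero.mp this).resolve_right ha, zero_smul])
      exact ⟨z, hz, hzv 0⟩
    obtain ⟨ν, hν⟩ := eig b hb
    let S₀ : Finset F₀ := Finset.univ.filter fun s => s ≠ 0 ∧ B a a + s * s * B b b ≠ 0
    have hrel : ∀ s ∈ S₀, τ (ι s) * ν = μ * ι s := by
      intro s hs'
      obtain ⟨hs0, hsQ⟩ := (Finset.mem_filter.mp hs').2
      obtain ⟨ρ', hρ⟩ := eig (a + s • b) (by
        simp only [map_add, map_smul, LinearMap.add_apply, LinearMap.smul_apply, smul_eq_mul, hs a b, hba, mul_zero,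
          add_zero, zero_add, ← mul_assoc]
        exact hsQ)
      rw [kv_add, kv_smul, Tadd, Tsmul, hμ, hν] at hρ
      have e := congrArg (fun w => D.k' *ᵥ w) hρ
      simp only [mulVec_add, mulVec_smul, kv_back] at e
      have e1 := congrArg (fun w => w ⬝ᵥ (A.map ι *ᵥ fun l => ι (a l))) e
      have e2 := congrArg (fun w => w ⬝ᵥ (A.map ι *ᵥ fun l => ι (b l))) e
      simp only [add_dotProduct, smul_dotProduct, hpair, smul_eq_mul, hs a b, hba, map_zero, mul_zero, zero_add,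
        add_zero] at e1 e2
      have hμρ : μ = ρ' := mul_right_cancel₀ (fun h0 => ha (ι.injective (h0.trans (map_zero ι).symm))) e1
      rw [← hμρ] at e2
      refine mul_right_cancel₀ (fun h0 => hb (ι.injective (h0.trans (map_zero ι).symm)) : ι (B b b) ≠ 0) ?_
      linear_combination e2
    have hbig : Fintype.card F₀ ≤ S₀.card + 3 := by
      by_cases hw : ∃ w, w ≠ 0 ∧ B a a + w * w * B b b = 0
      · obtain ⟨w, -, hw⟩ := hw
        have hsub : (Finset.univ : Finset F₀) ⊆ S₀ ∪ ({0, w, -w} : Finset F₀) := fun s _ => by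
          by_cases hs' : s ∈ S₀
          · exact Finset.mem_union_left _ hs'
          refine Finset.mem_union_right _ ?_
          simp only [S₀, Finset.mem_filter, Finset.mem_univ, true_and, not_and_or, not_not] at hs'
          rcases hs' with h0 | hQ
          · simp [h0]
          · have : (s - w) * (s + w) = 0 := mul_left_cancel₀ hb (by rw [mul_zero]; linear_combination hQ - hw)
            rcases mul_eq_zero.mp this with h | h
            · simp [sub_eq_zero.mp h]
            · simp [eq_neg_of_add_eq_zero_left h]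
        have := (Finset.card_le_card hsub).trans (Finset.card_union_le _ _)
        have := Finset.card_le_three (a := (0 : F₀)) (b := w) (c := -w)
        rw [Finset.card_univ] at *
        omega
      · push Not at hw
        have hsub : (Finset.univ : Finset F₀) ⊆ insert 0 S₀ := fun s _ => by
          rcases eq_or_ne s 0 with rfl | h0
          · simp
          · exact Finset.mem_insert_of_mem (Finset.mem_filter.mpr ⟨Finset.mem_univ _, h0, hw s h0⟩)
        have := (Finset.card_le_card hsub).trans (Finset.card_insert_le _ _)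
        rw [Finset.card_univ] at this
        omega
    have hodd : Odd (Fintype.card F₀) := Nat.odd_iff.mpr <| FiniteField.odd_card_of_char_ne_two fun hc2 => h2 (by
      haveI : CharP F₀ 2 := hc2 ▸ ringChar.charP F₀
      exact_mod_cast CharP.cast_eq_zero F₀ 2)
    have hne1 : 1 < Fintype.card F₀ := Fintype.one_lt_card
    intro b'
    rcases S₀.eq_empty_or_nonempty with hS | ⟨s₀, hs₀⟩
    · have hf : (τ : F ≃+* F).toRingHom.comp ι = ι := by
        refine RigidGen.hom_eq _ _ {1} (fun s h1 => ?_) (by simp) ?_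
        · rw [Finset.mem_singleton.mp h1]; simp
        · rw [hS, Finset.card_empty] at hbig
          rw [Finset.card_singleton]
          norm_num
          omega
      exact RingHom.congr_fun hf b'
    · have hs00 : s₀ ≠ 0 := (Finset.mem_filter.mp hs₀).2.1
      have hf : (τ : F ≃+* F).toRingHom.comp ι = ι := by
        refine RigidGen.hom_eq _ _ (S₀.image fun s => s / s₀) (fun z hz => ?_) ?_ ?_
        · obtain ⟨s, hs', rfl⟩ := Finset.mem_image.mp hz
          show τ (ι (s / s₀)) = ι (s / s₀)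
          have h1 := hrel s hs'
          have h2' := hrel s₀ hs₀
          have hi0 : ι s₀ ≠ 0 := by simpa using hs00
          have hν0 : ν ≠ 0 := by
            intro h0
            rw [h0, zero_smul] at hν
            have h1' : kv hF D b = 0 := sT_inj g'.1 τ (hT ▸ (hν.trans (by simpa using (Tsmul 0 0).symm)))
            refine hb ?_
            have : b = 0 := funext fun l => ι.injective (by
              have := congrFun (congrArg (fun w => D.k' *ᵥ w) h1') l
              simp only [kv_back, mulVec_zero] at this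
              exact this.trans (map_zero ι).symm)
            simp [this]
          have hτ0 : τ (ι s₀) ≠ 0 := by simpa using hi0
          rw [map_div₀, map_div₀, div_eq_div_iff hτ0 hi0]
          refine mul_right_cancel₀ hν0 ?_
          linear_combination ι s₀ * h1 - ι s * h2'
        · intro h
          obtain ⟨s, hs', h0⟩ := Finset.mem_image.mp h
          exact (Finset.mem_filter.mp hs').2.1 ((div_eq_zero_iff.mp h0).resolve_right hs00)
        · have hinj' : Function.Injective fun s : F₀ => s / s₀ := fun x y h => by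
            simpa [div_left_inj' hs00] using h
          rw [Finset.card_image_of_injective _ hinj']
          have h3 : 1 ≤ S₀.card := Finset.card_pos.mpr ⟨s₀, hs₀⟩
          obtain ⟨r, hr⟩ := hodd
          rw [pow_two]
          rcases Nat.lt_or_ge S₀.card 2 with h4 | h4
          · rw [show S₀.card = 1 by omega]
            omega
          · nlinarith
      exact RingHom.congr_fun hf b'
  -- the eigenvalue is constant
  letI : Algebra F₀ F := ι.toAlgebra
  have hconst : ∀ a', B a' a' ≠ 0 → T (kv hF D a') = μ • kv hF D a' := by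
    intro a' ha'
    obtain ⟨ν, hν⟩ := eig a' ha'
    suffices e : ν = μ by rw [hν, e]
    rw [← sub_eq_zero]
    refine (Module.forall_dual_apply_eq_zero_iff F₀ (ν - μ)).mp fun π => ?_
    let L : (κ → F₀) →ₗ[F₀] (κ → F₀) :=
      { toFun := fun x l => π ((D.k' *ᵥ T (kv hF D x)) l)
        map_add' := fun x y => funext fun l => by simp [kv_add, Tadd, mulVec_add]
        map_smul' := fun c x => funext fun l => by
          simp only [kv_smul, Tsmul, hτι, mulVec_smul, Pi.smul_apply, RingHom.id_apply, smul_eq_mul]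
          rw [show ι c * (D.k' *ᵥ T (kv hF D x)) l = c • (D.k' *ᵥ T (kv hF D x)) l from (Algebra.smul_def c _).symm,
            map_smul, smul_eq_mul] }
    have hL : ∀ u (r : F), T (kv hF D u) = r • kv hF D u → L u = π r • u := by
      intro u r hr
      funext l
      show π ((D.k' *ᵥ T (kv hF D u)) l) = π r * u l
      rw [hr, mulVec_smul, kv_back, Pi.smul_apply, smul_eq_mul, mul_comm r,
        show ι (u l) * r = u l • r from (Algebra.smul_def _ _).symm, map_smul, smul_eq_mul, mul_comm]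
    obtain ⟨c, hc'⟩ := OrthOdd.scalar_of_ani B hs hnd h2 hfin L fun u hu => by
      obtain ⟨r, hr⟩ := eig u hu
      exact ⟨_, hL u r hr⟩
    have e1 := (hL a μ hμ).symm.trans (hc' a)
    have e2 := (hL a' ν hν).symm.trans (hc' a')
    have ha0 : a ≠ 0 := fun h0 => ha (by simp [h0])
    have ha'0 : a' ≠ 0 := fun h0 => ha' (by simp [h0])
    rw [map_sub, smul_left_injective F₀ ha0 e1, smul_left_injective F₀ ha'0 e2, sub_self]
  have hall : ∀ x, T (kv hF D x) = μ • kv hF D x := by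
    intro x
    by_cases hx : B x x = 0
    · obtain ⟨s, hsv⟩ : ∃ s : F₀, B (x + s • a) (x + s • a) ≠ 0 := by
        by_contra hall2
        push Not at hall2
        have h1 := hall2 1
        have h3 := hall2 (-1)
        simp only [map_add, map_smul, LinearMap.add_apply, LinearMap.smul_apply, smul_eq_mul, hs a x, hx] at h1 h3
        exact mul_ne_zero h2 ha (by linear_combination h1 + h3)
      have := hconst _ hsv
      rw [kv_add, kv_smul, Tadd, Tsmul, hτι, hμ, smul_add, smul_comm μ (ι s)] at this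
      exact add_right_cancel this
    · exact hconst x hx
  exact final hF hι D hn h32 hc hτι μ fun i => by rw [← hT]; exact hall _

include hι in
theorem rigid_symm (hn : 3 ≤ n) (h32 : ¬ (n = 3 ∧ q = 2)) (hAs : Aᵀ = A) (h2 : (2 : F₀) ≠ 0)
    (D : GFrame hF ι g.1 A) :
    CoreGen.Rigid 2 (γ hF g) ∧
      2 ∣ Nat.card ↥(MonoidHom.eqLocus (γ hF g).toMonoidHom (MonoidHom.id (Cfsg.PSU n F q))) := by
  classical
  have hinj := conj_injective hF hn h32
  have hκ : Fintype.card κ = n := card_κ D.hk D.hk'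
  haveI : Nonempty κ := Fintype.card_pos_iff.mp (by omega)
  set B := bilA A with hB
  have hs : ∀ x y, B x y = B y x := fun x y => by
    rw [hB, Matrix.toLinearMap₂'_apply', Matrix.toLinearMap₂'_apply', dotProduct_mulVec, dotProduct_comm,
      ← mulVec_transpose, hAs]
  have hnd : ∀ x, (∀ y, B x y = 0) → x = 0 := fun x hx => by
    refine Matrix.eq_zero_of_vecMul_eq_zero D.hA (funext fun l => ?_)
    have := hx (Pi.single l 1)
    rwa [hB, Matrix.toLinearMap₂'_apply', dotProduct_mulVec, dotProduct_single_one] at this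
  have hfin : 3 ≤ Module.finrank F₀ (κ → F₀) := by rw [Module.finrank_fintype_fun_eq_card, hκ]; exact hn
  have hLfix : ∀ l ∈ Set.range (psiI hF hι D), γ hF g l = l := by
    rintro _ ⟨S, rfl⟩; exact psiI_fixed hF hι D hn h32 _
  constructor
  · refine RigidGen.rigid_of hinj _ hLfix ?_ fun y _ hc hy =>
      symm_fix hF hι D hn h32 hs hnd h2 y hc fun S => hy _ ⟨S, rfl⟩
    intro _ M hMx hMc hMn
    let P₀ : Subgroup ↥(Iso A) := (M.map (MulAut.conj : Cfsg.PSU n F q →* _)).comap (Psi hF hι D)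
    let P : Subgroup ((κ → F₀) ≃ₗ[F₀] (κ → F₀)) := (P₀.map (Iso A).subtype).map toE.toMonoidHom
    have hP : ∀ m, m ∈ P ↔ ∃ R : ↥(Iso A), toE R.1 = m ∧ ∃ x ∈ M, MulAut.conj x = Psi hF hι D R := by
      intro m
      constructor
      · rintro ⟨_, ⟨R, hR, rfl⟩, rfl⟩; exact ⟨R, rfl, hR⟩
      · rintro ⟨R, rfl, hR⟩; exact ⟨_, ⟨R, hR, rfl⟩, rfl⟩
    have good : OrthOdd.Good B P := by
      refine ⟨fun m hm => ?_, fun m hm => ?_, fun a b ha hb m hm => ?_⟩
      · obtain ⟨R, rfl, -⟩ := (hP m).mp hm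
        exact (mem_Iso_iff A R.1).mp R.2
      · obtain ⟨R, rfl, x, hx, hxR⟩ := (hP m).mp hm
        obtain ⟨j, hj⟩ : Odd (orderOf x) := by
          rw [← Nat.coprime_two_right]
          refine Nat.Coprime.coprime_dvd_left ?_ hMc
          rw [← Subgroup.orderOf_mk x hx]; exact orderOf_dvd_natCard _
        obtain ⟨r, hr⟩ := Psi_eq_one hF hι D hn h32 (R ^ (2 * j + 1)) (by
          rw [map_pow, ← hxR, ← map_pow, ← hj, pow_orderOf_eq_one, map_one])
        refine ⟨j, r, fun v => ?_⟩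
        rw [← map_pow, toE_apply, ← Subgroup.coe_pow, hr, smul_mulVec, one_mulVec]
      · obtain ⟨R, rfl, x, hx, hxR⟩ := (hP m).mp hm
        let R₀ : ↥(Iso1 A) := ⟨_, rf_mem A hs ha hb⟩
        refine (hP _).mpr ⟨⟨R₀.1, (Subgroup.mem_inf.mp R₀.2).1⟩ * R * (⟨R₀.1, (Subgroup.mem_inf.mp R₀.2).1⟩)⁻¹, ?_,
          psiI hF hι D R₀ * x * (psiI hF hι D R₀)⁻¹, hMn _ (psiI_fixed hF hι D hn h32 R₀) x hx, ?_⟩
        · simp only [R₀, Subgroup.coe_mul, Subgroup.coe_inv, map_mul, map_inv, MulEquiv.apply_symm_apply]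
          rfl
        · rw [map_mul, map_mul, map_inv, map_mul, map_mul, map_inv, Psi_psiI, hxR]
    refine (Subgroup.eq_bot_iff_forall _).mpr fun x hx => ?_
    obtain ⟨R, hR⟩ := sq_mem hF hι D hn h32 (hMx x hx)
    obtain ⟨c, hc⟩ := OrthOdd.odd_scalar B hs hnd h2 good hfin
      ((hP _).mpr ⟨R, rfl, x * x, M.mul_mem hx hx, hR.symm⟩)
    have hR1 : Psi hF hι D R = 1 := by
      have hR' : R.1.1 = c • 1 := Matrix.ext_of_mulVec_single fun i => by
        rw [← toE_apply, hc, smul_mulVec, one_mulVec]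
      have hc0 : ι c ≠ 0 := fun h0 => R.1.ne_zero (by
        rw [hR', ι.injective (h0.trans (map_zero ι).symm), zero_smul])
      show conjP hF _ = 1
      rw [show isoGS hF hι D R = ⟨scal (Units.mk0 (ι c) hc0), scal_mem hF _⟩ from Subtype.ext (Units.ext (by
        rw [isoGS_val, scal_val, hR', lift, FieldGen.map_smul_hom, Matrix.map_one _ (map_zero ι) (map_one ι),
          Matrix.mul_smul, Matrix.mul_one, Matrix.smul_mul, D.hk]
        rfl)), conjP_scal]
    have h1 : x * x = 1 := hinj (hR.symm.trans (hR1.trans (map_one _).symm))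
    have hd : orderOf x ∣ Nat.card M := by
      rw [← Subgroup.orderOf_mk x hx]; exact orderOf_dvd_natCard _
    exact orderOf_eq_one_iff.mp (Nat.eq_one_of_dvd_coprimes hMc hd
      (orderOf_dvd_of_pow_eq_one (by rw [pow_two, h1])))
  · obtain ⟨a, ha⟩ := OrthOdd.exists_ani B hs hnd h2 (by omega)
    obtain ⟨b, hb, hba⟩ : ∃ b, B b b ≠ 0 ∧ B b a = 0 := by
      obtain ⟨z, hz, hzv⟩ := (OrthOdd.ani_or_span B hs hnd h2 ![a]).resolve_right fun h => by
        obtain ⟨z, hz0, hz⟩ := OrthOdd.exists_kernel B ![a] (by omega)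
        have hz' := h z hz
        rw [Matrix.range_cons, Matrix.range_empty, Set.union_empty, Submodule.mem_span_singleton] at hz'
        obtain ⟨r, rfl⟩ := hz'
        have : r * B a a = 0 := by simpa using hz 0
        exact hz0 (by rw [(mul_eq_zero.mp this).resolve_right ha, zero_smul])
      exact ⟨z, hz, hzv 0⟩
    obtain ⟨c, hc, hca, hcb⟩ := OrthOdd.exists_ani₂ B hs hnd h2 (b := b) ha
      (Or.inl ⟨by rw [hs a b, hba, mul_zero, sub_zero]; exact mul_ne_zero ha hb, hfin⟩)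
    have hab : B a b = 0 := (hs a b).trans hba
    let R₀ : ↥(Iso1 A) := ⟨_, rf_mem A hs ha hb⟩
    let z : ↥(MonoidHom.eqLocus (γ hF g).toMonoidHom (MonoidHom.id (Cfsg.PSU n F q))) :=
      ⟨psiI hF hι D R₀, psiI_fixed hF hι D hn h32 R₀⟩
    have hsq : R₀ * R₀ = 1 := by
      refine Subtype.ext ?_
      show toE.symm _ * toE.symm _ = 1
      rw [← map_mul]
      refine (MulEquiv.map_eq_one_iff _).mpr ?_
      have hcm : OrthOdd.rf B b * OrthOdd.rf B a * OrthOdd.rf B b = OrthOdd.rf B a := by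
        have := OrthOdd.conj_rf B (OrthOdd.rf_isom B hs b) a
        rwa [OrthOdd.rf_inv, OrthOdd.rf_fix B hab] at this
      rw [mul_assoc, ← mul_assoc (OrthOdd.rf B b), hcm, OrthOdd.rf_sq]
    have hz2 : z ^ 2 = 1 := Subtype.ext (by
      show (psiI hF hι D R₀) ^ 2 = 1
      rw [← map_pow, pow_two, hsq, map_one])
    have hz1 : z ≠ 1 := fun h1 => by
      obtain ⟨r, hr⟩ := Psi_eq_one hF hι D hn h32 ⟨R₀.1, (Subgroup.mem_inf.mp R₀.2).1⟩
        (by rw [Psi_psiI, show psiI hF hι D R₀ = 1 from congrArg Subtype.val h1, map_one])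
      have ea : R₀.1.1 *ᵥ a = -a := by
        rw [← toE_apply, MulEquiv.apply_symm_apply, LinearEquiv.mul_apply, OrthOdd.rf_fix B hab, OrthOdd.rf_self B ha]
      have ec : R₀.1.1 *ᵥ c = c := by
        rw [← toE_apply, MulEquiv.apply_symm_apply, LinearEquiv.mul_apply, OrthOdd.rf_fix B hcb, OrthOdd.rf_fix B hca]
      rw [show R₀.1.1 = r • 1 from hr, smul_mulVec, one_mulVec] at ea ec
      have hc0 : c ≠ 0 := fun h0 => hc (by simp [h0])
      have ha0 : a ≠ 0 := fun h0 => ha (by simp [h0])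
      have hr1 : r = 1 := smul_left_injective F₀ hc0 (ec.trans (one_smul F₀ c).symm)
      rw [hr1, one_smul, eq_neg_iff_add_eq_zero, ← two_smul F₀, smul_eq_zero] at ea
      exact ea.elim h2 ha0
    rw [← orderOf_eq_prime hz2 hz1]
    exact orderOf_dvd_natCard z

end symm

end CfsgLib.PSURigid
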