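import Cfsg.Agent.Lib.PolarAut.PSLRigidField
import Cfsg.Agent.Lib.PolarAut.PSURigidGraph
import Cfsg.Agent.Lib.PSLnGraph.Classify

/-!
Graph and graph-field involutions of `PSL_n(q)`, `q` odd, are rigid.
-/

set_option autoImplicit false

namespace CfsgLib.PSLRigid

open Matrix CfsgLib.PSLn
open CfsgLib.PSURigid (sT sT_add sT_smul sT_inj Iso Iso1 bilA toE toE_apply mem_Iso_iff rf_mem)
open scoped MatrixGroups commutatorElement

variable {F : Type*} [Field F] {n : ℕ}

local notation "SL" => Matrix.SpecialLinearGroup (Fin n) F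
local notation "PSL" => Matrix.ProjectiveSpecialLinearGroup (Fin n) F

theorem scalar_eq_smul (c : F) : Matrix.scalar (Fin n) c = c • (1 : Matrix (Fin n) (Fin n) F) := by
  rw [Matrix.scalar_apply, Matrix.smul_one_eq_diagonal]

theorem mk_eq_one_iff (A : Matrix.SpecialLinearGroup (Fin n) F) :
    mk A = 1 ↔ ∃ r : F, A.1 = r • (1 : Matrix (Fin n) (Fin n) F) := by
  rw [QuotientGroup.mk'_apply, QuotientGroup.eq_one_iff, Matrix.SpecialLinearGroup.mem_center_iff]
  constructor
  · rintro ⟨r, -, hr⟩; exact ⟨r, by rw [← hr, scalar_eq_smul]⟩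
  · rintro ⟨r, hr⟩
    refine ⟨r, ?_, by rw [hr, scalar_eq_smul]⟩
    have := A.2
    rwa [hr, det_smul, det_one, mul_one] at this

/-- An automorphism of odd order has no graph part. -/
theorem no_graph [Fintype F] (r : ℕ) [Fact r.Prime] [CharP F r] (hn : 2 ≤ n) (y : MulAut PSL)
    (hc : (orderOf y).Coprime 2) : ∃ g τ, y = diagAut g * fieldAut τ := by
  obtain ⟨g, e, rfl | ⟨-, rfl⟩⟩ := exists_decomposition_any r hn y
  · exact ⟨g, e, rfl⟩
  obtain ⟨j, hj⟩ := Nat.coprime_two_right.mp hc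
  obtain ⟨y, hy⟩ : ∃ y : MulAut PSL, y = diagAut g * fieldAut e * graphAut := ⟨_, rfl⟩
  rw [← hy] at hj ⊢
  obtain ⟨h, hh⟩ : ∃ h, y * y = diagAut h * fieldAut (e * e) := by
    refine ⟨g * GeneralLinearGroup.map (e : F ≃+* F).toRingHom (dualGL g), ?_⟩
    calc y * y = diagAut g * (fieldAut e * (graphAut * diagAut g)) * (fieldAut e * graphAut) := by
          rw [hy]; simp only [mul_assoc]
      _ = diagAut g * diagAut (GeneralLinearGroup.map (e : F ≃+* F).toRingHom (dualGL g)) * fieldAut e *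
            ((graphAut * fieldAut e) * graphAut) := by
          rw [graphAut_diag, ← mul_assoc (fieldAut e), fieldAut_diag]; simp only [mul_assoc]
      _ = _ := by
          rw [graphAut_field, mul_assoc (fieldAut e) graphAut graphAut, graphAut_mul_self, mul_one, map_mul, map_mul,
            mul_assoc (diagAut g * _)]
  obtain ⟨T, -, hT⟩ := diag_field_pow (e * e) h (j + 1)
  refine ⟨T, (e * e) ^ (j + 1), ?_⟩
  rw [← hT, ← hh, ← pow_two, ← pow_mul, show 2 * (j + 1) = orderOf y + 1 by omega, pow_succ, pow_orderOf_eq_one,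
    one_mul]

/-- An element fixed by a semilinear automorphism commutes with the semilinear map up to a scalar. -/
theorem fix_semiL {g : GL (Fin n) F} {τ : RingAut F} {A : Matrix.SpecialLinearGroup (Fin n) F}
    (h : (diagAut g * fieldAut τ : MulAut PSL) (mk A) = mk A) :
    ∃ c : F, ∀ x, sT g.1 τ (A.1 *ᵥ x) = c • (A.1 *ᵥ sT g.1 τ x) := by
  obtain ⟨A', hA'⟩ : ∃ A', A' = conjSL g (fieldSL τ A) := ⟨_, rfl⟩
  rw [MulAut.mul_apply, fieldAut_mk, diagAut_mk, ← hA'] at h
  obtain ⟨c, hc⟩ := (mk_eq_one_iff (A⁻¹ * A')).mp (by rw [map_mul, map_inv, h, inv_mul_cancel])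
  refine ⟨c, fun x => ?_⟩
  have e : A'.1 = c • A.1 := by
    rw [show A'.1 = A.1 * (A⁻¹ * A').1 by rw [← Matrix.SpecialLinearGroup.coe_mul, mul_inv_cancel_left], hc,
      Matrix.mul_smul, Matrix.mul_one]
  rw [← Matrix.smul_mulVec, ← e, hA', coe_conjSL, coe_fieldSL]
  show g.1 *ᵥ _ = (g.1 * A.1.map τ * (g⁻¹).1) *ᵥ (g.1 *ᵥ _)
  rw [mulVec_mulVec, Matrix.mul_assoc _ (g⁻¹).1, Units.inv_mul, Matrix.mul_one, ← mulVec_mulVec]
  congr 1
  exact funext fun i => RingHom.map_mulVec (τ : F ≃+* F).toRingHom A.1 x i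

/-- A semilinear map with all vectors as eigenvectors gives the trivial automorphism. -/
theorem eq_one_of_eigen (hn : 2 ≤ n) (g : GL (Fin n) F) (τ : RingAut F)
    (h : ∀ v, v ≠ 0 → ∃ μ : F, sT g.1 τ v = μ • v) : (diagAut g * fieldAut τ : MulAut PSL) = 1 := by
  let e : Fin n → Fin n → F := fun i => Pi.single i 1
  have hne : ∀ i, e i ≠ 0 := fun i h0 => one_ne_zero (α := F) (by simpa [e] using congrFun h0 i)
  choose lam hlam using fun i => h (e i) (hne i)
  have key : ∀ i j, i ≠ j → ∀ b, τ b * lam j = lam i * b := by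
    intro i j hij b
    obtain ⟨ν, hν⟩ := h (e i + b • e j) fun h0 => one_ne_zero (α := F) (by simpa [e, hij] using congrFun h0 i)
    rw [sT_add, sT_smul, hlam, hlam] at hν
    have h1 := congrFun hν i
    have h2 := congrFun hν j
    simp [e, hij, hij.symm] at h1 h2
    rw [h1]; exact h2
  let i₀ : Fin n := ⟨0, by omega⟩
  let i₁ : Fin n := ⟨1, by omega⟩
  have hall : ∀ i, lam i = lam i₀ := fun i => by
    rcases eq_or_ne i i₀ with rfl | hi
    · rfl
    · simpa using key i₀ i (Ne.symm hi) 1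
  have hl0 : lam i₀ ≠ 0 := fun h0 => hne i₀ (sT_inj g τ (by
    rw [hlam, h0, zero_smul]
    simpa using (sT_smul g.1 τ 0 0).symm))
  have hτ : τ = 1 := RingEquiv.ext fun b => mul_right_cancel₀ hl0 (by
    have := key i₀ i₁ (by simp [i₀, i₁]) b
    rw [hall] at this
    rw [this, RingAut.one_apply, mul_comm])
  subst hτ
  rw [map_one, mul_one, diagAut_scalar g (lam i₀) ?_]
  rw [scalar_eq_smul]
  refine Matrix.ext_of_mulVec_single fun i => ?_
  rw [Matrix.smul_mulVec, Matrix.one_mulVec, ← hall i]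
  exact hlam i

section GraphField

variable [Fintype F] {q : ℕ} (hF : Fintype.card F = q ^ 2)

open CfsgLib.UnitarySimple CfsgLib.PSUGraph CfsgLib.PolarAut

/-- The special unitary group inside the special linear one. -/
def inclU (n : ℕ) (F : Type*) [Field F] (q : ℕ) : Cfsg.SU n F q →* Matrix.SpecialLinearGroup (Fin n) F where
  toFun s := s.1
  map_one' := rfl
  map_mul' _ _ := rfl

include hF in
theorem inclU_center (hn : 3 ≤ n) (s : Cfsg.SU n F q) :
    mk (inclU n F q s) = 1 ↔ s ∈ Subgroup.center (Cfsg.SU n F q) := by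
  rw [mk_eq_one_iff]
  constructor
  · rintro ⟨c, hc⟩
    refine central_of_scalar s (c := c) fun x => ?_
    rw [show mat s = c • 1 from hc, Matrix.smul_mulVec, Matrix.one_mulVec]
  · intro h
    obtain ⟨c, hc⟩ := scalar_of_central' hF hn s h
    exact ⟨c, Matrix.ext_of_mulVec_single fun i => (hc _).trans (by rw [Matrix.smul_mulVec, Matrix.one_mulVec])⟩

/-- The simple unitary group inside. -/
def psiU (hF : Fintype.card F = q ^ 2) (hn : 3 ≤ n) : Cfsg.PSU n F q →* PSL :=
  QuotientGroup.lift _ (mk.comp (inclU n F q)) fun s hs =>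
    MonoidHom.mem_ker.mpr ((inclU_center hF hn s).mpr hs)

theorem psiU_mk (hn : 3 ≤ n) (s : Cfsg.SU n F q) : psiU hF hn (QuotientGroup.mk s) = mk s.1 := rfl

theorem psiU_inj (hn : 3 ≤ n) : Function.Injective (psiU (n := n) hF hn) := by
  refine (injective_iff_map_eq_one _).mpr fun a ha => ?_
  obtain ⟨s, rfl⟩ := QuotientGroup.mk_surjective a
  exact (QuotientGroup.eq_one_iff s).mpr ((inclU_center hF hn s).mp ha)

theorem psiU_fixed (hn : 3 ≤ n) (a : Cfsg.PSU n F q) :
    (fieldAut (fr hF) * graphAut : MulAut PSL) (psiU hF hn a) = psiU hF hn a := by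
  obtain ⟨s, rfl⟩ := QuotientGroup.mk_surjective a
  rw [psiU_mk, MulAut.mul_apply, graphAut_mk, fieldAut_mk]
  refine congrArg (mk : Matrix.SpecialLinearGroup (Fin n) F → _) (Subtype.ext ?_)
  rw [coe_fieldSL, coe_graphSL]
  have hinv : (s.1⁻¹).1 = ((mat s).map (fr hF))ᵀ := by
    calc (s.1⁻¹).1 = (((mat s).map (fr hF))ᵀ * mat s) * (s.1⁻¹).1 := by rw [su_unit hF s, Matrix.one_mul]
      _ = _ := by
        rw [Matrix.mul_assoc, show mat s * (s.1⁻¹).1 = (s.1 * s.1⁻¹).1 from rfl, mul_inv_cancel,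
          Matrix.SpecialLinearGroup.coe_one, Matrix.mul_one]
  rw [hinv, transpose_transpose, map_map_fr]
  rfl

theorem comm_central {G : Type*} [Group G] (a b z w : G) (hz : z ∈ Subgroup.center G) (hw : w ∈ Subgroup.center G) :
    (a * z) * (b * w) * (a * z)⁻¹ * (b * w)⁻¹ = a * b * a⁻¹ * b⁻¹ := by
  have hz' : ∀ x, z * x = x * z := fun x => (Subgroup.mem_center_iff.mp hz x).symm
  have hw' : ∀ x, w * x = x * w := fun x => (Subgroup.mem_center_iff.mp hw x).symm
  calc _ = a * (z * b) * (w * z⁻¹) * a⁻¹ * w⁻¹ * b⁻¹ := by group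
    _ = a * b * (z * z⁻¹) * (w * a⁻¹) * w⁻¹ * b⁻¹ := by rw [hz' b, hw' z⁻¹]; group
    _ = _ := by rw [hw' a⁻¹]; group

include hF in
theorem fixU (hn : 3 ≤ n) (h32 : ¬ (n = 3 ∧ q = 2)) (g : GL (Fin n) F) (τ : RingAut F)
    (h : ∀ a, (diagAut g * fieldAut τ : MulAut PSL) (psiU hF hn a) = psiU hF hn a) :
    (diagAut g * fieldAut τ : MulAut PSL) = 1 := by
  classical
  let φ : Cfsg.SU n F q →* Matrix.SpecialLinearGroup (Fin n) F :=
    ((conjSL g).toMonoidHom.comp (fieldSL τ).toMonoidHom).comp (inclU n F q)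
  have hz : ∀ s, ∃ z ∈ Subgroup.center (Matrix.SpecialLinearGroup (Fin n) F), φ s = inclU n F q s * z := fun s => by
    refine ⟨(inclU n F q s)⁻¹ * φ s, ?_, (mul_inv_cancel_left _ _).symm⟩
    exact QuotientGroup.eq.mp (h (QuotientGroup.mk s)).symm
  have hall : ∀ s, φ s = inclU n F q s := by
    suffices e : commutator (Cfsg.SU n F q) ≤ MonoidHom.eqLocus φ (inclU n F q) by
      intro s
      rw [perfect hF hn h32] at e
      exact e (Subgroup.mem_top s)
    rw [commutator_def, Subgroup.commutator_le]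
    intro a _ b _
    show φ ⁅a, b⁆ = inclU n F q ⁅a, b⁆
    obtain ⟨z, hz1, hz2⟩ := hz a
    obtain ⟨w, hw1, hw2⟩ := hz b
    rw [map_commutatorElement, map_commutatorElement, commutatorElement_def, commutatorElement_def, hz2, hw2,
      comm_central _ _ z w hz1 hw1]
  have heq : ∀ s : Cfsg.SU n F q, g.1 * (mat s).map τ = mat s * g.1 := fun s => by
    have e : g.1 * (mat s).map τ * (g⁻¹).1 = mat s := congrArg Subtype.val (hall s)
    conv_rhs => rw [← e]
    rw [Matrix.mul_assoc _ (g⁻¹).1, Units.inv_mul, Matrix.mul_one]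
  have third : ∀ a b : Fin n, ∃ c, c ≠ a ∧ c ≠ b := fun a b => by
    obtain ⟨c, -, hc⟩ := Finset.exists_mem_notMem_of_card_lt_card (s := ({a, b} : Finset (Fin n))) (t := Finset.univ)
      (lt_of_le_of_lt Finset.card_le_two (by rw [Finset.card_univ, Fintype.card_fin]; omega))
    simp only [Finset.mem_insert, Finset.mem_singleton, not_or] at hc
    exact ⟨c, hc⟩
  -- diagonal elements
  have hdiag : ∀ u : ↥(U1 hF), ∀ a b : Fin n, a ≠ b → g.1 a b = (u.1 : F) * g.1 a b ∧
      g.1 a a * τ (u.1 : F) = (u.1 : F) * g.1 a a := by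
    intro u a b hab
    obtain ⟨c, hca, hcb⟩ := third a b
    let d : Fin n → Fˣ := Function.update (Function.update 1 a u.1) c u.1⁻¹
    have hd : ∀ i, fr hF (d i : F) * d i = 1 := fun i => by
      rcases eq_or_ne i c with rfl | h1
      · simp only [d, Function.update_self]
        rw [Units.val_inv_eq_inv_val, map_inv₀, ← mul_inv, mul_comm, (mem_U1 hF).mp u.2, inv_one]
      · rcases eq_or_ne i a with rfl | h0
        · simp only [d, Function.update_of_ne h1, Function.update_self]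
          rw [mul_comm, (mem_U1 hF).mp u.2]
        · simp [d, Function.update_of_ne h1, Function.update_of_ne h0]
    let D : Fin n → F := fun i => (d i : F)
    let s : Cfsg.SU n F q := suOf hF (diagonal D)
      (by rw [diagonal_map (map_zero _), diagonal_transpose, diagonal_mul_diagonal, ← diagonal_one]
          exact congrArg _ (funext hd))
      (by rw [det_diagonal, ← Units.coe_prod, Finset.prod_update_of_mem (Finset.mem_univ _),
            Finset.prod_update_of_mem (by simp [hca.symm])]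
          simp)
    have e := heq s
    rw [mat_suOf, diagonal_map (map_zero _)] at e
    have hb : D b = 1 := by simp [D, d, Function.update_of_ne hcb.symm, Function.update_of_ne hab.symm]
    have ha : D a = u.1 := by simp [D, d, Function.update_of_ne hca.symm]
    have e1 := congrFun (congrFun e a) b
    have e2 := congrFun (congrFun e a) a
    rw [mul_diagonal, diagonal_mul, ha] at e1 e2
    simp only [hb, map_one, mul_one] at e1
    exact ⟨e1, e2⟩
  obtain ⟨u, hu⟩ : ∃ u : ↥(U1 hF), (u.1 : F) ≠ 1 := by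
    by_contra hc
    push Not at hc
    haveI : Subsingleton ↥(U1 hF) := ⟨fun a b => Subtype.ext (Units.ext ((hc a).trans (hc b).symm))⟩
    have := Nat.card_of_subsingleton (1 : ↥(U1 hF))
    rw [card_U1] at this
    have := two_le_q hF
    omega
  have hoff : ∀ a b, a ≠ b → g.1 a b = 0 := fun a b hab => by
    by_contra h0
    exact hu ((mul_eq_right₀ h0).mp (hdiag u a b hab).1.symm)
  have hgd : ∀ a, g.1 a a ≠ 0 := fun a h0 => ((Matrix.isUnit_iff_isUnit_det _).mp g.isUnit).ne_zero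
    (Matrix.det_eq_zero_of_row_eq_zero a fun b => by
      rcases eq_or_ne a b with rfl | hab
      · exact h0
      · exact hoff a b hab)
  let i₀ : Fin n := ⟨0, by omega⟩
  let i₁ : Fin n := ⟨1, by omega⟩
  have hconst : ∀ a, g.1 a a = g.1 i₀ i₀ := by
    intro b
    rcases eq_or_ne b i₀ with rfl | hb
    · rfl
    obtain ⟨c, hca, hcb⟩ := third i₀ b
    let π : Equiv.Perm (Fin n) := Equiv.swap i₀ b * Equiv.swap b c
    have hπ : π i₀ = b := by
      simp [π, Equiv.Perm.mul_apply, Equiv.swap_apply_of_ne_of_ne hb.symm hca.symm]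
    have hmap : ∀ f : RingAut F, (π.permMatrix F).map f = π.permMatrix F := fun f => by
      ext i j; simp [Equiv.Perm.permMatrix, PEquiv.toMatrix_apply, apply_ite f]
    let s : Cfsg.SU n F q := suOf hF (π.permMatrix F)
      (by rw [hmap, Matrix.transpose_permMatrix, ← Matrix.permMatrix_mul, mul_inv_cancel, Matrix.permMatrix_one])
      (by rw [Matrix.det_permutation, map_mul, Equiv.Perm.sign_swap hb.symm, Equiv.Perm.sign_swap hcb.symm]; simp)
    have e := congrFun (congrFun (heq s) i₀) b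
    rw [mat_suOf, hmap] at e
    simp only [Matrix.mul_apply] at e
    rw [Finset.sum_eq_single i₀ (fun j _ hj => by rw [hoff i₀ j hj.symm, zero_mul]) (by simp),
      Finset.sum_eq_single b (fun j _ hj => by rw [hoff j b hj, mul_zero]) (by simp)] at e
    simp [Equiv.Perm.permMatrix, PEquiv.toMatrix_apply, hπ] at e
    exact e.symm
  have hτ : τ = 1 := by
    have hf : (τ : F ≃+* F).toRingHom = RingHom.id F := by
      refine RigidGen.hom_eq _ _ ((Finset.univ : Finset ↥(U1 hF)).image fun u => (u.1 : F)) (fun z hz => ?_) ?_ ?_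
      · obtain ⟨u, -, rfl⟩ := Finset.mem_image.mp hz
        exact mul_left_cancel₀ (hgd i₀) (((hdiag u i₀ i₁ (by simp [i₀, i₁])).2).trans (mul_comm _ _))
      · intro h0
        obtain ⟨u, -, hu⟩ := Finset.mem_image.mp h0
        exact u.1.ne_zero hu
      · rw [Finset.card_image_of_injective _ fun a b hab => Subtype.ext (Units.ext hab), Finset.card_univ,
          ← Nat.card_eq_fintype_card (α := ↥(U1 hF)), card_U1, hF]
        exact Nat.pow_lt_pow_left (by omega) two_ne_zero
    exact RingEquiv.ext fun z => RingHom.congr_fun hf z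
  rw [hτ, map_one, mul_one]
  refine diagAut_scalar g (g.1 i₀ i₀) ?_
  ext i j
  rcases eq_or_ne i j with rfl | hij
  · simp [hconst i]
  · simp [hoff i j hij, hij]

theorem rigid_graphField (r : ℕ) [Fact r.Prime] [CharP F r] (hn : 3 ≤ n) (h32 : ¬ (n = 3 ∧ q = 2))
    (h2 : (2 : F) ≠ 0) :
    CoreGen.Rigid 2 (fieldAut (fr hF) * graphAut : MulAut PSL) ∧
      2 ∣ Nat.card ↥(MonoidHom.eqLocus (fieldAut (fr hF) * graphAut : MulAut PSL).toMonoidHom
        (MonoidHom.id PSL)) := by
  classical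
  have h2U : 2 ∣ Nat.card ↥(Cfsg.GU n F q) := by
    let z : ↥(Cfsg.GU n F q) := ⟨-1, (mem_GU hF _).mpr (by
      have e : (-1 : Matrix (Fin n) (Fin n) F).map (fr hF) = -1 := by
        ext i j; simp [Matrix.one_apply, apply_ite (fr hF)]
      rw [Units.val_neg, Units.val_one, e, transpose_neg, transpose_one, neg_mul_neg, Matrix.one_mul])⟩
    have hz : z ^ 2 = 1 := Subtype.ext (by show (-1 : GL (Fin n) F) ^ 2 = 1; exact neg_one_sq)
    have hz1 : z ≠ 1 := fun h => by
      have := congrFun (congrFun (congrArg (fun y : ↥(Cfsg.GU n F q) => y.1.1) h) ⟨0, by omega⟩) ⟨0, by omega⟩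
      simp [z, Matrix.one_apply] at this
      exact h2 (by linear_combination (-1 : F) * this)
    rw [← orderOf_eq_prime hz hz1]
    exact orderOf_dvd_natCard _
  have hd := PSURigid.dvd_card_psu (F₀ := F) hF hn h2U
  have hinj := conj_injective (F := F) (show 2 ≤ n by omega)
  refine ⟨?_, hd.trans (Subgroup.card_dvd_of_injective ((psiU hF hn).codRestrict _ fun a => psiU_fixed hF hn a)
    fun a b hab => psiU_inj hF hn (congrArg Subtype.val hab))⟩
  refine RigidGen.rigid_of hinj (Set.range (psiU (n := n) hF hn)) (by rintro _ ⟨a, rfl⟩; exact psiU_fixed hF hn a)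
    ?_ fun y _ hc hy => ?_
  swap
  · obtain ⟨g, τ, rfl⟩ := no_graph r (by omega) y hc
    exact fixU hF hn h32 g τ fun a => hy _ ⟨a, rfl⟩
  intro _ M hMx hMc hMn
  haveI : (M.comap (psiU (n := n) hF hn)).Normal := ⟨fun x hx a => by
    rw [Subgroup.mem_comap, map_mul, map_mul, map_inv]
    exact hMn _ (psiU_fixed hF hn a) _ hx⟩
  have hbot : M.comap (psiU (n := n) hF hn) = ⊥ := by
    haveI := UnitarySimple.simple hF hn h32
    refine (IsSimpleGroup.eq_bot_or_eq_top_of_normal _ inferInstance).resolve_right fun htop => ?_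
    have hd' := Subgroup.card_comap_dvd_of_injective M _ (psiU_inj hF hn)
    rw [htop, Subgroup.card_top] at hd'
    exact Nat.prime_two.not_dvd_one (hMc ▸ Nat.dvd_gcd (hd.trans hd') dvd_rfl)
  refine (Subgroup.eq_bot_iff_forall _).mpr fun m hm => hinj ?_
  rw [map_one]
  obtain ⟨S, rfl⟩ := mk_surjective m
  have hconj : (MulAut.conj (mk S) : MulAut PSL) = diagAut (SpecialLinearGroup.toGL S) * fieldAut 1 := by
    rw [map_one, mul_one, diagAut_toGL]
  rw [hconj]
  refine fixU hF hn h32 _ 1 fun a => ?_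
  rw [← hconj]
  have hcomm : Commute (diagAut (SpecialLinearGroup.toGL S)) (fieldAut (fr hF) * graphAut : MulAut PSL) := by
    rw [diagAut_toGL, commute_iff_eq, CoreGen.mul_conj, hMx _ hm]
  obtain ⟨μ, hμ⟩ := exists_unitary_scalar (by omega) (orderOf_fr hF) hcomm
  obtain ⟨y, hy⟩ : ∃ y, y = GeneralLinearGroup.scalar (Fin n) μ * SpecialLinearGroup.toGL S := ⟨_, rfl⟩
  rw [← hy] at hμ
  have hyGS : y ∈ GS hF n := GU_le_GS hF
    ((PSLn.mem_GU_iff (fr hF) (fr_apply hF) y).mpr ((PSLn.unitary_iff (fr hF) (fr_fr hF) y).mp hμ))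
  have hdiag : (MulAut.conj (mk S) : MulAut PSL) = diagAut y := by
    rw [← diagAut_toGL, diagAut_eq_iff (by omega)]
    exact ⟨μ⁻¹, by rw [hy, ← mul_assoc, ← map_mul, inv_mul_cancel, map_one, one_mul]⟩
  obtain ⟨l, rfl⟩ := QuotientGroup.mk_surjective a
  let l₀ : Cfsg.SU n F q := suOf hF (y.1 * mat l * (y⁻¹).1) (conj_unit hF hyGS l)
    (by rw [Matrix.det_units_conj]; exact l.1.2)
  have e : MulAut.conj (mk S) (psiU hF hn (QuotientGroup.mk l)) = psiU hF hn (QuotientGroup.mk l₀) := by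
    rw [hdiag, psiU_mk, psiU_mk, diagAut_mk]
    exact congrArg (mk : Matrix.SpecialLinearGroup (Fin n) F → _) (Subtype.ext rfl)
  have h1 : mk S * psiU hF hn (QuotientGroup.mk l) * (mk S)⁻¹ * (psiU hF hn (QuotientGroup.mk l))⁻¹ ∈ M := by
    rw [mul_assoc, mul_assoc, ← mul_assoc (psiU hF hn (QuotientGroup.mk l))]
    exact M.mul_mem hm (hMn _ (psiU_fixed hF hn _) _ (M.inv_mem hm))
  rw [MulAut.conj_apply] at e
  rw [e, ← map_inv (psiU hF hn), ← map_mul, ← Subgroup.mem_comap, hbot, Subgroup.mem_bot, mul_inv_eq_one] at h1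
  rw [MulAut.conj_apply, e, h1]

end GraphField

section Graph

open CfsgLib.PSLnGraph (γ)
open CfsgLib.SympTransvection (tv)

variable (g : GL (Fin n) F)

theorem mem_iso_iff_dual (R : GL (Fin n) F) :
    R ∈ Iso (g⁻¹).1 ↔ R.1 * g.1 * R.1ᵀ = g.1 := by
  have e1 : R.1 * g.1 * R.1ᵀ = g.1 ↔ R * g * (dualGL R)⁻¹ = g := by
    rw [Units.ext_iff, PSLnGraph.val_conj]
  have e2 : R ∈ Iso (g⁻¹).1 ↔ (dualGL R)⁻¹ * g⁻¹ * R = g⁻¹ := by
    rw [Units.ext_iff]; exact Iff.rfl
  rw [e1, e2]
  constructor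
  · intro h
    calc R * g * (dualGL R)⁻¹ = R * ((dualGL R)⁻¹ * g⁻¹ * R)⁻¹ * (dualGL R)⁻¹ := by rw [h, inv_inv]
      _ = g := by group
  · intro h
    calc (dualGL R)⁻¹ * g⁻¹ * R = (dualGL R)⁻¹ * (R * g * (dualGL R)⁻¹)⁻¹ * R := by rw [h]
      _ = g⁻¹ := by group

theorem comm_iso (hn : 2 ≤ n) {R : GL (Fin n) F} (hR : R ∈ Iso (g⁻¹).1) :
    diagAut R * γ g = γ g * diagAut R :=
  ((PSLnGraph.commute_iff hn R g).mpr ⟨1, by rw [Units.val_one, one_smul]; exact (mem_iso_iff_dual g R).mp hR⟩).eq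

theorem det_iso1 (P : ↥(Iso1 (g⁻¹).1)) : P.1.1.det = 1 :=
  congrArg Units.val (MonoidHom.mem_ker.mp (Subgroup.mem_inf.mp P.2).2)

/-- The isometries of determinant one as special linear matrices. -/
def toSL (g : GL (Fin n) F) : ↥(Iso1 (g⁻¹).1) →* Matrix.SpecialLinearGroup (Fin n) F where
  toFun P := ⟨P.1.1, det_iso1 g P⟩
  map_one' := Subtype.ext rfl
  map_mul' _ _ := Subtype.ext rfl

/-- The isometries of determinant one in the simple group. -/
def psiG (g : GL (Fin n) F) : ↥(Iso1 (g⁻¹).1) →* PSL := mk.comp (toSL g)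

theorem conj_psiG (P : ↥(Iso1 (g⁻¹).1)) : MulAut.conj (psiG g P) = diagAut P.1 := by
  rw [psiG, MonoidHom.comp_apply, ← diagAut_toGL]
  exact congrArg diagAut (Units.ext rfl)

theorem psiG_fixed (hn : 2 ≤ n) (P : ↥(Iso1 (g⁻¹).1)) : γ g (psiG g P) = psiG g P := by
  refine conj_injective hn (mul_right_cancel (b := γ g) ?_)
  rw [← CoreGen.mul_conj, conj_psiG, comm_iso g hn (Subgroup.mem_inf.mp P.2).1]

/-- The square of a fixed element comes from an isometry. -/
theorem sq_memG (hn : 2 ≤ n) {a : PSL} (ha : γ g a = a) :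
    ∃ R : ↥(Iso (g⁻¹).1), diagAut R.1 = MulAut.conj (a * a) := by
  obtain ⟨S, rfl⟩ := mk_surjective a
  have hcomm : Commute (diagAut (SpecialLinearGroup.toGL S)) (γ g) := by
    rw [diagAut_toGL, commute_iff_eq, CoreGen.mul_conj, ha]
  obtain ⟨c, hc⟩ := (PSLnGraph.commute_iff hn _ g).mp hcomm
  obtain ⟨R, hR⟩ : ∃ R, R = GeneralLinearGroup.scalar (Fin n) c⁻¹ *
      (SpecialLinearGroup.toGL S * SpecialLinearGroup.toGL S) := ⟨_, rfl⟩
  refine ⟨⟨R, (mem_iso_iff_dual g R).mpr ?_⟩, ?_⟩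
  · obtain ⟨X, hX⟩ : ∃ X, X = (SpecialLinearGroup.toGL S).1 := ⟨_, rfl⟩
    rw [← hX] at hc
    rw [show R.1 = (c⁻¹ : Fˣ).1 • (X * X) by
      rw [hR, Units.val_mul, Units.val_mul, PSLn.scalar_coe, scalar_eq_smul, Matrix.smul_mul, Matrix.one_mul, hX]]
    simp only [transpose_smul, Matrix.smul_mul, Matrix.mul_smul, smul_smul, transpose_mul]
    rw [show X * X * g.1 * (Xᵀ * Xᵀ) = X * (X * g.1 * Xᵀ) * Xᵀ by simp only [Matrix.mul_assoc], hc, Matrix.mul_smul,
      Matrix.smul_mul, hc, smul_smul, smul_smul,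
      show (c⁻¹ : Fˣ).1 * (c⁻¹ : Fˣ).1 * c * c = 1 by
        rw [Units.val_inv_eq_inv_val]; field_simp,
      one_smul]
  · show diagAut R = _
    rw [hR, map_mul, diagAut_scalar _ _ rfl, one_mul, map_mul, map_mul, diagAut_toGL]

theorem g_inv_transpose {ε : F} (hg : g.1ᵀ = ε • g.1) (hε : ε * ε = 1) : (g⁻¹).1ᵀ = ε • (g⁻¹).1 := by
  have h1 : (ε • g.1) * (g⁻¹).1ᵀ = 1 := by
    rw [← hg, ← transpose_mul, Units.inv_mul, transpose_one]
  calc (g⁻¹).1ᵀ = ((ε • (g⁻¹).1) * (ε • g.1)) * (g⁻¹).1ᵀ := by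
        rw [Matrix.smul_mul, Matrix.mul_smul, smul_smul, hε, one_smul, Units.inv_mul, Matrix.one_mul]
    _ = _ := by rw [Matrix.mul_assoc, h1, Matrix.mul_one]

section skew

variable {m : ℕ} (P : Matrix (Fin n) (Fin m ⊕ Fin m) F) (P' : Matrix (Fin m ⊕ Fin m) (Fin n) F) (s : Fˣ)
variable (hP : P * P' = 1) (hP' : P' * P = 1) (hJ : (s : F) • (Pᵀ * (g⁻¹).1 * P) = Matrix.J (Fin m) F)

/-- A symplectic matrix as an isometry. -/
def spE (hP : P * P' = 1) (hP' : P' * P = 1) (hJ : (s : F) • (Pᵀ * (g⁻¹).1 * P) = Matrix.J (Fin m) F) :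
    Matrix.symplecticGroup (Fin m) F →* ↥(Iso1 (g⁻¹).1) where
  toFun S := ⟨⟨P * S.1 * P', P * (S⁻¹).1 * P',
      by
        rw [show P * S.1 * P' * (P * (S⁻¹).1 * P') = P * S.1 * (P' * P) * (S⁻¹).1 * P' by
          simp only [Matrix.mul_assoc], hP', Matrix.mul_one, Matrix.mul_assoc P S.1,
          show S.1 * (S⁻¹).1 = (S * S⁻¹).1 from rfl, mul_inv_cancel]
        show P * 1 * P' = 1
        rw [Matrix.mul_one, hP],
      by
        rw [show P * (S⁻¹).1 * P' * (P * S.1 * P') = P * (S⁻¹).1 * (P' * P) * S.1 * P' by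
          simp only [Matrix.mul_assoc], hP', Matrix.mul_one, Matrix.mul_assoc P (S⁻¹).1,
          show (S⁻¹).1 * S.1 = (S⁻¹ * S).1 from rfl, inv_mul_cancel]
        show P * 1 * P' = 1
        rw [Matrix.mul_one, hP]⟩,
    Subgroup.mem_inf.mpr ⟨by
      show (P * S.1 * P')ᵀ * (g⁻¹).1 * (P * S.1 * P') = (g⁻¹).1
      have hG : Pᵀ * (g⁻¹).1 * P = (s⁻¹ : Fˣ).1 • Matrix.J (Fin m) F := by
        rw [← hJ, smul_smul, Units.inv_mul, one_smul]
      calc _ = P'ᵀ * (S.1ᵀ * (Pᵀ * (g⁻¹).1 * P) * S.1) * P' := by simp only [transpose_mul, Matrix.mul_assoc]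
        _ = P'ᵀ * (Pᵀ * (g⁻¹).1 * P) * P' := by
          rw [hG, Matrix.mul_smul, Matrix.smul_mul, SymplecticGroup.mem_iff'.mp S.2]
        _ = (P * P')ᵀ * (g⁻¹).1 * (P * P') := by simp only [transpose_mul, Matrix.mul_assoc]
        _ = _ := by rw [hP, transpose_one, Matrix.one_mul, Matrix.mul_one],
      MonoidHom.mem_ker.mpr (Units.ext (by
        show (P * S.1 * P').det = 1
        rw [det_conj_of_mul_eq_one hP hP', SymplecticGroup.det_eq_one S.2]))⟩⟩
  map_one' := Subtype.ext (Units.ext (by show P * 1 * P' = 1; rw [Matrix.mul_one, hP]))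
  map_mul' S T := Subtype.ext (Units.ext (by
    show P * (S.1 * T.1) * P' = P * S.1 * P' * (P * T.1 * P')
    rw [show P * S.1 * P' * (P * T.1 * P') = P * S.1 * (P' * P) * T.1 * P' by simp only [Matrix.mul_assoc], hP',
      Matrix.mul_one, Matrix.mul_assoc P S.1]))

theorem center_spE (hm : 1 ≤ m) (S : Matrix.symplecticGroup (Fin m) F) :
    psiG g (spE g P P' s hP hP' hJ S) = 1 ↔ S ∈ Subgroup.center _ := by
  rw [psiG, MonoidHom.comp_apply, mk_eq_one_iff]
  constructor
  · rintro ⟨c, hc⟩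
    change P * S.1 * P' = c • 1 at hc
    have hS : S.1 = c • 1 := by
      have := congrArg (fun M => P' * M * P) hc
      simp only [← Matrix.mul_assoc, hP', Matrix.one_mul, Matrix.mul_smul, Matrix.mul_one, Matrix.smul_mul] at this
      rwa [Matrix.mul_assoc, hP', Matrix.mul_one] at this
    rw [Subgroup.mem_center_iff]
    intro k
    refine Subtype.ext ?_
    show k.1 * S.1 = S.1 * k.1
    rw [hS, Matrix.smul_mul, Matrix.mul_smul, Matrix.one_mul, Matrix.mul_one]
  · intro h
    obtain ⟨c, hc⟩ := SympTransvection.scalar_of_central S h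
    refine ⟨c, ?_⟩
    show P * S.1 * P' = _
    rw [hc, Matrix.scalar_apply, ← Matrix.smul_one_eq_diagonal, Matrix.mul_smul, Matrix.mul_one, Matrix.smul_mul, hP]

/-- The simple symplectic group inside. -/
def psiS (hm : 1 ≤ m) : Cfsg.PSp m F →* PSL :=
  QuotientGroup.lift _ ((psiG g).comp (spE g P P' s hP hP' hJ)) fun S hS =>
    MonoidHom.mem_ker.mpr ((center_spE g P P' s hP hP' hJ hm S).mpr hS)

include hP hP' hJ in
theorem skew_fixG (hn : 3 ≤ n) (hm : 1 ≤ m) (g' : GL (Fin n) F) (τ : RingAut F)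
    (hy : ∀ S, (diagAut g' * fieldAut τ : MulAut PSL) (psiG g (spE g P P' s hP hP' hJ S)) =
      psiG g (spE g P P' s hP hP' hJ S)) : (diagAut g' * fieldAut τ : MulAut PSL) = 1 := by
  refine eq_one_of_eigen (by omega) g' τ fun v hv => ?_
  obtain ⟨a, ha⟩ : ∃ a, a = P' *ᵥ v := ⟨_, rfl⟩
  have hva : v = P *ᵥ a := by rw [ha, mulVec_mulVec, hP, one_mulVec]
  have ha0 : a ≠ 0 := fun h0 => hv (by rw [hva, h0, mulVec_zero])
  obtain ⟨c, hc⟩ := fix_semiL (hy (tv a 1))
  let φ : (Fin n → F) →ₗ[F] F :=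
    { toFun := fun x => SympGen.B (P' *ᵥ x) a
      map_add' := fun a b => by rw [mulVec_add, SympGen.B_add_left]
      map_smul' := fun a b => by rw [mulVec_smul, SympGen.B_smul_left, RingHom.id_apply, smul_eq_mul] }
  have hM : ∀ x, (P * (tv a (1 : F)).1 * P') *ᵥ x = x + φ x • v := fun x => by
    rw [← mulVec_mulVec, ← mulVec_mulVec, SympGen.tv_apply, one_mul, mulVec_add, mulVec_smul, mulVec_mulVec, hP,
      one_mulVec, ← hva]
    rfl
  refine RigidGen.eigen (by rw [Module.finrank_fin_fun]; exact hn) (sT_add _ τ) (sT_smul _ τ) (sT_inj g' τ) v φ ?_ c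
    fun x => ?_
  · obtain ⟨z, hz⟩ := SympTransvection.exists_dot_ne ha0
    exact ⟨P *ᵥ z, by show SympGen.B (P' *ᵥ (P *ᵥ z)) a ≠ 0; rw [mulVec_mulVec, hP', one_mulVec]; exact hz⟩
  · have := hc x
    change sT g'.1 τ ((P * (tv a (1 : F)).1 * P') *ᵥ x) = c • ((P * (tv a (1 : F)).1 * P') *ᵥ _) at this
    rwa [hM, hM] at this

end skew

theorem rigid_skewG [Fintype F] (r : ℕ) [Fact r.Prime] [CharP F r] (hn : 3 ≤ n) (h2 : (2 : F) ≠ 0)
    (hg : g.1ᵀ = -g.1) :
    CoreGen.Rigid 2 (γ g) ∧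
      2 ∣ Nat.card ↥(MonoidHom.eqLocus (γ g).toMonoidHom (MonoidHom.id PSL)) := by
  classical
  have hG : (g⁻¹).1ᵀ = -(g⁻¹).1 := by
    rw [g_inv_transpose g (ε := -1) (by rw [hg, neg_one_smul]) (by ring), neg_one_smul]
  obtain ⟨m, hm', P, P', s, hP, hP', hJ⟩ := PSLnGraph.exists_symp hG (PSLnGraph.skew_diag h2 hG)
    (PSLnGraph.det_gl_ne g⁻¹)
  rw [Fintype.card_fin] at hm'
  have hm : 2 ≤ m := by omega
  have hm1 : 1 ≤ m := by omega
  have h22 : m = 2 → 3 ≤ Fintype.card F := fun _ => by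
    have := Fintype.one_lt_card (α := F)
    by_contra h3
    exact h2 (by
      have h := FiniteField.cast_card_eq_zero F
      rwa [show Fintype.card F = 2 by omega] at h)
  have h2P := PSpAut.two_dvd_card hm h22 h2
  obtain ⟨ψ, hψ⟩ : ∃ ψ, ψ = psiS g P P' s hP hP' hJ hm1 := ⟨_, rfl⟩
  have hψmk : ∀ S, ψ (QuotientGroup.mk S) = psiG g (spE g P P' s hP hP' hJ S) := fun S => by rw [hψ]; rfl
  have hfix : ∀ a, γ g (ψ a) = ψ a := fun a => by
    obtain ⟨S, rfl⟩ := QuotientGroup.mk_surjective a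
    rw [hψmk]; exact psiG_fixed g (by omega) _
  have hψinj : Function.Injective ψ := by
    refine (injective_iff_map_eq_one _).mpr fun a ha => ?_
    obtain ⟨S, rfl⟩ := QuotientGroup.mk_surjective a
    rw [hψmk, center_spE g P P' s hP hP' hJ hm1] at ha
    exact (QuotientGroup.eq_one_iff S).mpr ha
  have hinj := conj_injective (F := F) (show 2 ≤ n by omega)
  refine ⟨?_, h2P.trans (Subgroup.card_dvd_of_injective (ψ.codRestrict _ hfix)
    fun a b hab => hψinj (congrArg Subtype.val hab))⟩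
  refine RigidGen.rigid_of hinj (Set.range ψ) (by rintro _ ⟨a, rfl⟩; exact hfix a) ?_ fun y _ hc hy => ?_
  swap
  · obtain ⟨g', τ, rfl⟩ := no_graph r (by omega) y hc
    exact skew_fixG g P P' s hP hP' hJ hn hm1 g' τ fun S => hy _ ⟨QuotientGroup.mk S, hψmk S⟩
  intro _ M hMx hMc hMn
  haveI : (M.comap ψ).Normal := ⟨fun x hx a => by
    rw [Subgroup.mem_comap, map_mul, map_mul, map_inv]
    exact hMn _ (hfix a) _ hx⟩
  have hbot : M.comap ψ = ⊥ := by
    haveI := SympSimple.simple (F := F) hm h22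
    refine (IsSimpleGroup.eq_bot_or_eq_top_of_normal _ inferInstance).resolve_right fun htop => ?_
    have hd := Subgroup.card_comap_dvd_of_injective M _ hψinj
    rw [htop, Subgroup.card_top] at hd
    exact Nat.prime_two.not_dvd_one (hMc ▸ Nat.dvd_gcd (h2P.trans hd) dvd_rfl)
  refine (Subgroup.eq_bot_iff_forall _).mpr fun x hx => ?_
  obtain ⟨R, hR⟩ := sq_memG g (by omega) (hMx x hx)
  have hRm : P' * R.1.1 * P ∈ Matrix.symplecticGroup (Fin m) F := by
    rw [SymplecticGroup.mem_iff', ← hJ, Matrix.mul_smul, Matrix.smul_mul]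
    congr 1
    calc _ = Pᵀ * (R.1.1ᵀ * ((P * P')ᵀ * (g⁻¹).1 * (P * P')) * R.1.1) * P := by
          simp only [transpose_mul, Matrix.mul_assoc]
      _ = _ := by
          rw [hP, transpose_one, Matrix.one_mul, Matrix.mul_one,
            show R.1.1ᵀ * (g⁻¹).1 * R.1.1 = (g⁻¹).1 from R.2]
  have hS : ψ (QuotientGroup.mk ⟨_, hRm⟩) = x * x := hinj (by
    rw [hψmk, conj_psiG, ← hR]
    refine congrArg diagAut (Units.ext ?_)
    show P * (P' * R.1.1 * P) * P' = R.1.1
    calc _ = (P * P') * R.1.1 * (P * P') := by simp only [Matrix.mul_assoc]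
      _ = _ := by rw [hP, Matrix.one_mul, Matrix.mul_one])
  have h1 : QuotientGroup.mk ⟨_, hRm⟩ ∈ M.comap ψ := by
    rw [Subgroup.mem_comap, hS]; exact M.mul_mem hx hx
  rw [hbot, Subgroup.mem_bot] at h1
  rw [h1, map_one, ← pow_two] at hS
  have hd : orderOf x ∣ Nat.card M := by
    rw [← Subgroup.orderOf_mk x hx]; exact orderOf_dvd_natCard _
  exact orderOf_eq_one_iff.mp (Nat.eq_one_of_dvd_coprimes hMc hd (orderOf_dvd_of_pow_eq_one hS.symm))

section symm

variable [Fintype F]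

theorem symm_fixG (hn : 3 ≤ n) (hs : ∀ x y, bilA (g⁻¹).1 x y = bilA (g⁻¹).1 y x)
    (hnd : ∀ x, (∀ y, bilA (g⁻¹).1 x y = 0) → x = 0) (h2 : (2 : F) ≠ 0) (g' : GL (Fin n) F) (τ : RingAut F)
    (hc : (orderOf (diagAut g' * fieldAut τ : MulAut PSL)).Coprime 2)
    (hy : ∀ R, (diagAut g' * fieldAut τ : MulAut PSL) (psiG g R) = psiG g R) :
    (diagAut g' * fieldAut τ : MulAut PSL) = 1 := by
  classical
  obtain ⟨T, hT⟩ : ∃ T, T = sT g'.1 τ := ⟨_, rfl⟩
  have Tadd : ∀ a b, T (a + b) = T a + T b := hT ▸ sT_add _ τ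
  have Tsmul : ∀ (a : F) v, T (a • v) = τ a • T v := hT ▸ sT_smul _ τ
  have Tinj : Function.Injective T := hT ▸ sT_inj g' τ
  have hfin : 3 ≤ Module.finrank F (Fin n → F) := by rw [Module.finrank_fin_fun]; exact hn
  set B := bilA (g⁻¹).1 with hB
  obtain ⟨j, hj⟩ : Odd (orderOf (diagAut g' * fieldAut τ : MulAut PSL)) := Nat.coprime_two_right.mp hc
  have hiter : ∀ i x, T^[i] x = tw τ g'.1 i *ᵥ fun l => (τ ^ i) (x l) := by
    intro i
    induction i with
    | zero => intro x; simp [tw]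
    | succ i ih =>
      intro x
      rw [Function.iterate_succ_apply', ih, hT, sT]
      show g'.1 *ᵥ _ = (g'.1 * (tw τ g'.1 i).map τ) *ᵥ _
      rw [← mulVec_mulVec]
      congr 1
      funext l
      refine (RingHom.map_mulVec (τ : F ≃+* F).toRingHom _ _ l).trans ?_
      congr 1
      funext r
      show τ ((τ ^ i) (x r)) = (τ ^ (i + 1)) (x r)
      rw [pow_succ', RingAut.mul_apply]
  obtain ⟨lam, hlam⟩ : ∃ lam : F, ∀ x, T^[2 * j + 1] x = lam • x := by
    obtain ⟨U, hU1, hU2⟩ := diag_field_pow τ g' (orderOf (diagAut g' * fieldAut τ : MulAut PSL))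
    rw [pow_orderOf_eq_one] at hU2
    obtain ⟨h1, μ, hμ⟩ := eq_one_imp (by omega) hU2.symm
    rw [hj] at hU1 h1
    refine ⟨μ, fun x => ?_⟩
    rw [hiter, h1, ← hU1, hμ, scalar_eq_smul, smul_mulVec, one_mulVec]
    rfl
  have comm : ∀ a b, B a a ≠ 0 → B b b ≠ 0 → B a b = 0 →
      ∀ x, T (OrthOdd.rf B a (OrthOdd.rf B b x)) = OrthOdd.rf B a (OrthOdd.rf B b (T x)) := by
    intro a b ha hb hab
    let R : ↥(Iso1 (g⁻¹).1) := ⟨_, rf_mem (g⁻¹).1 hs ha hb⟩
    obtain ⟨c, hc'⟩ := fix_semiL (hy R)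
    rw [← hT] at hc'
    obtain ⟨S, hS⟩ : ∃ S : (Fin n → F) ≃ₗ[F] (Fin n → F), S = OrthOdd.rf B a * OrthOdd.rf B b := ⟨_, rfl⟩
    have hSR : ∀ x, R.1.1 *ᵥ x = S x := fun x => by
      rw [hS, ← toE_apply, MulEquiv.apply_symm_apply]
    have hc'' : ∀ x, T (S x) = c • S (T x) := fun x => by
      rw [← hSR, ← hSR]; exact hc' x
    show ∀ x, T ((OrthOdd.rf B a * OrthOdd.rf B b) x) = (OrthOdd.rf B a * OrthOdd.rf B b) (T x)
    rw [← hS]
    have hinv : ∀ x, S (S x) = x := by
      intro x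
      have e : (OrthOdd.rf B a * OrthOdd.rf B b) * (OrthOdd.rf B a * OrthOdd.rf B b) = 1 := by
        have hcm : OrthOdd.rf B b * OrthOdd.rf B a * OrthOdd.rf B b = OrthOdd.rf B a := by
          have := OrthOdd.conj_rf B (OrthOdd.rf_isom B hs b) a
          rwa [OrthOdd.rf_inv, OrthOdd.rf_fix B hab] at this
        rw [mul_assoc, ← mul_assoc (OrthOdd.rf B b), hcm, OrthOdd.rf_sq]
      rw [hS]
      exact LinearEquiv.congr_fun e x
    haveI : Nonempty (Fin n) := ⟨⟨0, by omega⟩⟩
    obtain ⟨x, hx⟩ := exists_ne (0 : Fin n → F)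
    have T0 : T 0 = 0 := by simpa using Tsmul 0 0
    have hcc : c * c = 1 := by
      have hTx : T x ≠ 0 := fun h0 => hx (Tinj (h0.trans T0.symm))
      have e2 := hc'' (S x)
      rw [hinv, hc'' x, map_smul, smul_smul, hinv] at e2
      exact smul_left_injective F hTx (e2.symm.trans (one_smul F _).symm)
    have hτc : τ c = c := by
      rcases mul_self_eq_one_iff.mp hcc with h | h <;> simp [h]
    have hit : ∀ i x, T^[i] (S x) = c ^ i • S (T^[i] x) := by
      intro i
      induction i with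
      | zero => simp
      | succ i ih =>
        intro x
        rw [Function.iterate_succ_apply', ih, Tsmul, map_pow, hτc, hc'', smul_smul, ← pow_succ,
          Function.iterate_succ_apply']
    have hc1 : c = 1 := by
      have hl0 : lam ≠ 0 := fun h0 => hx (Tinj.iterate (2 * j + 1)
        (a₁ := x) (a₂ := 0) (by rw [hlam, hlam, h0, zero_smul, zero_smul]))
      have e2 := hit (2 * j + 1) (S x)
      rw [hinv, hlam, hlam, map_smul, hinv, smul_smul, pow_succ, pow_mul, pow_two, hcc, one_pow, one_mul] at e2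
      have e3 := smul_left_injective F hx e2
      exact mul_right_cancel₀ hl0 (e3.symm.trans (one_mul lam).symm)
    intro x
    rw [hc'' x, hc1, one_smul]
  -- anisotropic vectors are eigenvectors
  have eig : ∀ a, B a a ≠ 0 → ∃ μ : F, T a = μ • a := by
    intro a ha
    obtain ⟨b, hb, hba⟩ : ∃ b, B b b ≠ 0 ∧ B b a = 0 := by
      rcases OrthOdd.ani_or_span B hs hnd h2 ![a] with ⟨z, hz, hzv⟩ | h
      · exact ⟨z, hz, hzv 0⟩
      exfalso
      obtain ⟨z, hz0, hz⟩ := OrthOdd.exists_kernel B ![a] (by omega)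
      have hz' := h z hz
      rw [Matrix.range_cons, Matrix.range_empty, Set.union_empty, Submodule.mem_span_singleton] at hz'
      obtain ⟨r, rfl⟩ := hz'
      have : r * B a a = 0 := by simpa using hz 0
      exact hz0 (by rw [(mul_eq_zero.mp this).resolve_right ha, zero_smul])
    obtain ⟨d, hd, hda, hdb⟩ := OrthOdd.exists_ani₂ B hs hnd h2 (b := b) ha
      (Or.inl ⟨by rw [hs a b, hba, mul_zero, sub_zero]; exact mul_ne_zero ha hb, hfin⟩)
    have step : ∀ b, B b b ≠ 0 → B a b = 0 → ∃ α β : F, T a = α • a + β • b := by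
      intro b hb hab
      have e := comm a b ha hb hab a
      rw [OrthOdd.rf_fix B hab, OrthOdd.rf_self B ha,
        show T (-a) = -T a by rw [← neg_one_smul F a, Tsmul, map_neg, map_one, neg_one_smul]] at e
      obtain ⟨z, hz⟩ : ∃ z, z = T a := ⟨_, rfl⟩
      rw [← hz] at e ⊢
      simp only [OrthOdd.rf_apply, map_sub, map_smul, LinearMap.sub_apply, LinearMap.smul_apply, smul_eq_mul,
        (hs b a).trans hab, mul_zero, sub_zero] at e
      refine ⟨(2 : F)⁻¹ * (2 / B a a * B z a), (2 : F)⁻¹ * (2 / B b b * B z b), smul_right_injective _ h2 ?_⟩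
      show (2 : F) • z = (2 : F) • _
      simp only [smul_add, smul_smul, ← mul_assoc, mul_inv_cancel₀ h2, one_mul]
      linear_combination (norm := module) (-1 : F) • e
    obtain ⟨α, β, e1⟩ := step b hb ((hs a b).trans hba)
    obtain ⟨α', β', e2⟩ := step d hd ((hs a d).trans hda)
    have hβ : β = 0 := by
      have := congrArg (fun w => B w b) (e1.symm.trans e2)
      simp only [map_add, map_smul, LinearMap.add_apply, LinearMap.smul_apply, smul_eq_mul, hs a b, hba, hdb,
        mul_zero, zero_add, add_zero] at this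
      exact (mul_eq_zero.mp this).resolve_right hb
    exact ⟨α, by rw [e1, hβ, zero_smul, add_zero]⟩
  obtain ⟨a, ha⟩ := OrthOdd.exists_ani B hs hnd h2 (by omega)
  obtain ⟨μ, hμ⟩ := eig a ha
  -- the field automorphism is trivial
  have hτ : τ = 1 := by
    obtain ⟨b, hb, hba⟩ : ∃ b, B b b ≠ 0 ∧ B b a = 0 := by
      rcases OrthOdd.ani_or_span B hs hnd h2 ![a] with ⟨z, hz, hzv⟩ | h
      · exact ⟨z, hz, hzv 0⟩
      exfalso
      obtain ⟨z, hz0, hz⟩ := OrthOdd.exists_kernel B ![a] (by omega)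
      have hz' := h z hz
      rw [Matrix.range_cons, Matrix.range_empty, Set.union_empty, Submodule.mem_span_singleton] at hz'
      obtain ⟨r, rfl⟩ := hz'
      have : r * B a a = 0 := by simpa using hz 0
      exact hz0 (by rw [(mul_eq_zero.mp this).resolve_right ha, zero_smul])
    obtain ⟨ν, hν⟩ := eig b hb
    let S₀ : Finset F := Finset.univ.filter fun s => s ≠ 0 ∧ B a a + s * s * B b b ≠ 0
    have hrel : ∀ s ∈ S₀, τ s * ν = μ * s := by
      intro s hs'
      obtain ⟨hs0, hsQ⟩ := (Finset.mem_filter.mp hs').2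
      obtain ⟨ρ', hρ⟩ := eig (a + s • b) (by
        simp only [map_add, map_smul, LinearMap.add_apply, LinearMap.smul_apply, smul_eq_mul, hs a b, hba, mul_zero,
          add_zero, zero_add, ← mul_assoc]
        exact hsQ)
      rw [Tadd, Tsmul, hμ, hν] at hρ
      have e1 := congrArg (fun w => B w a) hρ
      have e2 := congrArg (fun w => B w b) hρ
      simp only [map_add, map_smul, LinearMap.add_apply, LinearMap.smul_apply, smul_eq_mul, hs a b, hba, mul_zero,
        zero_add, add_zero] at e1 e2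
      have hμρ : μ = ρ' := mul_right_cancel₀ ha e1
      rw [← hμρ] at e2
      exact mul_right_cancel₀ hb (by linear_combination e2)
    have hbig : Fintype.card F ≤ S₀.card + 3 := by
      by_cases hw : ∃ w, w ≠ 0 ∧ B a a + w * w * B b b = 0
      · obtain ⟨w, -, hw⟩ := hw
        have hsub : (Finset.univ : Finset F) ⊆ S₀ ∪ ({0, w, -w} : Finset F) := fun s _ => by
          by_cases hs' : s ∈ S₀
          · exact Finset.mem_union_left _ hs'
          refine Finset.mem_union_right _ ?_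
          simp only [S₀, Finset.mem_filter, Finset.mem_univ, true_and, not_and_or, not_not] at hs'
          rcases hs' with h0 | hQ
          · simp [h0]
          · have : (s - w) * (s + w) = 0 := mul_left_cancel₀ hb (by rw [mul_zero]; linear_combination hQ - hw)
            rcases mul_eq_zero.mp this with h | h
            · simp [sub_eq_zero.mp h]
            · simp [eq_neg_of_add_eq_zero_left h]
        have := (Finset.card_le_card hsub).trans (Finset.card_union_le _ _)
        have := Finset.card_le_three (a := (0 : F)) (b := w) (c := -w)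
        rw [Finset.card_univ] at *
        omega
      · push Not at hw
        have hsub : (Finset.univ : Finset F) ⊆ insert 0 S₀ := fun s _ => by
          rcases eq_or_ne s 0 with rfl | h0
          · simp
          · exact Finset.mem_insert_of_mem (Finset.mem_filter.mpr ⟨Finset.mem_univ _, h0, hw s h0⟩)
        have := (Finset.card_le_card hsub).trans (Finset.card_insert_le _ _)
        rw [Finset.card_univ] at this
        omega
    have hodd : Odd (Fintype.card F) := Nat.odd_iff.mpr <| FiniteField.odd_card_of_char_ne_two fun hc2 => h2 (by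
      haveI : CharP F 2 := hc2 ▸ ringChar.charP F
      exact_mod_cast CharP.cast_eq_zero F 2)
    have hne1 : 1 < Fintype.card F := Fintype.one_lt_card
    have hf : (τ : F ≃+* F).toRingHom = RingHom.id F := by
      rcases S₀.eq_empty_or_nonempty with hS | ⟨s₀, hs₀⟩
      · refine RigidGen.hom_eq _ _ {1} (fun s h1 => ?_) (by simp) ?_
        · rw [Finset.mem_singleton.mp h1]; simp
        · rw [hS, Finset.card_empty] at hbig
          rw [Finset.card_singleton]
          norm_num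
          omega
      · have hs00 : s₀ ≠ 0 := (Finset.mem_filter.mp hs₀).2.1
        have hν0 : ν ≠ 0 := by
          intro h0
          rw [h0, zero_smul] at hν
          exact hb (by simp [Tinj (hν.trans (by simpa using (Tsmul 0 0).symm : (0 : Fin n → F) = T 0))])
        refine RigidGen.hom_eq _ _ (S₀.image fun s => s / s₀) (fun z hz => ?_) ?_ ?_
        · obtain ⟨s, hs', rfl⟩ := Finset.mem_image.mp hz
          show τ (s / s₀) = s / s₀
          have h1 := hrel s hs'
          have h2' := hrel s₀ hs₀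
          have hτ0 : τ s₀ ≠ 0 := by simpa using hs00
          rw [map_div₀, div_eq_div_iff hτ0 hs00]
          refine mul_right_cancel₀ hν0 ?_
          linear_combination s₀ * h1 - s * h2'
        · intro h
          obtain ⟨s, hs', h0⟩ := Finset.mem_image.mp h
          exact (Finset.mem_filter.mp hs').2.1 ((div_eq_zero_iff.mp h0).resolve_right hs00)
        · have hinj' : Function.Injective fun s : F => s / s₀ := fun x y h => by
            simpa [div_left_inj' hs00] using h
          rw [Finset.card_image_of_injective _ hinj']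
          have h3 : 1 ≤ S₀.card := Finset.card_pos.mpr ⟨s₀, hs₀⟩
          obtain ⟨r, hr⟩ := hodd
          rw [pow_two]
          rcases Nat.lt_or_ge S₀.card 2 with h4 | h4
          · rw [show S₀.card = 1 by omega]
            omega
          · nlinarith
    exact RingEquiv.ext fun z => RingHom.congr_fun hf z
  subst hτ
  have hTlin : ∀ x, T x = g'.1 *ᵥ x := fun x => by rw [hT]; rfl
  obtain ⟨c, hc'⟩ := OrthOdd.scalar_of_ani B hs hnd h2 hfin g'.1.mulVecLin fun u hu => by
    obtain ⟨ν, hν⟩ := eig u hu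
    exact ⟨ν, by rw [Matrix.mulVecLin_apply, ← hTlin, hν]⟩
  rw [map_one, mul_one]
  refine diagAut_scalar g' c ?_
  rw [scalar_eq_smul]
  exact Matrix.ext_of_mulVec_single fun i => by rw [← Matrix.mulVecLin_apply, hc', smul_mulVec, one_mulVec]

theorem rigid_symmG (r : ℕ) [Fact r.Prime] [CharP F r] (hn : 3 ≤ n) (h2 : (2 : F) ≠ 0) (hg : g.1ᵀ = g.1) :
    CoreGen.Rigid 2 (γ g) ∧
      2 ∣ Nat.card ↥(MonoidHom.eqLocus (γ g).toMonoidHom (MonoidHom.id PSL)) := by
  classical
  have hinj := conj_injective (F := F) (show 2 ≤ n by omega)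
  have hG : (g⁻¹).1ᵀ = (g⁻¹).1 := by
    rw [g_inv_transpose g (ε := 1) (by rw [hg, one_smul]) (by ring), one_smul]
  set B := bilA (g⁻¹).1 with hB
  have hs : ∀ x y, B x y = B y x := fun x y => by
    rw [hB, Matrix.toLinearMap₂'_apply', Matrix.toLinearMap₂'_apply', dotProduct_mulVec, dotProduct_comm,
      ← mulVec_transpose, hG]
  have hnd : ∀ x, (∀ y, B x y = 0) → x = 0 := fun x hx => by
    refine Matrix.eq_zero_of_vecMul_eq_zero (PSLnGraph.det_gl_ne g⁻¹) (funext fun l => ?_)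
    have := hx (Pi.single l 1)
    rwa [hB, Matrix.toLinearMap₂'_apply', dotProduct_mulVec, dotProduct_single_one] at this
  have hfin : 3 ≤ Module.finrank F (Fin n → F) := by rw [Module.finrank_fin_fun]; exact hn
  constructor
  · refine RigidGen.rigid_of hinj (Set.range (psiG g))
      (by rintro _ ⟨R, rfl⟩; exact psiG_fixed g (by omega) R) ?_ fun y _ hc hy => ?_
    swap
    · obtain ⟨g', τ, rfl⟩ := no_graph r (by omega) y hc
      exact symm_fixG g hn hs hnd h2 g' τ hc fun R => hy _ ⟨R, rfl⟩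
    intro _ M hMx hMc hMn
    let P₀ : Subgroup ↥(Iso (g⁻¹).1) :=
      (M.map (MulAut.conj : PSL →* _)).comap ((diagAut : GL (Fin n) F →* MulAut PSL).comp (Iso (g⁻¹).1).subtype)
    let P : Subgroup ((Fin n → F) ≃ₗ[F] (Fin n → F)) :=
      (P₀.map (Iso (g⁻¹).1).subtype).map (toE (F₀ := F) (κ := Fin n)).toMonoidHom
    have hP : ∀ m, m ∈ P ↔ ∃ R : ↥(Iso (g⁻¹).1), toE R.1 = m ∧ ∃ x ∈ M, MulAut.conj x = diagAut R.1 := by
      intro m
      constructor
      · rintro ⟨_, ⟨R, hR, rfl⟩, rfl⟩; exact ⟨R, rfl, hR⟩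
      · rintro ⟨R, rfl, hR⟩; exact ⟨_, ⟨R, hR, rfl⟩, rfl⟩
    have good : OrthOdd.Good B P := by
      refine ⟨fun m hm => ?_, fun m hm => ?_, fun a b ha hb m hm => ?_⟩
      · obtain ⟨R, rfl, -⟩ := (hP m).mp hm
        exact (mem_Iso_iff (g⁻¹).1 R.1).mp R.2
      · obtain ⟨R, rfl, x, hx, hxR⟩ := (hP m).mp hm
        obtain ⟨j, hj⟩ : Odd (orderOf x) := by
          rw [← Nat.coprime_two_right]
          refine Nat.Coprime.coprime_dvd_left ?_ hMc
          rw [← Subgroup.orderOf_mk x hx]; exact orderOf_dvd_natCard _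
        obtain ⟨-, c, hcR⟩ := eq_one_imp (show 2 ≤ n by omega) (g := R.1 ^ (2 * j + 1)) (e := 1) (by
          rw [map_one, mul_one, map_pow, ← hxR, ← map_pow, ← hj, pow_orderOf_eq_one, map_one])
        refine ⟨j, c, fun v => ?_⟩
        rw [← map_pow, toE_apply, hcR, scalar_eq_smul, smul_mulVec, one_mulVec]
      · obtain ⟨R, rfl, x, hx, hxR⟩ := (hP m).mp hm
        let R₀ : ↥(Iso1 (g⁻¹).1) := ⟨_, rf_mem (g⁻¹).1 hs ha hb⟩
        refine (hP _).mpr ⟨⟨R₀.1, (Subgroup.mem_inf.mp R₀.2).1⟩ * R * (⟨R₀.1, (Subgroup.mem_inf.mp R₀.2).1⟩)⁻¹, ?_,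
          psiG g R₀ * x * (psiG g R₀)⁻¹, hMn _ (psiG_fixed g (by omega) R₀) x hx, ?_⟩
        · simp only [R₀, Subgroup.coe_mul, Subgroup.coe_inv, map_mul, map_inv, MulEquiv.apply_symm_apply]
          rfl
        · simp only [Subgroup.coe_mul, Subgroup.coe_inv, map_mul, map_inv, conj_psiG, hxR]
    refine (Subgroup.eq_bot_iff_forall _).mpr fun x hx => ?_
    obtain ⟨R, hR⟩ := sq_memG g (by omega) (hMx x hx)
    obtain ⟨c, hc⟩ := OrthOdd.odd_scalar B hs hnd h2 good hfin
      ((hP _).mpr ⟨R, rfl, x * x, M.mul_mem hx hx, hR.symm⟩)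
    have hR1 : diagAut R.1 = (1 : MulAut PSL) := by
      refine diagAut_scalar _ c ?_
      rw [scalar_eq_smul]
      exact Matrix.ext_of_mulVec_single fun i => by rw [← toE_apply, hc, smul_mulVec, one_mulVec]
    have h1 : x * x = 1 := hinj (hR.symm.trans (hR1.trans (map_one _).symm))
    have hd : orderOf x ∣ Nat.card M := by
      rw [← Subgroup.orderOf_mk x hx]; exact orderOf_dvd_natCard _
    exact orderOf_eq_one_iff.mp (Nat.eq_one_of_dvd_coprimes hMc hd
      (orderOf_dvd_of_pow_eq_one (by rw [pow_two, h1])))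
  · obtain ⟨a, ha⟩ := OrthOdd.exists_ani B hs hnd h2 (by omega)
    obtain ⟨b, hb, hba⟩ : ∃ b, B b b ≠ 0 ∧ B b a = 0 := by
      rcases OrthOdd.ani_or_span B hs hnd h2 ![a] with ⟨z, hz, hzv⟩ | h
      · exact ⟨z, hz, hzv 0⟩
      exfalso
      obtain ⟨z, hz0, hz⟩ := OrthOdd.exists_kernel B ![a] (by omega)
      have hz' := h z hz
      rw [Matrix.range_cons, Matrix.range_empty, Set.union_empty, Submodule.mem_span_singleton] at hz'
      obtain ⟨r, rfl⟩ := hz'
      have : r * B a a = 0 := by simpa using hz 0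
      exact hz0 (by rw [(mul_eq_zero.mp this).resolve_right ha, zero_smul])
    obtain ⟨c, hc, hca, hcb⟩ := OrthOdd.exists_ani₂ B hs hnd h2 (b := b) ha
      (Or.inl ⟨by rw [hs a b, hba, mul_zero, sub_zero]; exact mul_ne_zero ha hb, hfin⟩)
    have hab : B a b = 0 := (hs a b).trans hba
    let R₀ : ↥(Iso1 (g⁻¹).1) := ⟨_, rf_mem (g⁻¹).1 hs ha hb⟩
    let z : ↥(MonoidHom.eqLocus (γ g).toMonoidHom (MonoidHom.id PSL)) :=
      ⟨psiG g R₀, psiG_fixed g (by omega) R₀⟩
    have hsq : R₀ * R₀ = 1 := by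
      refine Subtype.ext ?_
      show toE.symm _ * toE.symm _ = 1
      rw [← map_mul]
      refine (MulEquiv.map_eq_one_iff _).mpr ?_
      have hcm : OrthOdd.rf B b * OrthOdd.rf B a * OrthOdd.rf B b = OrthOdd.rf B a := by
        have := OrthOdd.conj_rf B (OrthOdd.rf_isom B hs b) a
        rwa [OrthOdd.rf_inv, OrthOdd.rf_fix B hab] at this
      rw [mul_assoc, ← mul_assoc (OrthOdd.rf B b), hcm, OrthOdd.rf_sq]
    have hz2 : z ^ 2 = 1 := Subtype.ext (by
      show (psiG g R₀) ^ 2 = 1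
      rw [← map_pow, pow_two, hsq, map_one])
    have hz1 : z ≠ 1 := fun h1 => by
      obtain ⟨r, hr⟩ := (mk_eq_one_iff _).mp (show psiG g R₀ = 1 from congrArg Subtype.val h1)
      have ea : R₀.1.1 *ᵥ a = -a := by
        rw [← toE_apply, MulEquiv.apply_symm_apply, LinearEquiv.mul_apply, OrthOdd.rf_fix B hab, OrthOdd.rf_self B ha]
      have ec : R₀.1.1 *ᵥ c = c := by
        rw [← toE_apply, MulEquiv.apply_symm_apply, LinearEquiv.mul_apply, OrthOdd.rf_fix B hcb, OrthOdd.rf_fix B hca]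
      rw [show R₀.1.1 = r • 1 from hr, smul_mulVec, one_mulVec] at ea ec
      have hc0 : c ≠ 0 := fun h0 => hc (by simp [h0])
      have ha0 : a ≠ 0 := fun h0 => ha (by simp [h0])
      have hr1 : r = 1 := smul_left_injective F hc0 (ec.trans (one_smul F c).symm)
      rw [hr1, one_smul, eq_neg_iff_add_eq_zero, ← two_smul F, smul_eq_zero] at ea
      exact ea.elim h2 ha0
    rw [← orderOf_eq_prime hz2 hz1]
    exact orderOf_dvd_natCard z

end symm

end Graph

end CfsgLib.PSLRigid
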