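import Cfsg.Agent.Lib.PolarAut.PSUField
import Cfsg.Agent.Lib.PolarAut.RigidGen
import Cfsg.Agent.Lib.UnitaryOrder

/-!
Field automorphisms of odd order of `PSU_n(q)` are rigid.
-/

set_option autoImplicit false

namespace CfsgLib.PSURigid

open Matrix CfsgLib.UnitaryTransvection CfsgLib.UnitarySimple CfsgLib.PSUGraph CfsgLib.PolarAut
open scoped MatrixGroups

variable {F : Type*} [Field F] [Fintype F] {n q : ℕ} (hF : Fintype.card F = q ^ 2)

/-- The semilinear map of a matrix and a field automorphism. -/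
def sT (g : Matrix (Fin n) (Fin n) F) (τ : RingAut F) (v : Fin n → F) : Fin n → F := g *ᵥ fun i => τ (v i)

omit [Fintype F] in
theorem sT_add (g : Matrix (Fin n) (Fin n) F) (τ : RingAut F) (a b : Fin n → F) :
    sT g τ (a + b) = sT g τ a + sT g τ b := by
  simp only [sT, ← mulVec_add]; congr 1; funext i; simp

omit [Fintype F] in
theorem sT_smul (g : Matrix (Fin n) (Fin n) F) (τ : RingAut F) (a : F) (v : Fin n → F) :
    sT g τ (a • v) = τ a • sT g τ v := by
  simp only [sT, ← mulVec_smul]; congr 1; funext i; simp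

omit [Fintype F] in
theorem sT_inj (g : GL (Fin n) F) (τ : RingAut F) : Function.Injective (sT g.1 τ) := fun u v h => by
  funext i
  exact τ.injective (congrFun (Matrix.mulVec_injective_of_isUnit g.isUnit h) i)

include hF in
theorem conj_injective (hn : 3 ≤ n) (h32 : ¬ (n = 3 ∧ q = 2)) :
    Function.Injective (MulAut.conj : Cfsg.PSU n F q → MulAut (Cfsg.PSU n F q)) := by
  refine (injective_iff_map_eq_one _).mpr fun a ha => ?_
  obtain ⟨s, rfl⟩ := QuotientGroup.mk_surjective a
  rw [← ρ_toGL hF] at ha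
  obtain ⟨-, μ, hμ⟩ := conj_field_one hF hn h32 ⟨_, GU_le_GS hF (toGL_mem hF s)⟩ 1
    (by rw [map_one, mul_one]; exact ha)
  rw [QuotientGroup.eq_one_iff]
  refine central_of_scalar s (c := (μ : F)) fun x => ?_
  rw [show mat s = (μ : F) • (1 : Matrix (Fin n) (Fin n) F) from
    (congrArg Units.val hμ).trans (scal_val μ), Matrix.smul_mulVec, Matrix.one_mulVec]

/-- An element fixed by a semilinear automorphism commutes with the semilinear map up to a scalar. -/
theorem fix_semi (hn : 3 ≤ n) {g : ↥(GS hF n)} {τ : RingAut F} {s : Cfsg.SU n F q}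
    (h : (conjP hF g * fieldP hF τ : MulAut (Cfsg.PSU n F q)) (QuotientGroup.mk s) = QuotientGroup.mk s) :
    ∃ c : F, ∀ x, sT g.1.1 τ (mat s *ᵥ x) = c • (mat s *ᵥ sT g.1.1 τ x) := by
  have hc := QuotientGroup.eq.mp h.symm
  obtain ⟨c, hc⟩ := scalar_of_central' hF hn _ hc
  refine ⟨c, fun x => ?_⟩
  obtain ⟨s', hs'⟩ : ∃ s', s' = conjSU hF g (fieldSU hF τ s) := ⟨_, rfl⟩
  have hc' : ∀ y, mat (s⁻¹ * s') *ᵥ y = c • y := by rw [hs']; exact hc
  have e : mat s' *ᵥ sT g.1.1 τ x = c • (mat s *ᵥ sT g.1.1 τ x) := by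
    rw [show mat s' = mat s * mat (s⁻¹ * s') by rw [← mat_mul, mul_inv_cancel_left], ← mulVec_mulVec, hc',
      mulVec_smul]
  rw [← e, hs']
  show g.1.1 *ᵥ _ = (g.1.1 * (mat s).map τ * (g.1⁻¹).1) *ᵥ (g.1.1 *ᵥ _)
  rw [mulVec_mulVec, Matrix.mul_assoc _ (g.1⁻¹).1, Units.inv_mul, Matrix.mul_one, ← mulVec_mulVec]
  congr 1
  exact funext fun i => RingHom.map_mulVec (τ : F ≃+* F).toRingHom (mat s) x i

omit [Fintype F] in
theorem map_single {F₀ : Type*} [Field F₀] (ι : F₀ →+* F) (i : Fin n) :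
    (fun l => ι ((Pi.single i (1 : F₀) : Fin n → F₀) l)) = (Pi.single i 1 : Fin n → F) := by
  funext l; by_cases hl : l = i <;> simp [Pi.single_apply, hl]

section Emb

variable {F₀ : Type*} [Field F₀] [Fintype F₀] {ι : F₀ →+* F} {q₀ : ℕ} (hF₀ : Fintype.card F₀ = q₀ ^ 2)
variable (hfr : ∀ x, fr hF (ι x) = ι (fr hF₀ x))

/-- Special unitary matrices over the subfield. -/
noncomputable def inclS (hfr : ∀ x, fr hF (ι x) = ι (fr hF₀ x)) : Cfsg.SU n F₀ q₀ →* Cfsg.SU n F q where
  toFun s := suOf hF ((mat s).map ι)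
    (by rw [map_ι_fr hF hF₀ hfr, ← transpose_map, ← Matrix.map_mul, su_unit hF₀,
      Matrix.map_one _ (map_zero ι) (map_one ι)])
    (by rw [show (mat s).map ι = ι.mapMatrix (mat s) from rfl, ← RingHom.map_det,
      show (mat s).det = 1 from s.1.2, map_one])
  map_one' := su_eq (by rw [mat_suOf, mat_one, mat_one, Matrix.map_one _ (map_zero ι) (map_one ι)])
  map_mul' s t := su_eq (by rw [mat_suOf, mat_mul, mat_mul, Matrix.map_mul]; rfl)

theorem inclS_mat (s : Cfsg.SU n F₀ q₀) : mat (inclS hF hF₀ hfr s) = (mat s).map ι := rfl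

theorem inclS_center (hn : 3 ≤ n) (s : Cfsg.SU n F₀ q₀) :
    inclS hF hF₀ hfr s ∈ Subgroup.center (Cfsg.SU n F q) ↔ s ∈ Subgroup.center (Cfsg.SU n F₀ q₀) := by
  constructor
  · intro h
    obtain ⟨c, hc⟩ := scalar_of_central' hF hn _ h
    let i₀ : Fin n := ⟨0, by omega⟩
    have e : ∀ i j, ι (mat s i j) = if i = j then c else 0 := fun i j => by
      have := congrFun (hc (Pi.single j 1)) i
      rw [inclS_mat] at this
      simpa [Pi.single_apply] using this
    refine central_of_scalar s (c := mat s i₀ i₀) fun x => ?_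
    rw [show mat s = mat s i₀ i₀ • (1 : Matrix (Fin n) (Fin n) F₀) from Matrix.ext fun i j => ι.injective (by
      rw [Matrix.smul_apply, smul_eq_mul, map_mul, e i j, e i₀ i₀]
      rcases eq_or_ne i j with rfl | hij <;> simp [*, Matrix.one_apply]), Matrix.smul_mulVec, Matrix.one_mulVec]
    simp
  · intro h
    obtain ⟨c, hc⟩ := scalar_of_central' hF₀ hn _ h
    refine central_of_scalar _ (c := ι c) fun x => ?_
    rw [inclS_mat, show mat s = c • (1 : Matrix (Fin n) (Fin n) F₀) from Matrix.ext_of_mulVec_single fun j => by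
      rw [hc, Matrix.smul_mulVec, Matrix.one_mulVec], FieldGen.map_smul_hom,
      Matrix.map_one _ (map_zero ι) (map_one ι), Matrix.smul_mulVec, Matrix.one_mulVec]

/-- The small group inside the big one. -/
noncomputable def psi (hfr : ∀ x, fr hF (ι x) = ι (fr hF₀ x)) (hn : 3 ≤ n) :
    Cfsg.PSU n F₀ q₀ →* Cfsg.PSU n F q :=
  QuotientGroup.lift _ ((QuotientGroup.mk' _).comp (inclS hF hF₀ hfr)) fun s hs => by
    rw [MonoidHom.mem_ker, MonoidHom.comp_apply, QuotientGroup.mk'_apply, QuotientGroup.eq_one_iff]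
    exact (inclS_center hF hF₀ hfr hn s).mpr hs

theorem psi_mk (hn : 3 ≤ n) (s : Cfsg.SU n F₀ q₀) :
    psi hF hF₀ hfr hn (QuotientGroup.mk s) = QuotientGroup.mk (inclS hF hF₀ hfr s) := rfl

theorem psi_inj (hn : 3 ≤ n) : Function.Injective (psi hF hF₀ hfr hn) := by
  refine (injective_iff_map_eq_one _).mpr fun a ha => ?_
  obtain ⟨s, rfl⟩ := QuotientGroup.mk_surjective a
  rw [psi_mk, QuotientGroup.eq_one_iff, inclS_center hF hF₀ hfr hn] at ha
  exact (QuotientGroup.eq_one_iff s).mpr ha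

theorem psi_fixed (hn : 3 ≤ n) {σ : RingAut F} (hι : ∀ y, σ y = y ↔ y ∈ ι.range) (a : Cfsg.PSU n F₀ q₀) :
    fieldP hF σ (psi hF hF₀ hfr hn a) = psi hF hF₀ hfr hn a := by
  obtain ⟨s, rfl⟩ := QuotientGroup.mk_surjective a
  rw [psi_mk, fieldP_mk]
  congr 1
  exact su_eq (Matrix.ext fun i j => (hι _).mpr ⟨mat s i j, rfl⟩)

/-- Conjugation by a unitary matrix over the subfield. -/
noncomputable def phi (hfr : ∀ x, fr hF (ι x) = ι (fr hF₀ x)) :
    ↥(Cfsg.GU n F₀ q₀) →* MulAut (Cfsg.PSU n F q) := (ρ hF).comp (inclU hF hF₀ hfr)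

theorem phi_toGL (hn : 3 ≤ n) (s : Cfsg.SU n F₀ q₀) :
    phi hF hF₀ hfr ⟨SpecialLinearGroup.toGL s.1, toGL_mem hF₀ s⟩ =
      MulAut.conj (psi hF hF₀ hfr hn (QuotientGroup.mk s)) := by
  rw [psi_mk, ← ρ_toGL hF]
  exact congrArg (ρ hF) (Subtype.ext (Units.ext rfl))

include hF₀ hfr in
theorem fix_mem_range (hn : 3 ≤ n) (h32 : ¬ (n = 3 ∧ q = 2)) {σ : RingAut F}
    (hι : ∀ y, σ y = y ↔ y ∈ ι.range) {k : Cfsg.PSU n F q} (hk : fieldP hF σ k = k) :
    ∃ y, phi hF hF₀ hfr y = MulAut.conj k := by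
  have hcomm : Commute (MulAut.conj k) (fieldP hF σ : MulAut (Cfsg.PSU n F q)) := by
    rw [commute_iff_eq, CoreGen.mul_conj, hk]
  obtain ⟨s, rfl⟩ := QuotientGroup.mk_surjective k
  rw [← ρ_toGL hF] at hcomm ⊢
  obtain ⟨u, hu⟩ := (commute_iffP hF hn h32 σ ⟨_, GU_le_GS hF (toGL_mem hF s)⟩).mp hcomm
  obtain ⟨v, y, hy⟩ := exists_descendU hF hF₀ hfr hι (by omega) hu
  refine ⟨y, ?_⟩
  show conjP hF _ = conjP hF _
  rw [conjP_eq_iff hF hn h32]
  exact ⟨v, (congrArg Units.val hy).trans (scal_mul_val v _)⟩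

include hF₀ in
/-- An odd prime divisor of the order of the small unitary group divides that of the simple one. -/
theorem dvd_card_psu (hn : 3 ≤ n) {p : ℕ} [hp : Fact p.Prime] (h : p ∣ Nat.card ↥(Cfsg.GU n F₀ q₀)) :
    p ∣ Nat.card (Cfsg.PSU n F₀ q₀) := by
  classical
  by_cases hq : p ∣ q₀ + 1
  · obtain ⟨u, hu⟩ := exists_prime_orderOf_dvd_card' p (show p ∣ Nat.card ↥(U1 hF₀) by rw [card_U1]; exact hq)
    let i₀ : Fin n := ⟨0, by omega⟩
    let i₁ : Fin n := ⟨1, by omega⟩
    let i₂ : Fin n := ⟨2, by omega⟩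
    let d : Fin n → F₀ˣ := Function.update (Function.update 1 i₀ u.1) i₁ u.1⁻¹
    have hd : ∀ i, fr hF₀ (d i : F₀) * d i = 1 := fun i => by
      rcases eq_or_ne i i₁ with rfl | h1
      · simp only [d, Function.update_self]
        rw [Units.val_inv_eq_inv_val, map_inv₀, ← mul_inv, mul_comm, (mem_U1 hF₀).mp u.2, inv_one]
      · rcases eq_or_ne i i₀ with rfl | h0
        · simp only [d, Function.update_of_ne h1, Function.update_self]
          rw [mul_comm, (mem_U1 hF₀).mp u.2]
        · simp [d, Function.update_of_ne h1, Function.update_of_ne h0]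
    let D : Fin n → F₀ := fun i => (d i : F₀)
    let s : Cfsg.SU n F₀ q₀ := suOf hF₀ (diagonal D)
      (by rw [diagonal_map (map_zero _), diagonal_transpose, diagonal_mul_diagonal, ← diagonal_one]
          exact congrArg _ (funext hd))
      (by rw [det_diagonal, ← Units.coe_prod, Finset.prod_update_of_mem (Finset.mem_univ _),
            Finset.prod_update_of_mem (by simp [i₀, i₁])]
          simp)
    have hpow : ∀ k, mat (s ^ k) = diagonal fun i => D i ^ k := fun k => by
      induction k with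
      | zero => simp [mat_one]
      | succ k ih =>
        rw [pow_succ, mat_mul, ih, mat_suOf, diagonal_mul_diagonal]
        exact congrArg _ (funext fun i => (pow_succ _ _).symm)
    let z : Cfsg.PSU n F₀ q₀ := QuotientGroup.mk s
    have hz : z ^ p = 1 := by
      show ((QuotientGroup.mk s : Cfsg.PSU n F₀ q₀)) ^ p = 1
      rw [← QuotientGroup.mk_pow, show s ^ p = 1 from su_eq ?_]
      · rfl
      rw [hpow, mat_one, ← diagonal_one]
      refine congrArg _ (funext fun i => ?_)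
      have hu1 : u.1 ^ p = 1 := by rw [← Subgroup.coe_pow, ← hu, pow_orderOf_eq_one]; rfl
      show ((d i : F₀)) ^ p = 1
      rw [← Units.val_pow_eq_pow_val]
      rcases eq_or_ne i i₁ with rfl | h1
      · simp [d, hu1]
      · rcases eq_or_ne i i₀ with rfl | h0
        · simp [d, Function.update_of_ne h1, hu1]
        · simp [d, Function.update_of_ne h1, Function.update_of_ne h0]
    have hz1 : z ≠ 1 := fun h1 => by
      obtain ⟨c, hc⟩ := scalar_of_central' hF₀ hn s ((QuotientGroup.eq_one_iff s).mp h1)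
      have e0 := congrFun (hc (Pi.single i₀ 1)) i₀
      have e2 := congrFun (hc (Pi.single i₂ 1)) i₂
      simp [s, mat_suOf, D, d, i₀, i₁, i₂] at e0 e2
      have hu1 : u = 1 := Subtype.ext (Units.ext (e0.trans e2.symm))
      rw [hu1, orderOf_one] at hu
      exact hp.out.ne_one hu.symm
    rw [← orderOf_eq_prime hz hz1]
    exact orderOf_dvd_natCard z
  · rw [UnitaryOrder.card_GU_eq hF₀ (by omega)] at h
    have hSU := ((Nat.Prime.dvd_mul hp.out).mp h).resolve_left hq
    rw [Subgroup.card_eq_card_quotient_mul_card_subgroup (Subgroup.center (Cfsg.SU n F₀ q₀))] at hSU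
    refine ((Nat.Prime.dvd_mul hp.out).mp hSU).resolve_right fun hz => hq ?_
    obtain ⟨z, hz⟩ := exists_prime_orderOf_dvd_card' p hz
    obtain ⟨c, hc⟩ := scalar_of_central' hF₀ hn z.1 z.2
    have hm : mat z.1 = c • (1 : Matrix (Fin n) (Fin n) F₀) := Matrix.ext_of_mulVec_single fun j => by
      rw [hc, Matrix.smul_mulVec, Matrix.one_mulVec]
    have hn0 : c * fr hF₀ c = 1 := by
      have e := su_unit hF₀ z.1
      rw [hm, map_smul_fr, Matrix.map_one _ (map_zero _) (map_one _), transpose_smul, transpose_one,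
        Matrix.smul_mul, Matrix.one_mul, smul_smul] at e
      have := congrFun (congrFun e ⟨0, by omega⟩) ⟨0, by omega⟩
      rw [mul_comm]; simpa using this
    let w : ↥(U1 hF₀) := ⟨Units.mk0 c (left_ne_zero_of_mul_eq_one hn0), (mem_U1 hF₀).mpr hn0⟩
    have hpow : ∀ k, mat (z.1 ^ k) = c ^ k • (1 : Matrix (Fin n) (Fin n) F₀) := fun k => by
      induction k with
      | zero => simp [mat_one]
      | succ k ih => rw [pow_succ, mat_mul, ih, hm, Matrix.smul_mul, Matrix.one_mul, smul_smul, pow_succ]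
    have hw : orderOf w = orderOf z := by
      refine orderOf_eq_orderOf_iff.mpr fun k => ?_
      constructor
      · intro e
        refine Subtype.ext (su_eq ?_)
        rw [Subgroup.coe_pow, hpow, show c ^ k = 1 from congrArg (fun a : ↥(U1 hF₀) => ((a.1 : F₀ˣ) : F₀)) e,
          one_smul]
        rfl
      · intro e
        refine Subtype.ext (Units.ext ?_)
        show ((w.1 ^ k : F₀ˣ) : F₀) = 1
        rw [Units.val_pow_eq_pow_val]
        show c ^ k = 1
        have := congrFun (congrFun (congrArg (fun a : ↥(Subgroup.center (Cfsg.SU n F₀ q₀)) => mat a.1) e)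
          ⟨0, by omega⟩) ⟨0, by omega⟩
        rw [Subgroup.coe_pow, hpow] at this
        simpa [mat_one] using this
    rw [← card_U1 hF₀, ← hz, ← hw]
    exact orderOf_dvd_natCard w

include hF₀ in
/-- A nontrivial normal subgroup of the small group has order divisible by an odd prime divisor. -/
theorem dvd_normal (hn : 3 ≤ n) {p : ℕ} [hp : Fact p.Prime] (hp2 : p ≠ 2) (h : p ∣ Nat.card (Cfsg.PSU n F₀ q₀))
    (M : Subgroup (Cfsg.PSU n F₀ q₀)) [M.Normal] (hM : M ≠ ⊥) : p ∣ Nat.card M := by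
  classical
  by_cases h32 : n = 3 ∧ q₀ = 2
  swap
  · haveI := UnitarySimple.simple hF₀ hn h32
    rw [(IsSimpleGroup.eq_bot_or_eq_top_of_normal M inferInstance).resolve_left hM, Subgroup.card_top]
    exact h
  obtain ⟨rfl, rfl⟩ := h32
  haveI := primitive (n := 3) hF₀
  set S := Cfsg.SU 3 F₀ 2
  set X := IPt 3 F₀ 2
  have hp3 : p = 3 := by
    have h1 : p ∣ Nat.card ↥(Cfsg.GU 3 F₀ 2) := by
      rw [UnitaryOrder.card_GU_eq hF₀ (by norm_num)]
      exact dvd_mul_of_dvd_right (h.trans (Subgroup.card_quotient_dvd_card _)) _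
    rw [UnitaryOrder.card_GU hF₀, Finset.prod_range_succ, Finset.prod_range_succ, Finset.prod_range_one] at h1
    norm_num [Nat.even_iff] at h1
    rcases (Nat.Prime.dvd_mul hp.out).mp (show p ∣ 2 ^ 3 * 3 ^ 4 by norm_num; exact h1) with h2 | h3
    · exact absurd ((Nat.prime_dvd_prime_iff_eq hp.out Nat.prime_two).mp (hp.out.dvd_of_dvd_pow h2)) hp2
    · exact (Nat.prime_dvd_prime_iff_eq hp.out Nat.prime_three).mp (hp.out.dvd_of_dvd_pow h3)
  subst hp3
  haveI : Finite X := Finite.of_injective (fun x : X => x.1) Subtype.val_injective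
  obtain ⟨Mt, hMt⟩ : ∃ Mt, Mt = M.comap (QuotientGroup.mk' (Subgroup.center S)) := ⟨_, rfl⟩
  haveI : Mt.Normal := hMt ▸ inferInstance
  have hcen : Subgroup.center S ≤ Mt := fun z hz => by
    rw [hMt, Subgroup.mem_comap, QuotientGroup.mk'_apply, (QuotientGroup.eq_one_iff z).mpr hz]
    exact M.one_mem
  have hfix : ∀ z ∈ Subgroup.center S, ∀ x : X, z • x = x := fun z hz x => by
    obtain ⟨c, hc⟩ := scalar_of_central' hF₀ le_rfl z hz
    obtain ⟨e, he0, he, rfl⟩ := pt_surj x
    exact smul_pt_eq z he0 he he0 he c (hc e)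
  haveI : MulAction.IsPretransitive Mt X := by
    refine MulAction.IsQuasiPreprimitive.isPretransitive_of_normal fun huniv => hM ?_
    rw [Subgroup.eq_bot_iff_forall]
    intro y hy
    obtain ⟨g, rfl⟩ := QuotientGroup.mk_surjective y
    rw [QuotientGroup.eq_one_iff]
    have hg : g ∈ Mt := by rw [hMt]; exact hy
    obtain ⟨c, hc⟩ := scalar_of_fix hF₀ le_rfl g fun x =>
      ((huniv ▸ Set.mem_univ x : x ∈ MulAction.fixedPoints Mt X)) ⟨g, hg⟩
    exact central_of_scalar g hc
  -- an element of order three without fixed points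
  obtain ⟨ζ, hζ⟩ := exists_prime_orderOf_dvd_card' 3 (show 3 ∣ Nat.card ↥(U1 hF₀) by rw [card_U1])
  have hζ1 : ((ζ.1 : F₀ˣ) : F₀) ≠ 1 := fun h1 => by
    rw [show ζ = 1 from Subtype.ext (Units.ext h1), orderOf_one] at hζ
    omega
  obtain ⟨w, hw⟩ : ∃ w : F₀, w = ((ζ.1 : F₀ˣ) : F₀) := ⟨_, rfl⟩
  have hw3 : w ^ 3 = 1 := by
    have : ζ ^ 3 = 1 := hζ ▸ pow_orderOf_eq_one ζ
    rw [hw, ← Units.val_pow_eq_pow_val, ← Subgroup.coe_pow, this]; rfl
  have hwn : fr hF₀ w * w = 1 := by rw [hw, mul_comm]; exact (mem_U1 hF₀).mp ζ.2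
  let D : Fin 3 → F₀ := ![1, w, w * w]
  let s : S := suOf hF₀ (diagonal D)
    (by rw [diagonal_map (map_zero _), diagonal_transpose, diagonal_mul_diagonal, ← diagonal_one]
        refine congrArg _ (funext fun i => ?_)
        fin_cases i
        · simp [D]
        · simpa [D] using hwn
        · simp [D]; linear_combination (fr hF₀ w * w + 1) * hwn)
    (by simp [det_diagonal, Fin.prod_univ_three, D]; linear_combination hw3)
  have hs3 : s ^ 3 = 1 := su_eq (by
    show mat (s ^ 3) = mat 1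
    rw [pow_succ, pow_two, mat_mul, mat_mul, mat_suOf, diagonal_mul_diagonal, diagonal_mul_diagonal, mat_one,
      ← diagonal_one]
    refine congrArg _ (funext fun i => ?_)
    fin_cases i
    · simp [D]
    · simp [D]; linear_combination hw3
    · simp [D]; linear_combination (w ^ 3 + 1) * hw3)
  have hnofix : ∀ x : X, s • x ≠ x := by
    intro x hx
    obtain ⟨e, he0, he, rfl⟩ := pt_surj x
    rw [smul_pt] at hx
    have h1 := congrArg Subtype.val hx
    change Submodule.span F₀ {mat s *ᵥ e} = Submodule.span F₀ {e} at h1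
    obtain ⟨l, hl⟩ := Submodule.mem_span_singleton.mp (h1 ▸ Submodule.mem_span_singleton_self (mat s *ᵥ e))
    have he' : ∀ i, l * e i = D i * e i := fun i => by
      have := congrFun hl i
      rw [mat_suOf, mulVec_diagonal] at this
      exact this
    have hD : Function.Injective D := by
      have hw0 : w ≠ 0 := fun h0 => by rw [h0] at hwn; simp at hwn
      have hww : w * w ≠ 1 := fun h1 => hζ1 (by rw [← hw]; linear_combination hw3 - w * h1)
      have hw1 : w ≠ 1 := hw ▸ hζ1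
      have h12 : w ≠ w * w := fun h1 => hw1 (mul_left_cancel₀ hw0 (by rw [mul_one]; exact h1.symm))
      intro i j
      fin_cases i <;> fin_cases j <;> simp [D, hw1, hw1.symm, hww, hww.symm, h12, h12.symm]
    obtain ⟨i, hi⟩ : ∃ i, e i ≠ 0 := Function.ne_iff.mp he0
    have honly : ∀ j, j ≠ i → e j = 0 := fun j hj => by
      by_contra hj0
      exact hj (hD ((mul_right_cancel₀ hj0 (he' j)).symm.trans (mul_right_cancel₀ hi (he' i))))
    have hei : e = e i • (Pi.single i 1 : Fin 3 → F₀) := funext fun j => by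
      by_cases hj : j = i
      · subst hj; simp
      · simp [Pi.single_apply, hj, honly j hj]
    rw [hei, h_smul_left, h_smul_right hF₀, herm_single hF₀, if_pos rfl, mul_one] at he
    exact hi ((mul_eq_zero.mp he).elim id fun h0 => (map_eq_zero _).mp h0)
  have hX : 3 ∣ Nat.card X := by
    have hpg : IsPGroup 3 (Subgroup.zpowers s) := by
      refine IsPGroup.of_card (n := 1) ?_
      rw [Nat.card_zpowers, pow_one]
      refine orderOf_eq_prime hs3 fun h1 => ?_
      obtain ⟨e, he0, he⟩ := exists_isotropic hF₀ (n := 3) (by norm_num)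
      exact hnofix (pt he0 he) (by rw [h1, one_smul])
    have hmod := hpg.card_modEq_card_fixedPoints X
    haveI : IsEmpty (MulAction.fixedPoints (Subgroup.zpowers s) X) :=
      ⟨fun x => hnofix x.1 (x.2 ⟨s, Subgroup.mem_zpowers s⟩)⟩
    rw [Nat.card_of_isEmpty (α := ↑(MulAction.fixedPoints (Subgroup.zpowers s) X))] at hmod
    exact Nat.modEq_zero_iff_dvd.mp hmod
  -- orbit counting
  obtain ⟨e, he0, he⟩ := exists_isotropic hF₀ (n := 3) (by norm_num)
  have hst := (MulAction.stabilizer Mt (pt he0 he)).card_mul_index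
  rw [MulAction.index_stabilizer_of_transitive] at hst
  have hsub : Nat.card (Subgroup.center S) ∣ Nat.card (MulAction.stabilizer Mt (pt he0 he)) :=
    Subgroup.card_dvd_of_injective
      (({ toFun := fun z => ⟨⟨z.1, hcen z.2⟩, hfix z.1 z.2 _⟩
          map_one' := rfl
          map_mul' := fun a b => rfl } : Subgroup.center S →* MulAction.stabilizer Mt (pt he0 he)))
      fun a b hab => Subtype.ext (congrArg (fun z : MulAction.stabilizer Mt (pt he0 he) => z.1.1) hab)
  have hcard : Nat.card Mt = Nat.card M * Nat.card (Subgroup.center S) := by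
    rw [hMt]
    have := Subgroup.card_mul_index (Subgroup.comap (QuotientGroup.mk' (Subgroup.center S)) M)
    rw [Subgroup.index_comap_of_surjective _ (QuotientGroup.mk'_surjective _)] at this
    refine Nat.eq_of_mul_eq_mul_right (Nat.pos_of_ne_zero M.index_ne_zero_of_finite) (this.trans ?_)
    rw [mul_right_comm, M.card_mul_index]
    exact Subgroup.card_eq_card_quotient_mul_card_subgroup _
  have : Nat.card (Subgroup.center S) * Nat.card X ∣ Nat.card (Subgroup.center S) * Nat.card M := by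
    rw [mul_comm _ (Nat.card M), ← hcard, ← hst]
    exact Nat.mul_dvd_mul_right hsub _
  exact hX.trans ((Nat.mul_dvd_mul_iff_left Nat.card_pos).mp this)

include hF₀ hfr in
/-- Commuting with the field automorphism and fixing the small group means trivial. -/
theorem field_fix (hn : 3 ≤ n) (h32 : ¬ (n = 3 ∧ q = 2)) {σ : RingAut F} {p : ℕ} (hord : orderOf σ = p)
    (hι : ∀ y, σ y = y ↔ y ∈ ι.range) (y : MulAut (Cfsg.PSU n F q)) (hc : (orderOf y).Coprime p)
    (hy : ∀ a, y (psi hF hF₀ hfr hn a) = psi hF hF₀ hfr hn a) : y = 1 := by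
  classical
  obtain ⟨π, -, -, hπ⟩ := exists_fieldPart hF hn h32
  obtain ⟨g, τ, rfl⟩ := psu_decomp hF hn h32 y
  let T := sT g.1.1 τ
  let up : (Fin n → F₀) → (Fin n → F) := fun v l => ι (v l)
  have hup : ∀ (a : F₀) u v, up (u + a • v) = up u + ι a • up v := fun a u v => by
    funext l; simp [up]
  have Tadd : ∀ a b, T (a + b) = T a + T b := sT_add _ τ
  have Tsmul : ∀ (a : F) v, T (a • v) = τ a • T v := sT_smul _ τ
  -- isotropic vectors of the small space are eigenvectors
  have eig : ∀ v : Fin n → F₀, Cfsg.hermForm n F₀ q₀ v v = 0 → v ≠ 0 → ∃ μ : F, T (up v) = μ • up v := by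
    intro v hv hv0
    obtain ⟨c₀, hc0, hc₀⟩ := exists_skew hF₀
    obtain ⟨s, hs⟩ : ∃ s, s = tv hF₀ v hv c₀ hc₀ := ⟨_, rfl⟩
    obtain ⟨c, hc'⟩ := fix_semi hF hn (hy (QuotientGroup.mk s))
    have hpow : ∀ l, ι (v l ^ q₀) = up v l ^ q := fun l => by
      rw [← fr_apply hF₀, ← fr_apply hF, hfr]
    let φ : (Fin n → F) →ₗ[F] F :=
      { toFun := fun x => ι c₀ * Cfsg.hermForm n F q x (up v)
        map_add' := fun a b => by rw [h_add_left, mul_add]
        map_smul' := fun a b => by rw [h_smul_left, RingHom.id_apply, smul_eq_mul]; ring }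
    have hm : mat (inclS hF hF₀ hfr s) = Cfsg.unitaryTransvection n q (up v) (ι c₀) := by
      rw [inclS_mat, hs, show mat (tv hF₀ v hv c₀ hc₀) = Cfsg.unitaryTransvection n q₀ v c₀ from rfl]
      ext i j
      simp only [Cfsg.unitaryTransvection, Matrix.map_apply, Matrix.add_apply, Matrix.smul_apply, smul_eq_mul,
        vecMulVec_apply, map_add, map_mul, hpow]
      rcases eq_or_ne i j with rfl | hij <;> simp [*, up, Matrix.one_apply]
    have hne : up v ≠ 0 := fun h0 => hv0 (funext fun l => ι.injective (by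
      rw [show ι (v l) = 0 from congrFun h0 l]; exact (map_zero ι).symm))
    refine RigidGen.eigen (by rw [Module.finrank_fin_fun]; exact hn) (sT_add _ τ) (sT_smul _ τ) (sT_inj g.1 τ) (up v) φ
      ?_ c fun x => ?_
    · obtain ⟨z, -, hz⟩ := exists_partner hF hne
      exact ⟨z, mul_ne_zero (by simpa using hc0) (by rw [hz]; exact one_ne_zero)⟩
    · have := hc' x
      rw [hm, tmat_mulVec, tmat_mulVec] at this
      exact this
  -- norm one elements of the small field
  let U : Finset F₀ := Finset.univ.filter fun z => z * fr hF₀ z = 1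
  have hU : U.card = q₀ + 1 := by
    rw [← card_U1 hF₀, Nat.card_eq_fintype_card]
    rw [show Fintype.card ↥(U1 hF₀) = Fintype.card {z // z ∈ U} from Fintype.card_congr
      { toFun := fun u => ⟨(u.1 : F₀), Finset.mem_filter.mpr ⟨Finset.mem_univ _, (mem_U1 hF₀).mp u.2⟩⟩
        invFun := fun z => ⟨Units.mk0 z.1 (left_ne_zero_of_mul_eq_one (Finset.mem_filter.mp z.2).2),
          (mem_U1 hF₀).mpr (Finset.mem_filter.mp z.2).2⟩
        left_inv := fun u => Subtype.ext (Units.ext rfl)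
        right_inv := fun z => Subtype.ext rfl }]
    exact (Fintype.card_coe U).symm
  obtain ⟨ω, hω⟩ := exists_norm_eq hF₀ (c := (-1 : F₀)) (by rw [map_neg, map_one])
  rw [← fr_eq_frob] at hω
  have hω0 : ω ≠ 0 := fun h0 => by rw [h0, zero_mul] at hω; exact one_ne_zero (neg_eq_zero.mp hω.symm)
  have hiso : ∀ (i j : Fin n), i ≠ j → ∀ z ∈ U,
      Cfsg.hermForm n F₀ q₀ (Pi.single i 1 + (ω * z) • Pi.single j 1) (Pi.single i 1 + (ω * z) • Pi.single j 1) = 0 := by
    intro i j hij z hz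
    have hz1 := (Finset.mem_filter.mp hz).2
    simp [h_add_left, h_add_right hF₀, h_smul_left, h_smul_right hF₀, herm_single hF₀, hij, hij.symm, ← fr_eq_frob]
    linear_combination (z * fr hF₀ z) * hω - hz1
  have hne : ∀ (i j : Fin n), i ≠ j → ∀ a : F₀, (Pi.single i 1 + a • Pi.single j 1 : Fin n → F₀) ≠ 0 := by
    intro i j hij a h0
    simpa [hij] using congrFun h0 i
  have hplane : ∀ (i j : Fin n), i ≠ j → ∀ l, l ≠ i → l ≠ j → T (Pi.single i 1) l = 0 := by
    intro i j hij l hli hlj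
    obtain ⟨z₁, hz₁, z₂, hz₂, hz⟩ := Finset.one_lt_card.mp (show 1 < U.card by rw [hU]; have := two_le_q hF₀; omega)
    obtain ⟨μ₁, e₁⟩ := eig _ (hiso i j hij z₁ hz₁) (hne i j hij _)
    obtain ⟨μ₂, e₂⟩ := eig _ (hiso i j hij z₂ hz₂) (hne i j hij _)
    rw [hup, show up (Pi.single i 1) = Pi.single i 1 from map_single ι i,
      show up (Pi.single j 1) = Pi.single j 1 from map_single ι j] at e₁ e₂
    rw [Tadd, Tsmul] at e₁ e₂
    have h1 := congrFun e₁ l
    have h2 := congrFun e₂ l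
    simp [hli, hlj] at h1 h2
    have hd : τ (ι ω * ι z₁) - τ (ι ω * ι z₂) ≠ 0 := sub_ne_zero.mpr fun e =>
      hz (ι.injective (mul_left_cancel₀ (by simpa using hω0) (τ.injective e)))
    refine (mul_eq_zero.mp (show (τ (ι ω * ι z₁) - τ (ι ω * ι z₂)) * T (Pi.single i 1) l = 0 from ?_)).resolve_left hd
    simp only [map_mul]
    linear_combination (τ (ι ω) * τ (ι z₁)) * h2 - (τ (ι ω) * τ (ι z₂)) * h1
  have hdiag : ∀ i, ∃ μ : F, T (Pi.single i 1) = μ • (Pi.single i 1 : Fin n → F) := by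
    intro i
    refine ⟨T (Pi.single i 1) i, funext fun l => ?_⟩
    by_cases hl : l = i
    · subst hl; simp
    obtain ⟨j, hj⟩ : ∃ j : Fin n, j ≠ i ∧ j ≠ l := by
      obtain ⟨k, hk⟩ := Finset.card_pos.mp (show 0 < (({i, l} : Finset (Fin n))ᶜ).card by
        rw [Finset.card_compl, Fintype.card_fin]
        have := Finset.card_le_two (a := i) (b := l)
        omega)
      simp only [Finset.mem_compl, Finset.mem_insert, Finset.mem_singleton, not_or] at hk
      exact ⟨k, hk.1, hk.2⟩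
    rw [hplane i j hj.1.symm l hl hj.2.symm]
    simp [hl]
  choose lam hlam using hdiag
  have key : ∀ i j, i ≠ j → ∀ z ∈ U, τ (ι (ω * z)) * lam j = lam i * ι (ω * z) := by
    intro i j hij z hz
    obtain ⟨μ, e⟩ := eig _ (hiso i j hij z hz) (hne i j hij _)
    rw [hup, show up (Pi.single i 1) = Pi.single i 1 from map_single ι i,
      show up (Pi.single j 1) = Pi.single j 1 from map_single ι j, Tadd, Tsmul, hlam, hlam] at e
    have h1 := congrFun e i
    have h2 := congrFun e j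
    simp [hij, hij.symm] at h1 h2
    rw [map_mul ι]
    rw [h1]
    simp only [map_mul]
    linear_combination h2
  have hlam0 : ∀ i, lam i ≠ 0 := fun i h0 => one_ne_zero (α := F) (by
    have := hlam i
    rw [h0, zero_smul] at this
    have h0' : (Pi.single i 1 : Fin n → F) = 0 := sT_inj g.1 τ (this.trans (by
      have := sT_smul g.1.1 τ 0 0
      simpa using this.symm))
    simpa using congrFun h0' i)
  let i₀ : Fin n := ⟨0, by omega⟩
  let i₁ : Fin n := ⟨1, by omega⟩
  have hi : i₀ ≠ i₁ := by simp [i₀, i₁]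
  have h1U : (1 : F₀) ∈ U := by simp [U]
  have hτU : ∀ z ∈ U, τ (ι z) = ι z := fun z hz => by
    have a := key i₀ i₁ hi z hz
    have b := key i₀ i₁ hi 1 h1U
    rw [mul_one] at b
    rw [map_mul ι, map_mul τ] at a
    refine mul_left_cancel₀ (mul_ne_zero (show τ (ι ω) ≠ 0 by simpa using hω0) (hlam0 i₁)) ?_
    linear_combination a - ι z * b
  have hτι : (τ : F ≃+* F).toRingHom.comp ι = ι := RigidGen.hom_eq _ _ U hτU
    (by simp [U]) (by rw [hU, hF₀]; exact Nat.pow_lt_pow_left (by omega) two_ne_zero)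
  have hτι' : ∀ b, τ (ι b) = ι b := fun b => RingHom.congr_fun hτι b
  have hlam' : ∀ i, lam i = lam i₀ := fun i => by
    rcases eq_or_ne i i₀ with rfl | h
    · rfl
    have := key i₀ i h.symm 1 h1U
    rw [hτι', mul_comm (lam i₀)] at this
    exact mul_left_cancel₀ (by simpa using hω0) this
  have hg : g.1.1 = lam i₀ • 1 := Matrix.ext_of_mulVec_single fun i => by
    rw [smul_mulVec, one_mulVec, ← hlam' i, ← hlam i]
    show g.1.1 *ᵥ _ = g.1.1 *ᵥ _
    congr 1
    funext l
    by_cases hl : l = i <;> simp [Pi.single_apply, hl]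
  have hconj : conjP hF g = 1 := by
    rw [show g = ⟨scal (Units.mk0 _ (hlam0 i₀)), scal_mem hF _⟩ from
      Subtype.ext (Units.ext (by rw [scal_val]; exact hg)), conjP_scal]
  have hτ : τ = 1 := by
    refine RigidGen.galois_one σ τ hord (fun z hz => ?_) (Nat.Coprime.coprime_dvd_left ?_ hc)
    · obtain ⟨b, rfl⟩ := (hι z).mp hz
      exact hτι' b
    · have := orderOf_map_dvd π (conjP hF g * fieldP hF τ)
      rwa [hπ] at this
  rw [hconj, hτ, map_one, one_mul]

include hF₀ hfr in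
theorem rigid_field (hn : 3 ≤ n) (h32 : ¬ (n = 3 ∧ q = 2)) {σ : RingAut F} {p : ℕ} [hp : Fact p.Prime] (hp2 : p ≠ 2)
    (hord : orderOf σ = p) (hι : ∀ y, σ y = y ↔ y ∈ ι.range) :
    CoreGen.Rigid p (fieldP hF σ : MulAut (Cfsg.PSU n F q)) := by
  have hinj := conj_injective hF hn h32
  refine RigidGen.rigid_of hinj (Set.range (psi hF hF₀ hfr hn)) (by rintro _ ⟨a, rfl⟩; exact psi_fixed hF hF₀ hfr hn hι a)
    ?_ fun y _ hc hy => field_fix hF hF₀ hfr hn h32 hord hι y hc fun a => hy _ ⟨a, rfl⟩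
  intro hdvd M hMx hMc hMn
  have hGU : p ∣ Nat.card ↥(Cfsg.GU n F₀ q₀) := by
    refine hdvd.trans ?_
    rw [← Subgroup.card_map_of_injective (f := (MulAut.conj : Cfsg.PSU n F q →* _)) hinj]
    refine (Subgroup.card_dvd_of_le (K := (phi hF hF₀ hfr).range) ?_).trans (Subgroup.card_range_dvd _)
    rintro _ ⟨k, hk, rfl⟩
    obtain ⟨y, hy⟩ := fix_mem_range hF hF₀ hfr hn h32 hι hk
    exact ⟨y, hy⟩
  have hpP := dvd_card_psu hF₀ hn hGU
  haveI : (M.comap (psi hF hF₀ hfr hn)).Normal := ⟨fun m hm a => by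
    rw [Subgroup.mem_comap, map_mul, map_mul, map_inv]
    exact hMn _ (psi_fixed hF hF₀ hfr hn hι a) _ hm⟩
  have hbot : M.comap (psi hF hF₀ hfr hn) = ⊥ := by
    by_contra hne
    have hd := (dvd_normal hF₀ hn hp2 hpP _ hne).trans
      (Subgroup.card_comap_dvd_of_injective M _ (psi_inj hF hF₀ hfr hn))
    exact hp.out.not_dvd_one (hMc ▸ Nat.dvd_gcd hd dvd_rfl)
  refine (Subgroup.eq_bot_iff_forall _).mpr fun m hm => hinj ?_
  rw [map_one]
  refine field_fix hF hF₀ hfr hn h32 hord hι _ ?_ fun a => ?_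
  · refine Nat.Coprime.coprime_dvd_left ?_ hMc
    rw [orderOf_injective _ hinj, ← Subgroup.orderOf_mk m hm]
    exact orderOf_dvd_natCard _
  · obtain ⟨s, rfl⟩ := QuotientGroup.mk_surjective a
    obtain ⟨y, hy⟩ := fix_mem_range hF hF₀ hfr hn h32 hι (hMx m hm)
    -- the conjugate stays in the small group
    let y₀ : Cfsg.SU n F₀ q₀ := suOf hF₀ (y.1.1 * mat s * (y.1⁻¹).1) (conj_unit hF₀ (GU_le_GS hF₀ y.2) s)
      (by rw [Matrix.det_units_conj]; exact s.1.2)
    have e : m * psi hF hF₀ hfr hn (QuotientGroup.mk s) * m⁻¹ = psi hF hF₀ hfr hn (QuotientGroup.mk y₀) := hinj (by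
      rw [map_mul, map_mul, map_inv, ← phi_toGL, ← phi_toGL, ← hy, ← map_inv, ← map_mul, ← map_mul]
      exact congrArg _ (Subtype.ext (Units.ext rfl)))
    have h1 : m * psi hF hF₀ hfr hn (QuotientGroup.mk s) * m⁻¹ * (psi hF hF₀ hfr hn (QuotientGroup.mk s))⁻¹ ∈ M := by
      rw [mul_assoc, mul_assoc, ← mul_assoc (psi hF hF₀ hfr hn (QuotientGroup.mk s))]
      exact M.mul_mem hm (hMn _ (psi_fixed hF hF₀ hfr hn hι _) _ (M.inv_mem hm))
    rw [e, ← map_inv, ← map_mul, ← Subgroup.mem_comap, hbot, Subgroup.mem_bot, mul_inv_eq_one] at h1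
    rw [MulAut.conj_apply, e, h1]

theorem fixed_nontrivial {σ : RingAut F} (hn : 3 ≤ n) (hι : ∀ y, σ y = y ↔ y ∈ ι.range)
    (hfr' : ∀ x, fr hF (ι x) = ι (fr hF₀ x)) :
    ∃ k : Cfsg.PSU n F q, k ≠ 1 ∧ fieldP hF σ k = k := by
  obtain ⟨e, he0, he⟩ := exists_isotropic hF₀ (n := n) (by omega)
  obtain ⟨c, hc0, hc⟩ := exists_skew hF₀
  refine ⟨psi hF hF₀ hfr' hn (QuotientGroup.mk (tv hF₀ e he c hc)), fun h => ?_, psi_fixed hF hF₀ hfr' hn hι _⟩
  have h1 := psi_inj hF hF₀ hfr' hn (h.trans (map_one _).symm)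
  obtain ⟨a, ha⟩ := scalar_of_central' hF₀ hn _ ((QuotientGroup.eq_one_iff _).mp h1)
  obtain ⟨y, -, hy⟩ := exists_partner hF₀ he0
  have e1 := ha e
  have e2 := ha y
  rw [tv_mulVec, he, mul_zero, zero_smul, add_zero] at e1
  have ha1 : a = 1 := smul_left_injective F₀ he0 (e1.symm.trans (one_smul F₀ e).symm)
  rw [tv_mulVec, hy, mul_one, ha1, one_smul, add_eq_left, smul_eq_zero] at e2
  exact e2.elim hc0 he0

end Emb

end CfsgLib.PSURigid
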