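import Cfsg.Agent.Lib.PolarAut.Main

/-!
Transvection groups: an automorphism permuting them induces a point map.
-/

set_option autoImplicit false

namespace CfsgLib.PolarAut

open Module

variable {F : Type*} [Field F] {V : Type*} [AddCommGroup V] [Module F V]
variable {G : Type*} [Group G] {W : Type*} [Group W]

namespace Geo

variable (S : Geo F V G W)

/-- The transvection group of a vector. -/
def Tg (e : V) : Set W :=
  {y | ∃ g s, S.P.Valid 0 s ∧ S.act g = S.P.uMap e 0 s ∧ y = S.pr g}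

theorem t_apply (e : V) (s : F) (x : V) :
    S.P.uMap e 0 s x = x + (S.P.ε * S.P.h x e * s) • e := by
  simp [Polar.uMap_apply, smul_smul]

theorem valid_smul {s c : F} (h : S.P.Valid 0 s) : S.P.Valid 0 (c * S.P.τ c * s) := by
  simp only [Polar.Valid, S.P.zero_left, map_mul, S.P.ττ] at h ⊢
  linear_combination (c * S.P.τ c) * h

theorem Tg_par {e e₂ : V} (h : Par (F := F) e e₂) : S.Tg e = S.Tg e₂ := by
  have : ∀ (e : V) (c : F), c ≠ 0 → S.Tg (c • e) ⊆ S.Tg e := by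
    rintro e c - y ⟨g, s, hs, hg, rfl⟩
    refine ⟨g, c * S.P.τ c * s, S.valid_smul hs, LinearMap.ext fun x => ?_, rfl⟩
    rw [hg, S.t_apply, S.t_apply, S.P.smul_right, smul_smul]
    congr 2; ring
  obtain ⟨c, hc, rfl⟩ := h
  refine Set.Subset.antisymm ?_ (this e c hc)
  have h1 := this (c • e) c⁻¹ (inv_ne_zero hc)
  rwa [inv_smul_smul₀ hc] at h1

theorem conj_t {e : V} {s : F} {g u : G} (hu : S.act u = S.P.uMap e 0 s) :
    S.act (g * u * g⁻¹) = S.P.uMap (S.act g e) 0 s := LinearMap.ext fun x => by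
  rw [S.act_mul, S.act_mul, hu, S.t_apply, S.t_apply, map_add, map_smul, S.act_act_inv]
  conv_rhs => rw [← S.act_act_inv g x, S.isom, S.act_act_inv]

theorem Tg_conj (e : V) (g : G) : S.Tg (S.act g e) = MulAut.conj (S.pr g) '' S.Tg e := by
  ext y
  constructor
  · rintro ⟨u, s, hs, hu, rfl⟩
    refine ⟨S.pr (g⁻¹ * u * g⁻¹⁻¹), ⟨_, s, hs, ?_, rfl⟩, ?_⟩
    · rw [S.conj_t hu, S.act_inv_act]
    · rw [MulAut.conj_apply, ← map_mul, ← map_inv, ← map_mul]
      congr 1; group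
  · rintro ⟨-, ⟨u, s, hs, hu, rfl⟩, rfl⟩
    exact ⟨g * u * g⁻¹, s, hs, S.conj_t hu, by rw [MulAut.conj_apply, map_mul, map_mul, map_inv]⟩

variable [Finite F]

theorem exists_t {e : V} (he : S.P.Iso e) {s : F} (hs : S.P.Valid 0 s) :
    ∃ g, S.act g = S.P.uMap e 0 s ∧ g ^ (ringChar F ^ 2) = 1 := by
  obtain ⟨f, H⟩ := S.P.exists_hyp he
  exact S.exists_u H (S.P.perp_zero e f) hs

theorem exists_t_ne {e : V} (he : S.P.Iso e) :
    ∃ g z, z ≠ 0 ∧ S.P.Valid 0 z ∧ S.act g = S.P.uMap e 0 z := by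
  obtain ⟨z, hz0, hz⟩ := S.P.skew
  have hv : S.P.Valid 0 z := by simpa [Polar.Valid] using hz
  obtain ⟨g, hg, -⟩ := S.exists_t he hv
  exact ⟨g, z, hz0, hv, hg⟩

theorem commute_iff {e e₂ : V} (he : S.P.Iso e) (he₂ : S.P.Iso e₂) :
    S.P.h e e₂ = 0 ↔ ∀ y ∈ S.Tg e, ∀ y' ∈ S.Tg e₂, y * y' = y' * y := by
  constructor
  · rintro h - ⟨g, s, -, hg, rfl⟩ - ⟨g', s', -, hg', rfl⟩
    rw [← map_mul, ← map_mul]
    congr 1
    refine S.ext fun x => ?_
    rw [S.act_mul, S.act_mul, hg, hg', S.t_apply, S.t_apply, S.t_apply, S.t_apply, S.P.add_left,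
      S.P.add_left, S.P.smul_left, S.P.smul_left, h, S.P.perp_comm h]
    simp only [mul_zero, add_zero]
    abel
  · intro h
    by_contra hne
    obtain ⟨g, z, hz0, hz, hg⟩ := S.exists_t_ne he
    obtain ⟨g', z', hz'0, hz', hg'⟩ := S.exists_t_ne he₂
    have h1 := h _ ⟨g, z, hz, hg, rfl⟩ _ ⟨g', z', hz', hg', rfl⟩
    rw [← map_mul, ← map_mul] at h1
    obtain ⟨l, hl⟩ := S.pr_eq_iff.mp h1
    have h2 := hl e
    simp only [S.act_mul, hg, hg', S.t_apply, S.P.add_left, S.P.smul_left, he.2, mul_zero, zero_mul,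
      zero_smul, add_zero, smul_add, smul_smul, zero_add] at h2
    have hne' : S.P.h e₂ e ≠ 0 := fun h => hne (S.P.perp_comm h)
    set u := S.P.ε * S.P.h e e₂ * z' with hu
    have hu0 : u ≠ 0 := mul_ne_zero (mul_ne_zero S.P.ε_ne hne) hz'0
    have p1 := congrArg (fun t => S.P.h t e) h2
    simp only [S.P.add_left, S.P.smul_left, he.2, mul_zero, zero_add, add_zero] at p1
    have hl1 : l = 1 := by
      have : (1 - l) * (u * S.P.h e₂ e) = 0 := by linear_combination p1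
      exact (sub_eq_zero.mp ((mul_eq_zero.mp this).resolve_right (mul_ne_zero hu0 hne'))).symm
    subst hl1
    have p2 := congrArg (fun t => S.P.h t e₂) h2
    simp only [S.P.add_left, S.P.smul_left, he₂.2, mul_zero, zero_add, add_zero, one_mul] at p2
    have : S.P.ε * (u * S.P.h e₂ e) * z * S.P.h e e₂ = 0 := by linear_combination p2
    simp [S.P.ε_ne, hu0, hne', hz0, hne] at this

theorem Tg_inj {e e₂ : V} (he : S.P.Iso e) (he₂ : S.P.Iso e₂) (h : S.Tg e = S.Tg e₂) :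
    Par (F := F) e e₂ := by
  obtain ⟨g, z, hz0, hz, hg⟩ := S.exists_t_ne he₂
  have hy : S.pr g ∈ S.Tg e := h ▸ ⟨g, z, hz, hg, rfl⟩
  obtain ⟨g', s, -, hg', e1⟩ := hy
  obtain ⟨l, hl⟩ := S.pr_eq_iff.mp e1
  obtain ⟨f, H⟩ := S.P.exists_hyp he₂
  have hl1 : l = 1 := by
    obtain ⟨x, hx⟩ : ∃ x : V, S.P.h x e = 0 ∧ S.P.h x e₂ = 0 ∧ x ≠ 0 := by
      by_cases hh : S.P.h e e₂ = 0
      · exact ⟨e, he.2, hh, he.1⟩
      · have h' := (S.commute_iff he he₂).not.mp hh
        push Not at h'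
        obtain ⟨y, hy, y', hy', hne⟩ := h'
        rw [← h] at hy'
        exact absurd ((S.commute_iff he he).mp he.2 y hy y' hy') hne
    have hx1 := hl x
    rw [hg, hg', S.t_apply, S.t_apply, hx.1, hx.2.1] at hx1
    simp only [mul_zero, zero_mul, zero_smul, add_zero] at hx1
    exact smul_left_injective F hx.2.2 (hx1.symm.trans (one_smul F x).symm)
  have hf := hl f
  rw [hg, hg', hl1, one_smul, S.t_apply, S.t_apply, add_right_inj, H.fe, S.P.εε, one_mul] at hf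
  refine Par.symm ⟨(S.P.ε * S.P.h f e * s)⁻¹ * z, ?_, ?_⟩
  · refine mul_ne_zero (inv_ne_zero fun h0 => ?_) hz0
    rw [h0, zero_smul] at hf
    exact (smul_ne_zero hz0 he₂.1) hf
  · rw [← smul_smul, hf, inv_smul_smul₀]
    intro h0
    rw [h0, zero_smul] at hf
    exact (smul_ne_zero hz0 he₂.1) hf

end Geo

/-- Automorphisms permuting the transvection groups. -/
def TPerm (S : Geo F V G W) (φ : MulAut W) : Prop :=
  ∀ e, S.P.Iso e → ∃ e', S.P.Iso e' ∧ φ '' S.Tg e = S.Tg e'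

open Classical in
/-- The point map of an automorphism permuting transvection groups. -/
theorem exists_ind [Finite F] [Finite V] (S : Geo F V G W) (φ : MulAut W) (hφ : TPerm S φ) :
    Nonempty (Ind S φ) := by
  let b : V → V := fun e => if h : S.P.Iso e then (hφ e h).choose else 0
  have hb : ∀ e, S.P.Iso e → S.P.Iso (b e) ∧ φ '' S.Tg e = S.Tg (b e) := fun e he => by
    simp only [b, dif_pos he]; exact (hφ e he).choose_spec
  let 𝒯 : Set (Set W) := {T | ∃ e, S.P.Iso e ∧ T = S.Tg e}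
  have hfin : 𝒯.Finite := by
    refine (Set.finite_range fun e : V => S.Tg e).subset ?_
    rintro T ⟨e, -, rfl⟩
    exact ⟨e, rfl⟩
  have hsurj : Set.SurjOn (fun T : Set W => φ '' T) 𝒯 𝒯 := by
    have hmaps : (fun T : Set W => φ '' T) '' 𝒯 ⊆ 𝒯 := by
      rintro - ⟨T, ⟨e, he, rfl⟩, rfl⟩
      exact ⟨b e, (hb e he).1, (hb e he).2⟩
    have hinj : Function.Injective (fun T : Set W => φ '' T) := Set.image_injective.mpr φ.injective
    exact (Set.eq_of_subset_of_ncard_le hmaps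
      (Set.ncard_image_of_injective 𝒯 hinj).ge hfin).ge
  refine ⟨⟨b, fun x hx => (hb x hx).1, fun x y hx hxy => ?_, fun x y hx hy h => ?_, fun y hy => ?_,
    fun g k x hx h => ?_, fun x y hx hy => ?_⟩⟩
  · have hy := hxy.iso hx
    exact S.Tg_inj (hb x hx).1 (hb y hy).1 (by rw [← (hb x hx).2, ← (hb y hy).2, S.Tg_par hxy])
  · refine S.Tg_inj hx hy (Set.image_injective.mpr φ.injective ?_)
    rw [(hb x hx).2, (hb y hy).2, S.Tg_par h]
  · obtain ⟨T, ⟨x, hx, rfl⟩, hT⟩ := hsurj ⟨y, hy, rfl⟩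
    exact ⟨x, hx, S.Tg_inj (hb x hx).1 hy (by rw [← (hb x hx).2]; exact hT)⟩
  · refine S.Tg_inj (hb _ (S.act_iso hx)).1 (S.act_iso (hb x hx).1) ?_
    rw [← (hb _ (S.act_iso hx)).2, S.Tg_conj, S.Tg_conj, ← (hb x hx).2, ← h, Set.image_image,
      Set.image_image]
    simp [MulAut.conj_apply]
  · rw [S.commute_iff hx hy, S.commute_iff (hb x hx).1 (hb y hy).1, ← (hb x hx).2, ← (hb y hy).2]
    simp only [Set.forall_mem_image, ← map_mul, EmbeddingLike.apply_eq_iff_eq]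

/-- An automorphism permuting transvection groups is induced by a semilinear similitude. -/
theorem exists_similitude_of_tperm [Finite F] [Finite V] (S : Geo F V G W) (φ : MulAut W)
    (hφ : TPerm S φ) {e f w₁ w₂ : V} (H : S.P.Hyp e f) (K : S.P.Hyp w₁ w₂) (h1 : S.P.Perp e f w₁)
    (h2 : S.P.Perp e f w₂) :
    ∃ (T : V → V) (σ : F ≃+* F) (m : F), m ≠ 0 ∧ S.P.τ m = m ∧ (∀ x y, T (x + y) = T x + T y) ∧
      (∀ (c : F) x, T (c • x) = σ c • T x) ∧ Function.Bijective T ∧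
      (∀ x y, S.P.h (T x) (T y) = m * σ (S.P.h x y)) ∧
      ∀ g k, φ (S.pr g) = S.pr k → ∃ c : F, ∀ x, S.act k (T x) = c • T (S.act g x) :=
  exists_similitude (exists_ind S φ hφ).some H K h1 h2

end CfsgLib.PolarAut
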