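import Cfsg.Agent.Lib.PolarAut.Frame

/-!
The induced map on the orthogonal of a pair is a semilinear similitude.
-/

set_option autoImplicit false

namespace CfsgLib.PolarAut

open Module

variable {F : Type*} [Field F] {V : Type*} [AddCommGroup V] [Module F V]
variable {G : Type*} [Group G] {W : Type*} [Group W] {S : Geo F V G W} {φ : MulAut W}

theorem addHom_comm [Finite F] (s t : F →+* F) (x : F) : s (t x) = t (s x) := by
  rcases eq_or_ne x 0 with rfl | hx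
  · simp
  obtain ⟨g, hg⟩ := IsCyclic.exists_generator (α := Fˣ)
  obtain ⟨i, hi⟩ := hg (Units.mk0 x hx)
  obtain ⟨a, ha⟩ := hg (Units.map s.toMonoidHom g)
  obtain ⟨b, hb⟩ := hg (Units.map t.toMonoidHom g)
  have hx' : x = ((g ^ i : Fˣ) : F) := by rw [show g ^ i = Units.mk0 x hx from hi]; rfl
  have hs : s (g : F) = ((g ^ a : Fˣ) : F) := by rw [show g ^ a = _ from ha]; rfl
  have ht : t (g : F) = ((g ^ b : Fˣ) : F) := by rw [show g ^ b = _ from hb]; rfl
  simp only [Units.val_zpow_eq_zpow_val] at hx' hs ht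
  rw [hx', map_zpow₀, map_zpow₀, map_zpow₀, map_zpow₀, ht, hs, map_zpow₀, map_zpow₀, hs, ht]
  simp only [← zpow_mul]
  congr 1; ring

theorem sq_closure [Finite F] (D : AddSubgroup F) (hD : ∀ c : F, c ≠ 0 → c * c ∈ D) (x : F) :
    x ∈ D := by
  have hD' : ∀ c : F, c * c ∈ D := fun c => by
    rcases eq_or_ne c 0 with rfl | hc
    · simp [D.zero_mem]
    · exact hD c hc
  by_cases h2 : (2 : F) = 0
  · have hchar : ringChar F = 2 :=
      (Nat.prime_dvd_prime_iff_eq (CharP.char_is_prime F (ringChar F)) Nat.prime_two).mp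
        (ringChar.dvd (by exact_mod_cast h2))
    obtain ⟨c, hc⟩ := FiniteField.isSquare_of_char_two (F := F) hchar x
    rw [hc]; exact hD' c
  · have hx : x = (x + 1) / 2 * ((x + 1) / 2) - (x - 1) / 2 * ((x - 1) / 2) := by
      field_simp; ring
    rw [hx]; exact D.sub_mem (hD' _) (hD' _)

namespace Frame

variable [Finite F] {I : Ind S φ} (R : Frame I)

open Classical in
/-- The map on the orthogonal of the pair. -/
noncomputable def A (a : V) : V :=
  if h : S.P.Perp R.e R.f a then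
    (R.exists_img h (S.P.exists_valid a).choose_spec).choose
  else 0

theorem img_A {a a' : V} {s s' : F} (h : R.Img a s a' s') : a' = R.A a := by
  rw [A, dif_pos h.1]
  exact R.img_indep h (R.exists_img h.1 (S.P.exists_valid a).choose_spec).choose_spec.choose_spec

theorem exists_S {a : V} {s : F} (ha : S.P.Perp R.e R.f a) (hs : S.P.Valid a s) :
    ∃ s', R.Img a s (R.A a) s' := by
  obtain ⟨a', s', h⟩ := R.exists_img ha hs
  exact ⟨s', R.img_A h ▸ h⟩

theorem A_perp {a : V} (ha : S.P.Perp R.e R.f a) : S.P.Perp R.e' R.f' (R.A a) := by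
  obtain ⟨s, hs⟩ := S.P.exists_valid a
  obtain ⟨s', h⟩ := R.exists_S ha hs
  exact h.2.2.1

theorem A_add {a b : V} (ha : S.P.Perp R.e R.f a) (hb : S.P.Perp R.e R.f b) :
    R.A (a + b) = R.A a + R.A b := by
  obtain ⟨s, hs⟩ := S.P.exists_valid a
  obtain ⟨r, hr⟩ := S.P.exists_valid b
  obtain ⟨_, h1⟩ := R.exists_S ha hs
  obtain ⟨_, h2⟩ := R.exists_S hb hr
  exact (R.img_A (R.img_mul h1 h2)).symm

theorem A_zero : R.A 0 = 0 := by
  have := R.A_add (S.P.perp_zero R.e R.f) (S.P.perp_zero R.e R.f)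
  rwa [add_zero, left_eq_add] at this

theorem img_iso {x y : V} (hx : S.P.Iso x) (hxp : S.P.Perp R.e R.f x)
    (hy : Par (F := F) (I.b x) y) : R.Img x 0 (R.A x) 0 ∧ Par (F := F) y (R.A x) := by
  have hv : S.P.Valid x 0 := by simp [Polar.Valid, hx.2]
  obtain ⟨s', h⟩ := R.exists_S hxp hv
  have hA := R.A_perp hxp
  have hne : R.A x = 0 → s' ≠ 0 := by
    intro h0 hs0
    obtain ⟨-, -, -, -, g, k, hg, hk, e⟩ := h
    have : S.pr g = S.pr 1 := by
      apply φ.injective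
      rw [e, map_one, map_one]
      refine (S.ker k).mpr ⟨1, fun t => ?_⟩
      rw [hk, h0, hs0, Polar.uMap_zero, one_smul]
    exact hx.1 (uMap_inj R.H hxp (S.P.perp_zero _ _) hg
      (LinearMap.ext fun t => by rw [S.act_one, Polar.uMap_zero]) this).1
  have hyp := R.bperp hx hxp hy
  have hpt := R.img_point h
  rw [zero_smul, add_zero] at hpt
  have hXiso : S.P.Iso (R.f + x) := by
    refine ⟨fun hh => ?_, ?_⟩
    · have := congrArg (fun t => S.P.h R.e t) hh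
      simp [S.P.add_right, R.H.ef, hxp.symm.1] at this
    · simp [S.P.add_left, S.P.add_right, R.H.ff, hx.2, hxp.2, hxp.symm.2]
  obtain ⟨α, γ, hb⟩ := I.mem_line R.H'.swap_pair R.H.isoR hx hXiso R.pf hy hyp.swap_pair
    (z := R.f + x) (α := 1) (γ := 1) (by simp)
  obtain ⟨c, hc0, hc⟩ := hpt
  rw [hb, smul_add, smul_smul, smul_smul] at hc
  have e1 := congrArg (fun t => S.P.h t R.f') hc
  have e2 := congrArg (fun t => S.P.ε * S.P.h t R.e') hc
  simp only [S.P.add_left, S.P.smul_left, R.H'.ff, R.H'.ef, R.H'.fe, R.H'.ee, hA.1, hA.2, hyp.1,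
    hyp.2, mul_zero, mul_one, add_zero, zero_add] at e1 e2
  subst e1
  have hcα : c * α = 1 := by linear_combination (1 - c * α) * S.P.εε - e2
  rw [hcα, one_smul, zero_smul, add_zero] at hc
  have hA' : R.A x = (c * γ) • y := add_left_cancel hc
  refine ⟨h, c * γ, fun h0 => hne (by rw [hA', h0, zero_smul]) rfl, hA'⟩

theorem A_par {x : V} (hx : S.P.Iso x) (hxp : S.P.Perp R.e R.f x) :
    Par (F := F) (I.b x) (R.A x) := (R.img_iso hx hxp (Par.refl _)).2

theorem A_iso {x : V} (hx : S.P.Iso x) (hxp : S.P.Perp R.e R.f x) : S.P.Iso (R.A x) :=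
  (R.A_par hx hxp).iso (I.iso x hx)

theorem A_orth {a w : V} (ha : S.P.Perp R.e R.f a) (hw : S.P.Iso w) (hwp : S.P.Perp R.e R.f w) :
    S.P.h (R.A a) (R.A w) = 0 ↔ S.P.h a w = 0 := by
  obtain ⟨s, hs⟩ := S.P.exists_valid a
  obtain ⟨s', h⟩ := R.exists_S ha hs
  have hX : S.P.Iso (R.f + a + s • R.e) := by
    refine ⟨fun hh => ?_, (R.H.valid_iso ha s).mpr hs⟩
    have := congrArg (fun t => S.P.h t R.e) hh
    simp [S.P.add_left, S.P.smul_left, R.H.fe, R.H.ee, ha.1, S.P.ε_ne] at this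
  have e1 : S.P.h (R.f + a + s • R.e) w = S.P.h a w := by
    simp [S.P.add_left, S.P.smul_left, hwp.symm.1, hwp.symm.2]
  have hA := R.A_perp hwp
  have e2 : S.P.h (R.f' + R.A a + s' • R.e') (R.A w) = S.P.h (R.A a) (R.A w) := by
    simp [S.P.add_left, S.P.smul_left, hA.symm.1, hA.symm.2]
  rw [← e1, ← e2, I.perp _ w hX hw, (R.img_point h).perp, (R.A_par hw hwp).perp']

theorem torus_rel {w : V} (hw : S.P.Iso w) (hwp : S.P.Perp R.e R.f w) {c : F} (hc : c ≠ 0) :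
    ∃ m : F, ∀ x : F, R.A ((S.P.τ c * S.P.τ c * x) • w) = m • R.A (x • w) := by
  obtain ⟨v, K, hv⟩ := R.H.exists_hyp' hw hwp
  obtain ⟨g, hge, hgf, hgw⟩ := S.exists_torus R.H K hv hwp hc
  obtain ⟨k, hk⟩ := S.surj (φ (S.pr g))
  obtain ⟨l, hl0, hle⟩ := I.fix_point hk.symm R.H.isoL hge R.pe
  obtain ⟨l', hl'0, hlf⟩ := I.fix_point hk.symm R.H.isoR hgf R.pf
  obtain ⟨μ, hμ0, hμ⟩ := I.fix_point hk.symm hw hgw (R.A_par hw hwp)
  refine ⟨μ / l', fun x => ?_⟩
  rcases eq_or_ne x 0 with rfl | hx0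
  · simp [R.A_zero]
  have hτ := S.P.τ_ne hc
  have hκ : S.P.τ c * S.P.τ c * x ≠ 0 := mul_ne_zero (mul_ne_zero hτ hτ) hx0
  obtain ⟨h1, hp1⟩ := R.img_iso (hw.smul hx0) (hwp.smul x) (y := R.A w)
    ((I.par w _ hw (Par.of_smul hx0 w)).symm.trans (R.A_par hw hwp))
  obtain ⟨-, -, -, -, g₁, k₁, hg₁, hk₁, e₁⟩ := h1
  obtain ⟨h2, -⟩ := R.img_iso (hw.smul hκ) (hwp.smul _) (Par.refl _)
  obtain ⟨-, -, pB, -, g₂, k₂, hg₂, hk₂, e₂⟩ := h2
  have hconj : g₂ * g = g * g₁ := by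
    refine S.act_inj (R.H.ext_map ?_ ?_ fun z hz => ?_)
    · rw [S.act_mul, S.act_mul, hge, map_smul, hg₂, hg₁, R.H.uMap_left (hwp.smul _),
        R.H.uMap_left (hwp.smul _), hge]
    · rw [S.act_mul, S.act_mul, hgf, map_smul, hg₂, hg₁, R.H.uMap_right (hwp.smul _),
        R.H.uMap_right (hwp.smul _)]
      simp only [zero_smul, add_zero, map_add, map_smul, hgf, hgw, smul_add, smul_smul]
      congr 2
      field_simp
    · have hzp : S.P.Perp R.e R.f (S.act g z) := by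
        constructor
        · have h := S.isom g z R.e
          rw [hge, S.P.smul_right, hz.1] at h
          exact (mul_eq_zero.mp h).resolve_left hτ
        · have h := S.isom g z R.f
          rw [hgf, S.P.smul_right, hz.2] at h
          exact (mul_eq_zero.mp h).resolve_left (S.P.τ_ne (inv_ne_zero hτ))
      rw [S.act_mul, S.act_mul, hg₂, hg₁, Polar.uMap_perp _ hz.1, Polar.uMap_perp _ hzp.1,
        map_sub, map_smul, hge, smul_smul]
      congr 2
      have h := S.isom g z w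
      rw [hgw, S.P.smul_right, S.P.ττ] at h
      simp only [S.P.smul_right, map_mul, S.P.ττ]
      linear_combination (S.P.τ x * c) * h
  have hpk : S.pr (k₂ * k) = S.pr (k * k₁) := by
    rw [map_mul, map_mul, ← e₂, ← e₁, hk, ← map_mul φ, ← map_mul φ, ← map_mul, ← map_mul, hconj]
  obtain ⟨d, hd⟩ := S.pr_eq_iff.mp hpk
  have hA2 : R.A (x • w) ∈ Submodule.span F {R.A w} := by
    obtain ⟨r, -, hr⟩ := hp1
    exact Submodule.mem_span_singleton.mpr ⟨r, hr.symm⟩
  have hk2 : S.act k (R.A (x • w)) = μ • R.A (x • w) := by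
    obtain ⟨r, hr⟩ := Submodule.mem_span_singleton.mp hA2
    rw [← hr, map_smul, hμ, smul_comm]
  have h := hd R.f'
  rw [S.act_mul, S.act_mul, hlf, map_smul, hk₂, hk₁, R.H'.uMap_right pB,
    R.H'.uMap_right (R.A_perp (hwp.smul x))] at h
  simp only [zero_smul, add_zero, map_add, hlf, hk2] at h
  have hd1 : d = 1 := by
    have e := congrArg (fun t => S.P.ε * S.P.h t R.e') h
    simp only [S.P.add_left, S.P.smul_left, R.H'.fe, pB.1, (R.A_perp (hwp.smul x)).1,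
      mul_zero, add_zero] at e
    have : l' * (1 - d) = 0 := by linear_combination e - l' * (1 - d) * S.P.εε
    exact (sub_eq_zero.mp ((mul_eq_zero.mp this).resolve_left hl'0)).symm
  rw [hd1, one_smul, smul_add, add_right_inj] at h
  rw [div_eq_inv_mul, ← smul_smul l'⁻¹, ← h, inv_smul_smul₀ hl'0]

theorem exists_sigma {w : V} (hw : S.P.Iso w) (hwp : S.P.Perp R.e R.f w) :
    ∃ σ : F ≃+* F, ∀ x : F, R.A (x • w) = σ x • R.A w := by
  have hex : ∀ x : F, ∃ t : F, R.A (x • w) = t • R.A w := by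
    intro x
    rcases eq_or_ne x 0 with rfl | hx0
    · exact ⟨0, by simp [R.A_zero]⟩
    obtain ⟨-, c, -, hc⟩ := R.img_iso (hw.smul hx0) (hwp.smul x) (y := R.A w)
      ((I.par w _ hw (Par.of_smul hx0 w)).symm.trans (R.A_par hw hwp))
    exact ⟨c, hc⟩
  choose t ht using hex
  have hne := (R.A_iso hw hwp).1
  have inj : ∀ a b : F, a • R.A w = b • R.A w → a = b := fun a b h => smul_left_injective F hne h
  have t1 : t 1 = 1 := inj _ _ (by rw [← ht, one_smul, one_smul])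
  have tadd : ∀ x y, t (x + y) = t x + t y := fun x y => inj _ _ (by
    rw [← ht, add_smul, R.A_add (hwp.smul x) (hwp.smul y), ht, ht, add_smul])
  have t0 : t 0 = 0 := inj _ _ (by rw [← ht, zero_smul, R.A_zero, zero_smul])
  have tneg : ∀ x, t (-x) = -t x := fun x => by
    have := tadd x (-x); rw [add_neg_cancel, t0] at this; linear_combination -this
  let D : AddSubgroup F :=
    { carrier := {κ | ∀ x, t (κ * x) = t κ * t x}
      zero_mem' := fun x => by rw [zero_mul, t0, zero_mul]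
      add_mem' := fun {a b} ha hb x => by rw [add_mul, tadd, ha x, hb x, tadd, add_mul]
      neg_mem' := fun {a} ha x => by rw [neg_mul, tneg, ha x, tneg, neg_mul] }
  have hsq : ∀ c : F, c ≠ 0 → c * c ∈ D := by
    intro c hc x
    obtain ⟨m, hm⟩ := R.torus_rel hw hwp (S.P.τ_ne hc)
    simp only [S.P.ττ] at hm
    have hmt : ∀ y, t (c * c * y) = m * t y := fun y => inj _ _ (by rw [← ht, hm, ht, smul_smul])
    rw [hmt, show t (c * c) = m by have := hmt 1; rwa [mul_one, t1, mul_one] at this]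
  let s : F →+* F :=
    { toFun := t, map_one' := t1, map_zero' := t0, map_add' := tadd
      map_mul' := fun a b => sq_closure D hsq a b }
  exact ⟨RingEquiv.ofBijective s (Finite.injective_iff_bijective.mp s.injective), ht⟩

theorem ringEquiv_τ (σ : F ≃+* F) (x : F) : σ (S.P.τ x) = S.P.τ (σ x) :=
  addHom_comm σ.toRingHom S.P.τ x

theorem sigma_ε (σ : F ≃+* F) : σ S.P.ε = S.P.ε := by
  rcases S.P.sign with h | h <;> simp [h]

theorem sigma_pair {v₁ v₂ : V} (U : S.P.Hyp v₁ v₂) (h1 : S.P.Perp R.e R.f v₁)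
    (h2 : S.P.Perp R.e R.f v₂) {σ₁ σ₂ : F ≃+* F} (e1 : ∀ x, R.A (x • v₁) = σ₁ x • R.A v₁)
    (e2 : ∀ x, R.A (x • v₂) = σ₂ x • R.A v₂) : σ₁ = σ₂ := by
  obtain ⟨z, hz0, hz⟩ := S.P.skew
  have hiso : S.P.Iso (v₁ + z • v₂) := by
    refine ⟨fun h => ?_, ?_⟩
    · have := congrArg (fun x => S.P.h x v₂) h
      simp [S.P.add_left, S.P.smul_left, U.ef, U.ff] at this
    · simp only [S.P.add_left, S.P.add_right, S.P.smul_left, S.P.smul_right, U.ee, U.ff, U.ef, U.fe]
      linear_combination S.P.ε * hz - S.P.τ z * S.P.εε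
  obtain ⟨σ₃, e3⟩ := R.exists_sigma hiso (h1.add (h2.smul z))
  have hne : S.P.h (R.A v₁) (R.A v₂) ≠ 0 := fun h =>
    one_ne_zero (U.ef.symm.trans ((R.A_orth h1 U.isoR h2).mp h))
  have hii := (R.A_iso U.isoL h1).2
  have hjj := (R.A_iso U.isoR h2).2
  have key : ∀ x, σ₁ x = σ₃ x ∧ σ₂ x = σ₃ x := by
    intro x
    have e := e3 x
    rw [smul_add, smul_smul, R.A_add (h1.smul x) (h2.smul _), e1, e2,
      R.A_add h1 (h2.smul z), e2 z, smul_add, smul_smul, map_mul] at e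
    have p1 := congrArg (fun t => S.P.h t (R.A v₂)) e
    have p2 := congrArg (fun t => S.P.h t (R.A v₁)) e
    simp only [S.P.add_left, S.P.smul_left, hii, hjj, mul_zero, add_zero, zero_add] at p1 p2
    refine ⟨mul_right_cancel₀ hne p1, ?_⟩
    have hne' : S.P.h (R.A v₂) (R.A v₁) ≠ 0 := fun h => hne (S.P.perp_comm h)
    exact mul_right_cancel₀ (show σ₂ z ≠ 0 by simpa using hz0) (mul_right_cancel₀ hne' p2)
  exact RingEquiv.ext fun x => (key x).1.trans (key x).2.symm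

theorem exists_semilinear :
    ∃ σ : F ≃+* F, ∀ (x : F) (a : V), S.P.Perp R.e R.f a → R.A (x • a) = σ x • R.A a := by
  obtain ⟨σ₁, e1⟩ := R.exists_sigma R.K.isoL R.h1
  obtain ⟨σ₂, e2⟩ := R.exists_sigma R.K.isoR R.h2
  have h12 := R.sigma_pair R.K R.h1 R.h2 e1 e2
  refine ⟨σ₂, fun x a ha => ?_⟩
  -- isotropic vectors not orthogonal to `w₂`
  have near : ∀ w, S.P.Iso w → S.P.Perp R.e R.f w → S.P.h R.w₂ w ≠ 0 →
      ∀ x, R.A (x • w) = σ₂ x • R.A w := by
    intro w hw hwp hne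
    obtain ⟨σw, ew⟩ := R.exists_sigma hw hwp
    set c := S.P.τ ((S.P.h R.w₂ w)⁻¹) with hc
    have hc0 : c ≠ 0 := S.P.τ_ne (inv_ne_zero hne)
    have U : S.P.Hyp R.w₂ (c • w) := ⟨R.K.ff, (hw.smul hc0).2, by
      rw [hc, S.P.smul_right, S.P.ττ, inv_mul_cancel₀ hne]⟩
    have ecw : ∀ x, R.A (x • c • w) = σw x • R.A (c • w) := fun x => by
      rw [smul_smul, ew, ew, map_mul, smul_smul]
    rw [R.sigma_pair U R.h2 (hwp.smul c) e2 ecw]
    exact ew
  let Z : Submodule F V :=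
    { carrier := {v | S.P.Perp R.e R.f v ∧ ∀ x : F, R.A (x • v) = σ₂ x • R.A v}
      zero_mem' := ⟨S.P.perp_zero _ _, fun x => by simp [R.A_zero]⟩
      add_mem' := fun {u v} hu hv => ⟨hu.1.add hv.1, fun x => by
        rw [smul_add, R.A_add (hu.1.smul x) (hv.1.smul x), R.A_add hu.1 hv.1, hu.2, hv.2, smul_add]⟩
      smul_mem' := fun c v hv => ⟨hv.1.smul c, fun x => by
        rw [smul_smul, hv.2, hv.2, map_mul, smul_smul]⟩ }
  have hiso : ∀ w, S.P.Iso w → S.P.Perp R.e R.f w → w ∈ Z := by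
    intro w hw hwp
    refine ⟨hwp, ?_⟩
    by_cases h2 : S.P.h R.w₂ w = 0
    · by_cases h1 : S.P.h w R.w₁ = 0
      · have hiw : S.P.Iso (w + R.w₁) := by
          refine ⟨fun h => ?_, by simp [S.P.add_left, S.P.add_right, hw.2, R.K.ee, h1, S.P.perp_comm h1]⟩
          have := congrArg (fun t => S.P.h t R.w₂) h
          simp [S.P.add_left, R.K.ef, S.P.perp_comm h2] at this
        intro x
        have e := near _ hiw (hwp.add R.h1) (by simp [S.P.add_right, h2, R.K.fe, S.P.ε_ne]) x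
        rw [smul_add, R.A_add (hwp.smul x) (R.h1.smul x), R.A_add hwp R.h1, e1, h12, smul_add] at e
        exact add_right_cancel e
      · obtain ⟨σw, ew⟩ := R.exists_sigma hw hwp
        set c := S.P.τ ((S.P.h R.w₁ w)⁻¹) with hc
        have hne : S.P.h R.w₁ w ≠ 0 := fun h => h1 (S.P.perp_comm h)
        have hc0 : c ≠ 0 := S.P.τ_ne (inv_ne_zero hne)
        have U : S.P.Hyp R.w₁ (c • w) := ⟨R.K.ee, (hw.smul hc0).2, by
          rw [hc, S.P.smul_right, S.P.ττ, inv_mul_cancel₀ hne]⟩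
        have ecw : ∀ x, R.A (x • c • w) = σw x • R.A (c • w) := fun x => by
          rw [smul_smul, ew, ew, map_mul, smul_smul]
        rw [← h12, R.sigma_pair U R.h1 (hwp.smul c) e1 ecw]
        exact ew
    · exact near w hw hwp h2
  exact (R.H.span_iso R.K R.h1 R.h2 Z hiso ha).2 x

theorem m_pair {σ : F ≃+* F} (hσ : ∀ (x : F) (a : V), S.P.Perp R.e R.f a → R.A (x • a) = σ x • R.A a)
    {v₁ v₂ : V} (U : S.P.Hyp v₁ v₂) (h1 : S.P.Perp R.e R.f v₁) (h2 : S.P.Perp R.e R.f v₂)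
    {m₁ m₂ : F}
    (e1 : ∀ a, S.P.Perp R.e R.f a → S.P.h (R.A a) (R.A v₁) = m₁ * σ (S.P.h a v₁))
    (e2 : ∀ a, S.P.Perp R.e R.f a → S.P.h (R.A a) (R.A v₂) = m₂ * σ (S.P.h a v₂))
    (em : ∀ w, S.P.Iso w → S.P.Perp R.e R.f w →
      ∃ m, ∀ a, S.P.Perp R.e R.f a → S.P.h (R.A a) (R.A w) = m * σ (S.P.h a w)) : m₁ = m₂ := by
  obtain ⟨z, hz0, hz⟩ := S.P.skew
  have hiso : S.P.Iso (v₁ + z • v₂) := by
    refine ⟨fun h => ?_, ?_⟩
    · have := congrArg (fun x => S.P.h x v₂) h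
      simp [S.P.add_left, S.P.smul_left, U.ef, U.ff] at this
    · simp only [S.P.add_left, S.P.add_right, S.P.smul_left, S.P.smul_right, U.ee, U.ff, U.ef, U.fe]
      linear_combination S.P.ε * hz - S.P.τ z * S.P.εε
  obtain ⟨m₃, e3⟩ := em _ hiso (h1.add (h2.smul z))
  have a1 := e3 v₁ h1
  have a2 := e3 v₂ h2
  rw [R.A_add h1 (h2.smul z), hσ z v₂ h2, S.P.add_right, S.P.smul_right, e1 _ h1, e2 _ h1,
    S.P.add_right, S.P.smul_right, U.ee, U.ef, map_zero, map_one, mul_zero, zero_add, zero_add,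
    mul_one, mul_one, ringEquiv_τ] at a1
  rw [R.A_add h1 (h2.smul z), hσ z v₂ h2, S.P.add_right, S.P.smul_right, e1 _ h2, e2 _ h2,
    S.P.add_right, S.P.smul_right, U.fe, U.ff, map_zero] at a2
  simp only [mul_zero, add_zero, sigma_ε] at a2
  have h3 : m₁ = m₃ := mul_right_cancel₀ S.P.ε_ne a2
  refine h3.trans ((mul_right_cancel₀ (S.P.τ_ne (show σ z ≠ 0 by simpa using hz0)) ?_).symm)
  linear_combination a1

theorem exists_m {σ : F ≃+* F} (hσ : ∀ (x : F) (a : V), S.P.Perp R.e R.f a → R.A (x • a) = σ x • R.A a) :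
    ∃ m : F, m ≠ 0 ∧ S.P.τ m = m ∧
      ∀ a b, S.P.Perp R.e R.f a → S.P.Perp R.e R.f b → S.P.h (R.A a) (R.A b) = m * σ (S.P.h a b) := by
  have em : ∀ w, S.P.Iso w → S.P.Perp R.e R.f w →
      ∃ m, ∀ a, S.P.Perp R.e R.f a → S.P.h (R.A a) (R.A w) = m * σ (S.P.h a w) := by
    intro w hw hwp
    obtain ⟨a₀, ha₀, h1⟩ := R.H.perp_ne hwp hw.1
    set b₀ := S.P.ε • a₀ with hb₀
    have hb : S.P.h b₀ w = 1 := by
      rw [hb₀, S.P.smul_left, S.P.swap, h1, map_one, mul_one, S.P.εε]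
    refine ⟨S.P.h (R.A b₀) (R.A w), fun a ha => ?_⟩
    set a' := a - S.P.h a w • b₀ with ha'
    have hp' : S.P.Perp R.e R.f a' := ha.sub ((ha₀.smul _).smul _)
    have h0 : S.P.h a' w = 0 := by rw [ha', S.P.sub_left, S.P.smul_left, hb, mul_one, sub_self]
    have hd : a = a' + S.P.h a w • b₀ := by rw [ha', sub_add_cancel]
    conv_lhs => rw [hd, R.A_add hp' ((ha₀.smul _).smul _), hσ _ _ (ha₀.smul _), S.P.add_left,
      S.P.smul_left, (R.A_orth hp' hw hwp).mpr h0, zero_add]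
    rw [mul_comm]
  obtain ⟨m₁, e1⟩ := em _ R.K.isoL R.h1
  obtain ⟨m₂, e2⟩ := em _ R.K.isoR R.h2
  have h12 := R.m_pair hσ R.K R.h1 R.h2 e1 e2 em
  have near : ∀ (u w : V) (mu : F), S.P.Iso u → S.P.Perp R.e R.f u → S.P.Iso w →
      S.P.Perp R.e R.f w → S.P.h u w ≠ 0 →
      (∀ a, S.P.Perp R.e R.f a → S.P.h (R.A a) (R.A u) = mu * σ (S.P.h a u)) →
      ∀ a, S.P.Perp R.e R.f a → S.P.h (R.A a) (R.A w) = mu * σ (S.P.h a w) := by
    intro u w mu hu hup hw hwp hne eu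
    obtain ⟨mw, ew⟩ := em w hw hwp
    obtain ⟨c, hc⟩ : ∃ c : F, c = S.P.τ ((S.P.h u w)⁻¹) := ⟨_, rfl⟩
    have hc0 : c ≠ 0 := hc ▸ S.P.τ_ne (inv_ne_zero hne)
    have U : S.P.Hyp u (c • w) := ⟨hu.2, (hw.smul hc0).2, by
      rw [hc, S.P.smul_right, S.P.ττ, inv_mul_cancel₀ hne]⟩
    have ecw : ∀ a, S.P.Perp R.e R.f a → S.P.h (R.A a) (R.A (c • w)) = mw * σ (S.P.h a (c • w)) :=
      fun a ha => by
        rw [hσ c w hwp, S.P.smul_right, S.P.smul_right, map_mul, ew a ha, ringEquiv_τ]; ring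
    rw [R.m_pair hσ U hup (hwp.smul c) eu ecw em]
    exact ew
  have hm0 : m₂ ≠ 0 := by
    rintro rfl
    have := (R.A_orth R.h1 R.K.isoR R.h2).mp (by rw [e2 _ R.h1, zero_mul])
    exact one_ne_zero (R.K.ef.symm.trans this)
  refine ⟨m₂, hm0, ?_, fun a b ha hb => ?_⟩
  · have p := e2 _ R.h1
    have p' := e1 _ R.h2
    rw [S.P.swap (R.A R.w₁), p, R.K.ef, map_one, mul_one, R.K.fe, sigma_ε, h12] at p'
    exact mul_left_cancel₀ S.P.ε_ne (p'.trans (mul_comm _ _))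
  let Z : Submodule F V :=
    { carrier := {v | S.P.Perp R.e R.f v ∧
        ∀ a, S.P.Perp R.e R.f a → S.P.h (R.A a) (R.A v) = m₂ * σ (S.P.h a v)}
      zero_mem' := ⟨S.P.perp_zero _ _, fun a _ => by simp [R.A_zero]⟩
      add_mem' := fun {u v} hu hv => ⟨hu.1.add hv.1, fun a ha => by
        rw [R.A_add hu.1 hv.1, S.P.add_right, S.P.add_right, hu.2 a ha, hv.2 a ha, map_add, mul_add]⟩
      smul_mem' := fun c v hv => ⟨hv.1.smul c, fun a ha => by
        rw [hσ c v hv.1, S.P.smul_right, S.P.smul_right, hv.2 a ha, map_mul, ringEquiv_τ]; ring⟩ }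
  have hiso : ∀ w, S.P.Iso w → S.P.Perp R.e R.f w → w ∈ Z := by
    intro w hw hwp
    refine ⟨hwp, ?_⟩
    by_cases h2 : S.P.h R.w₂ w = 0
    · by_cases h1 : S.P.h R.w₁ w = 0
      · have hiw : S.P.Iso (w + R.w₁) := by
          refine ⟨fun h => ?_, by simp [S.P.add_left, S.P.add_right, hw.2, R.K.ee, h1, S.P.perp_comm h1]⟩
          have := congrArg (fun t => S.P.h t R.w₂) h
          simp [S.P.add_left, R.K.ef, S.P.perp_comm h2] at this
        intro a ha
        have e := near R.w₂ _ m₂ R.K.isoR R.h2 hiw (hwp.add R.h1)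
          (by simp [S.P.add_right, h2, R.K.fe, S.P.ε_ne]) e2 a ha
        rw [R.A_add hwp R.h1, S.P.add_right, S.P.add_right, e1 a ha, h12, map_add, mul_add] at e
        exact add_right_cancel e
      · exact near R.w₁ w m₂ R.K.isoL R.h1 hw hwp h1 (h12 ▸ e1)
    · exact near R.w₂ w m₂ R.K.isoR R.h2 hw hwp h2 e2
  exact (R.H.span_iso R.K R.h1 R.h2 Z hiso hb).2 a ha

end Frame

end CfsgLib.PolarAut
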