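import Cfsg.Agent.Lib.SympSimple
import Cfsg.Agent.Lib.PSL2.Aut
import Cfsg.Prelude.Def_LieTypeDatum

/-!
Automorphisms of `PSp_2m` induced by similitudes and by field automorphisms, and their rigidity.
-/

set_option autoImplicit false
set_option linter.unusedSectionVars false

namespace CfsgLib.PSpAut

open Matrix CfsgLib.SympGen
open CfsgLib.SympTransvection (tv)
open scoped MatrixGroups

variable {F : Type*} [Field F] {m : ℕ}

local notation "ι" => (Fin m ⊕ Fin m)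
local notation "Vec" => (Fin m ⊕ Fin m → F)
local notation "Sp" => Matrix.symplecticGroup (Fin m) F
local notation "GS" => Cfsg.GSp m F
local notation "Jm" => Matrix.J (Fin m) F

theorem B_mul (M N : Matrix ι ι F) (u v : Vec) :
    B (M *ᵥ u) (N *ᵥ v) = u ⬝ᵥ ((Mᵀ * Jm * N) *ᵥ v) := by
  show M *ᵥ u ⬝ᵥ Jm *ᵥ (N *ᵥ v) = _
  rw [← Matrix.mulVec_mulVec, ← Matrix.mulVec_mulVec, dotProduct_mulVec u, Matrix.vecMul_transpose]

theorem mem_GS {g : GL ι F} : g ∈ GS ↔ ∃ c : Fˣ, g.1ᵀ * Jm * g.1 = (c : F) • Jm := by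
  constructor
  · rintro ⟨c, hc⟩
    refine ⟨c, Matrix.ext_of_mulVec_single fun j => ?_⟩
    refine dotProduct_eq _ _ fun u => ?_
    rw [dotProduct_comm, ← B_mul, dotProduct_comm _ u, smul_mulVec, dotProduct_smul, smul_eq_mul]
    exact hc u _
  · rintro ⟨c, hc⟩
    refine ⟨c, fun u v => ?_⟩
    show B (g.1 *ᵥ u) (g.1 *ᵥ v) = _
    rw [B_mul, hc, smul_mulVec, dotProduct_smul, smul_eq_mul]
    rfl

theorem sp_iff {M : Matrix ι ι F} : M ∈ Sp ↔ Mᵀ * Jm * M = Jm := SymplecticGroup.mem_iff'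

theorem det_J_ne : (Jm).det ≠ 0 := by
  intro h
  have := Matrix.J_det_mul_J_det (R := F) (l := Fin m)
  rw [h, zero_mul] at this
  exact zero_ne_one this

theorem J_ne_zero (hm : 1 ≤ m) : (Jm) ≠ 0 := fun h => by
  have := congrFun (congrFun h (Sum.inr ⟨0, hm⟩)) (Sum.inl ⟨0, hm⟩)
  simp [Matrix.J] at this

theorem conj_mem (x : ↥(GS)) (s : Sp) : x.1.1 * s.1 * (x.1⁻¹).1 ∈ Sp := by
  obtain ⟨c, hc⟩ := mem_GS.mp x.2
  have hA : (x.1⁻¹).1ᵀ * x.1.1ᵀ = 1 := by rw [← transpose_mul, Units.mul_inv, transpose_one]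
  rw [sp_iff]
  calc _ = (x.1⁻¹).1ᵀ * (s.1ᵀ * (x.1.1ᵀ * Jm * x.1.1) * s.1) * (x.1⁻¹).1 := by
        simp only [transpose_mul, Matrix.mul_assoc]
    _ = (x.1⁻¹).1ᵀ * ((c : F) • Jm) * (x.1⁻¹).1 := by
        rw [hc, Matrix.mul_smul, Matrix.smul_mul, sp_iff.mp s.2]
    _ = _ := by
        rw [← hc, ← Matrix.mul_assoc, ← Matrix.mul_assoc, hA, Matrix.one_mul, Matrix.mul_assoc,
          Units.mul_inv, Matrix.mul_one]

/-- Conjugation by similitudes. -/
noncomputable def conjSp : ↥(GS) →* MulAut Sp where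
  toFun x :=
    { toFun := fun s => ⟨x.1.1 * s.1 * (x.1⁻¹).1, conj_mem x s⟩
      invFun := fun s => ⟨(x⁻¹).1.1 * s.1 * ((x⁻¹).1⁻¹).1, conj_mem x⁻¹ s⟩
      left_inv := fun s => Subtype.ext (by
        show (x.1⁻¹).1 * (x.1.1 * s.1 * (x.1⁻¹).1) * (x.1⁻¹⁻¹).1 = s.1
        rw [inv_inv, ← Matrix.mul_assoc, ← Matrix.mul_assoc, Units.inv_mul, Matrix.one_mul, Matrix.mul_assoc,
          Units.inv_mul, Matrix.mul_one])
      right_inv := fun s => Subtype.ext (by
        show x.1.1 * ((x.1⁻¹).1 * s.1 * (x.1⁻¹⁻¹).1) * (x.1⁻¹).1 = s.1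
        rw [inv_inv, ← Matrix.mul_assoc, ← Matrix.mul_assoc, Units.mul_inv, Matrix.one_mul, Matrix.mul_assoc,
          Units.mul_inv, Matrix.mul_one])
      map_mul' := fun s t => Subtype.ext (by
        show x.1.1 * (s.1 * t.1) * (x.1⁻¹).1 = x.1.1 * s.1 * (x.1⁻¹).1 * (x.1.1 * t.1 * (x.1⁻¹).1)
        simp only [Matrix.mul_assoc, Units.inv_mul_cancel_left]) }
  map_one' := MulEquiv.ext fun s => Subtype.ext (by
    show (1 : GL ι F).1 * s.1 * ((1 : GL ι F)⁻¹).1 = s.1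
    simp)
  map_mul' x y := MulEquiv.ext fun s => Subtype.ext (by
    show (x.1 * y.1).1 * s.1 * ((x.1 * y.1)⁻¹).1 = x.1.1 * (y.1.1 * s.1 * (y.1⁻¹).1) * (x.1⁻¹).1
    rw [_root_.mul_inv_rev, Units.val_mul, Units.val_mul]
    simp only [Matrix.mul_assoc])

theorem J_map (σ : F ≃+* F) : (Jm).map σ = Jm := by
  ext i j
  rcases i with i | i <;> rcases j with j | j <;> simp [Matrix.J, Matrix.one_apply, apply_ite]

theorem map_mem (σ : F ≃+* F) (s : Sp) : s.1.map σ ∈ Sp := by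
  rw [sp_iff, ← J_map σ, ← transpose_map, ← Matrix.map_mul, ← Matrix.map_mul, sp_iff.mp s.2]

/-- Field automorphisms of `Sp`. -/
noncomputable def fieldSp : RingAut F →* MulAut Sp where
  toFun σ :=
    { toFun := fun s => ⟨s.1.map σ, map_mem σ s⟩
      invFun := fun s => ⟨s.1.map σ.symm, map_mem σ.symm s⟩
      left_inv := fun s => Subtype.ext (by ext i j; simp)
      right_inv := fun s => Subtype.ext (by ext i j; simp)
      map_mul' := fun s t => Subtype.ext (by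
        show (s.1 * t.1).map σ = s.1.map σ * t.1.map σ
        rw [Matrix.map_mul]) }
  map_one' := MulEquiv.ext fun s => Subtype.ext (by ext i j; rfl)
  map_mul' σ τ := MulEquiv.ext fun s => Subtype.ext (by ext i j; rfl)

/-- Conjugation by similitudes, on `PSp`. -/
noncomputable def conjS : ↥(GS) →* MulAut (Cfsg.PSp m F) :=
  (PSL2.centreQuotAut Sp).comp conjSp

/-- Field automorphisms of `PSp`. -/
noncomputable def fieldS : RingAut F →* MulAut (Cfsg.PSp m F) :=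
  (PSL2.centreQuotAut Sp).comp fieldSp

theorem conjS_mk (x : ↥(GS)) (s : Sp) :
    conjS x (QuotientGroup.mk s) = QuotientGroup.mk (conjSp x s) := rfl

theorem fieldS_mk (σ : RingAut F) (s : Sp) :
    fieldS σ (QuotientGroup.mk s : Cfsg.PSp m F) = QuotientGroup.mk (fieldSp σ s) := rfl

/-- The entrywise image of a similitude. -/
noncomputable def mapS (σ : RingAut F) (x : ↥(GS)) : ↥(GS) :=
  ⟨GeneralLinearGroup.map (σ : F ≃+* F).toRingHom x.1, by
    obtain ⟨c, hc⟩ := mem_GS.mp x.2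
    refine mem_GS.mpr ⟨Units.map ((σ : F ≃+* F) : F →* F) c, ?_⟩
    show (x.1.1.map σ)ᵀ * Jm * x.1.1.map σ = _
    rw [← J_map σ, ← transpose_map, ← Matrix.map_mul, ← Matrix.map_mul, hc]
    ext i j
    have := congrFun (congrFun (J_map σ) i) j
    simp only [Matrix.map_apply] at this
    simp [this]⟩

theorem fieldS_conjS (σ : RingAut F) (x : ↥(GS)) :
    fieldS σ * conjS x = conjS (mapS σ x) * fieldS σ := by
  refine MulEquiv.ext fun a => QuotientGroup.induction_on a fun s => ?_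
  show QuotientGroup.mk (fieldSp σ (conjSp x s)) = QuotientGroup.mk (conjSp (mapS σ x) (fieldSp σ s))
  congr 1
  refine Subtype.ext ?_
  show (x.1.1 * s.1 * (x.1⁻¹).1).map σ = x.1.1.map σ * s.1.map σ *
    ((GeneralLinearGroup.map (σ : F ≃+* F).toRingHom x.1)⁻¹).1
  rw [← map_inv, Matrix.map_mul, Matrix.map_mul]
  rfl

theorem semilinear_eq {β : MulAut (Cfsg.PSp m F)} {g : GL ι F} {σ : RingAut F} (hg : g ∈ GS)
    (h : Cfsg.IsInducedBySemilinearPSp g σ β) : β = conjS ⟨g, hg⟩ * fieldS σ :=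
  MulEquiv.ext fun a => QuotientGroup.induction_on a fun s => h s _ rfl

theorem field_eq {σ : RingAut F} {β : MulAut (Cfsg.PSp m F)} (h : Cfsg.IsStdFieldAutPSp σ β) :
    β = fieldS σ :=
  MulEquiv.ext fun a => QuotientGroup.induction_on a fun s => h s _ rfl

theorem isField (σ : RingAut F) : Cfsg.IsStdFieldAutPSp σ (fieldS (m := m) σ) := by
  intro s s' h
  rw [fieldS_mk]
  congr 1
  exact Subtype.ext h.symm

theorem isInnerDiag (x : ↥(GS)) : Cfsg.IsInnerDiagonalAutPSp (conjS x) := by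
  refine ⟨x.1, x.2, fun s s' h => ?_⟩
  rw [conjS_mk]
  congr 1
  refine Subtype.ext ?_
  show x.1.1 * s.1 * (x.1⁻¹).1 = s'.1
  rw [h]
  rfl

theorem inndiag_eq : Cfsg.inndiagPSp m F = (conjS (m := m) (F := F)).range := by
  apply le_antisymm
  · refine (Subgroup.closure_le _).mpr ?_
    rintro β ⟨g, hg, h⟩
    refine ⟨⟨g, hg⟩, ?_⟩
    rw [semilinear_eq hg (σ := 1) h, map_one, mul_one]
  · rintro _ ⟨x, rfl⟩
    exact Subgroup.subset_closure (isInnerDiag x)

/-- Only scalars commute semilinearly with `Sp`. -/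
theorem rigid (hm : 1 ≤ m) (x : GL ι F) (τ : RingAut F)
    (hcomm : ∀ s : Sp, x.1 * s.1.map τ = s.1 * x.1) : τ = 1 ∧ ∃ μ : F, x.1 = μ • 1 := by
  classical
  let T : Vec → Vec := fun v => x.1 *ᵥ (fun i => τ (v i))
  have Tadd : ∀ u v, T (u + v) = T u + T v := fun u v => by
    simp only [T, ← mulVec_add]; congr 1; funext i; simp
  have Tsmul : ∀ (a : F) v, T (a • v) = τ a • T v := fun a v => by
    simp only [T, ← mulVec_smul]; congr 1; funext i; simp
  have Tinj : Function.Injective T := fun u v h => by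
    funext i
    exact τ.injective (congrFun (Matrix.mulVec_injective_of_isUnit x.isUnit h) i)
  have Ts : ∀ (s : Sp) v, T (s.1 *ᵥ v) = s.1 *ᵥ T v := fun s v => by
    show x.1 *ᵥ (fun i => τ ((s.1 *ᵥ v) i)) = s.1 *ᵥ (x.1 *ᵥ fun i => τ (v i))
    rw [show (fun i => τ ((s.1 *ᵥ v) i)) = s.1.map τ *ᵥ (fun i => τ (v i)) from
      funext fun i => RingHom.map_mulVec (τ : F ≃+* F).toRingHom s.1 v i, mulVec_mulVec, mulVec_mulVec, hcomm]
  have fix : ∀ u : Vec, u ≠ 0 → ∃ μ : F, T u = μ • u := by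
    intro u hu
    obtain ⟨z, hz⟩ := SympTransvection.exists_dot_ne hu
    have e := Ts (tv u (B z u)⁻¹) z
    rw [tv_apply, tv_apply, Tadd, inv_mul_cancel₀ hz, one_smul, add_right_inj] at e
    exact ⟨_, e⟩
  have Tzero : T 0 = 0 := by simpa using Tsmul 0 0
  have hT0 : ∀ u, T u = 0 → u = 0 := fun u h => Tinj (h.trans Tzero.symm)
  let e₁ : Vec := bas (Sum.inl ⟨0, hm⟩)
  let e₂ : Vec := bas (Sum.inr ⟨0, hm⟩)
  have h12 : ∀ a b : F, a • e₁ + b • e₂ = 0 → a = 0 ∧ b = 0 := fun a b h =>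
    ⟨by simpa [e₁, e₂] using congrFun h (Sum.inl ⟨0, hm⟩), by simpa [e₁, e₂] using congrFun h (Sum.inr ⟨0, hm⟩)⟩
  have h1 : e₁ ≠ 0 := fun h => one_ne_zero (h12 1 0 (by simp [h])).1
  have h2 : e₂ ≠ 0 := fun h => one_ne_zero (h12 0 1 (by simp [h])).2
  obtain ⟨μ, hμ⟩ := fix e₁ h1
  have hμ0 : μ ≠ 0 := fun h => h1 (hT0 _ (by rw [hμ, h, zero_smul]))
  obtain ⟨ν, hν⟩ := fix e₂ h2
  have key : ∀ b : F, τ b * ν = μ * b := by
    intro b
    obtain ⟨κ, hκ⟩ := fix (e₁ + b • e₂) (fun h => one_ne_zero (h12 1 b (by simpa using h)).1)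
    rw [Tadd, Tsmul, hμ, hν, smul_smul, smul_add, smul_smul] at hκ
    obtain ⟨ha, hb⟩ := h12 (μ - κ) (τ b * ν - κ * b) (by rw [sub_smul, sub_smul]; rw [← sub_eq_zero] at hκ; rw [← hκ]; abel)
    rw [sub_eq_zero] at ha hb
    rw [hb, ha]
  have hνμ : ν = μ := by simpa using key 1
  have hτ : τ = 1 := RingEquiv.ext fun b => mul_right_cancel₀ hμ0 (by
    have := key b
    rw [hνμ] at this
    show τ b * μ = b * μ
    rw [this, mul_comm])
  refine ⟨hτ, μ, Matrix.ext_of_mulVec_single fun i => ?_⟩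
  have hlin : ∀ v, T v = x.1 *ᵥ v := fun v => by
    show x.1 *ᵥ _ = _
    rw [hτ]
    rfl
  rw [smul_mulVec, Matrix.one_mulVec, ← hlin]
  generalize hu : (Pi.single i (1 : F) : Vec) = u
  rcases eq_or_ne u 0 with rfl | hu0
  · rw [smul_zero, hlin, mulVec_zero]
  obtain ⟨κ, hκ⟩ := fix u hu0
  by_cases hc : ∃ a b : F, u = a • e₁ + b • e₂
  · obtain ⟨a, b, rfl⟩ := hc
    rw [Tadd, Tsmul, Tsmul, hμ, hν, hνμ, hτ, RingAut.one_apply, RingAut.one_apply, smul_add]
    simp only [smul_smul, mul_comm μ]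
  · push_neg at hc
    obtain ⟨lam, hlam⟩ := fix (u + e₁) (fun h => hc (-1) 0 (by rw [zero_smul, add_zero, neg_one_smul]; exact eq_neg_of_add_eq_zero_left h))
    rw [Tadd, hκ, hμ, smul_add, ← sub_eq_zero] at hlam
    by_cases hk : κ = lam
    · subst hk
      rw [add_sub_add_left_eq_sub, ← sub_smul, smul_eq_zero, sub_eq_zero] at hlam
      rw [hκ, hlam.resolve_right h1]
    · refine absurd ?_ (hc ((lam - μ) * (κ - lam)⁻¹) 0)
      rw [zero_smul, add_zero, mul_comm, ← smul_smul, eq_inv_smul_iff₀ (sub_ne_zero.mpr hk), sub_smul, sub_smul,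
        ← sub_eq_zero, ← hlam]
      abel

variable [Fintype F]

/-- Only scalars act trivially on `PSp`. -/
theorem conj_field_one (hm : 2 ≤ m) (h22 : m = 2 → 3 ≤ Fintype.card F) (x : ↥(GS)) (τ : RingAut F)
    (h : conjS x * fieldS τ = 1) : τ = 1 ∧ ∃ μ : F, μ ≠ 0 ∧ x.1.1 = μ • 1 := by
  let A : MulAut Sp := conjSp x * fieldSp τ
  have hA : ∀ s, s⁻¹ * A s ∈ Subgroup.center Sp := fun s => by
    have e := congrArg (fun β : MulAut (Cfsg.PSp m F) => β (QuotientGroup.mk s)) h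
    exact QuotientGroup.eq.mp e.symm
  let δ : Sp →* Subgroup.center Sp :=
    { toFun := fun s => ⟨s⁻¹ * A s, hA s⟩
      map_one' := Subtype.ext (by simp)
      map_mul' := fun s t => Subtype.ext (by
        show (s * t)⁻¹ * A (s * t) = s⁻¹ * A s * (t⁻¹ * A t)
        rw [map_mul, _root_.mul_inv_rev, mul_assoc (t⁻¹), ← mul_assoc s⁻¹, ← mul_assoc t⁻¹,
          (Subgroup.mem_center_iff.mp (hA s) t⁻¹), mul_assoc]) }
  have hδ : ∀ s, A s = s := fun s => by
    have hk : commutator Sp ≤ δ.ker := by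
      rw [commutator_def, Subgroup.commutator_le]
      intro a _ b _
      rw [MonoidHom.mem_ker, map_commutatorElement, commutatorElement_eq_one_iff_mul_comm]
      exact Subtype.ext ((Subgroup.mem_center_iff.mp (δ a).2 (δ b)).symm)
    rw [SympSimple.perfect_fintype (by
      rcases Nat.lt_or_ge m 3 with h3 | h3
      · exact Or.inr (Or.inl ⟨by omega, h22 (by omega)⟩)
      · exact Or.inl h3)] at hk
    have := congrArg Subtype.val (hk (Subgroup.mem_top s))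
    exact (inv_mul_eq_one.mp this).symm
  obtain ⟨hτ, μ, hμ⟩ := rigid (by omega) x.1 τ fun s => by
    have e : x.1.1 * s.1.map τ * (x.1⁻¹).1 = s.1 := congrArg Subtype.val (hδ s)
    conv_rhs => rw [← e]
    rw [Matrix.mul_assoc (x.1.1 * s.1.map τ), Units.inv_mul, Matrix.mul_one]
  refine ⟨hτ, μ, ?_, hμ⟩
  rintro rfl
  rw [zero_smul] at hμ
  haveI : Nonempty ι := ⟨Sum.inl ⟨0, by omega⟩⟩
  exact x.1.ne_zero hμ

end CfsgLib.PSpAut
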