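import Cfsg.Agent.Lib.PolarAut.SpOut
import Cfsg.Agent.Lib.PolarAut.FieldGen

/-!
Field automorphisms of `PSp_2m(q)`.
-/

set_option autoImplicit false

namespace CfsgLib.PSpAut

open Matrix CfsgLib.SympGen
open scoped MatrixGroups

variable {F : Type*} [Field F] {m : ℕ}

local notation "ι'" => (Fin m ⊕ Fin m)
local notation "GS" => Cfsg.GSp m F
local notation "Jm" => Matrix.J (Fin m) F
local notation "A" => MulAut (Cfsg.PSp m F)

theorem mapS_val (σ : RingAut F) (x : ↥(GS)) : (mapS σ x).1.1 = x.1.1.map σ := rfl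

theorem conj_fieldS (σ : RingAut F) (h : ↥(GS)) :
    conjS h * fieldS σ * (conjS h)⁻¹ = conjS (h * mapS σ h⁻¹) * fieldS σ := by
  rw [mul_assoc, ← map_inv, fieldS_conjS, ← mul_assoc, ← map_mul]

theorem mapS_inv_val (σ : RingAut F) (h : ↥(GS)) :
    (mapS σ h⁻¹).1.1 * h.1.1.map σ = 1 := by
  rw [mapS_val, ← Matrix.map_mul]
  show ((h.1⁻¹).1 * h.1.1).map σ = 1
  rw [Units.inv_mul, Matrix.map_one _ (map_zero σ) (map_one σ)]

variable [Fintype F]

theorem fieldS_inj (hm : 2 ≤ m) (h22 : m = 2 → 3 ≤ Fintype.card F) :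
    Function.Injective (fieldS : RingAut F →* A) :=
  (injective_iff_map_eq_one _).mpr fun σ h =>
    (conj_field_one hm h22 1 σ (by rw [map_one, one_mul, h])).1

theorem exists_conj_field (hm : 2 ≤ m) (h22 : m = 2 → 3 ≤ Fintype.card F) {x : A}
    (hx : Cfsg.IsFieldAutClassPSp x) :
    ∃ (α : A) (σ : RingAut F), σ ≠ 1 ∧ x = α * fieldS σ * α⁻¹ ∧ orderOf x = orderOf σ := by
  obtain ⟨α, σ, hσ, h⟩ := hx
  have e : x = α⁻¹ * fieldS σ * α⁻¹⁻¹ := by rw [← field_eq h]; group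
  refine ⟨α⁻¹, σ, hσ, e, ?_⟩
  rw [e, ← MulAut.conj_apply, MulEquiv.orderOf_eq, orderOf_injective _ (fieldS_inj hm h22)]

/-- Lang's theorem for field automorphisms in the conformal symplectic group. -/
theorem conjUnder_of_pow (hm : 2 ≤ m) (h22 : m = 2 → 3 ≤ Fintype.card F) (σ : RingAut F) (g : ↥(GS))
    (h : (conjS g * fieldS σ : A) ^ orderOf σ = 1) :
    ∃ k : ↥(GS), conjS g * fieldS σ = conjS k * fieldS σ * (conjS k)⁻¹ := by
  classical
  haveI : Nonempty ι' := ⟨Sum.inl ⟨0, by omega⟩⟩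
  haveI : Fintype (PSLn.fixedField σ) := Fintype.ofFinite _
  obtain ⟨ι, hι⟩ := FieldGen.exists_emb σ (PSLn.fixedField σ) Nat.card_eq_fintype_card.symm
  rw [FieldGen.pow_conj_field conjS fieldS mapS fieldS_conjS, pow_orderOf_eq_one] at h
  obtain ⟨-, c, -, hc⟩ := conj_field_one hm h22 _ _ h
  obtain ⟨hh, d, hd, hdh⟩ := FieldGen.exists_descent σ g.1
    (fun k => ((fun y => g * mapS σ y)^[k] 1).1.1) rfl
    (fun k => by simp only [Function.iterate_succ_apply']; rfl) hc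
  have hfix : hh.1.map σ = d⁻¹ • ((g.1⁻¹).1 * hh.1) := by
    have e := congrArg (fun M => d⁻¹ • ((g.1⁻¹).1 * M)) hdh
    simp only [Matrix.mul_smul, smul_smul, inv_mul_cancel₀ hd, one_smul, ← Matrix.mul_assoc, Units.inv_mul,
      Matrix.one_mul] at e
    exact e
  obtain ⟨c', hc'⟩ := mem_GS.mp g.2
  obtain ⟨H, hHdef⟩ : ∃ H, H = hh.1ᵀ * Jm * hh.1 := ⟨_, rfl⟩
  have hH : H = (d * d * (c' : F)) • H.map σ := by
    rw [hHdef]
    conv_lhs => rw [← hdh]
    rw [Matrix.map_mul, Matrix.map_mul, J_map, transpose_map, transpose_smul, Matrix.smul_mul, Matrix.smul_mul,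
      Matrix.mul_smul, smul_smul, transpose_mul]
    calc (d * d) • ((hh.1.map σ)ᵀ * g.1.1ᵀ * Jm * (g.1.1 * hh.1.map σ))
        = (d * d) • ((hh.1.map σ)ᵀ * (g.1.1ᵀ * Jm * g.1.1) * hh.1.map σ) := by
          simp only [Matrix.mul_assoc]
      _ = _ := by rw [hc', Matrix.mul_smul, Matrix.smul_mul, smul_smul]
  have hdc : d * d * (c' : F) ≠ 0 := mul_ne_zero (mul_ne_zero hd hd) c'.ne_zero
  have hdet : H.det ≠ 0 := by
    rw [hHdef, det_mul, det_mul, det_transpose]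
    exact mul_ne_zero (mul_ne_zero ((Matrix.isUnit_iff_isUnit_det _).mp hh.isUnit).ne_zero det_J_ne)
      ((Matrix.isUnit_iff_isUnit_det _).mp hh.isUnit).ne_zero
  obtain ⟨b, ρ, hb, hρ⟩ := FieldGen.exists_rho σ ι hι (H := H) (fun h0 => hdet (by rw [h0, det_zero]))
    (a := (d * d * (c' : F))⁻¹) (by conv_rhs => rw [hH, smul_smul, inv_mul_cancel₀ hdc, one_smul])
  have hskew : ρᵀ = -ρ := Matrix.map_injective ι.injective (by
    show ρᵀ.map ι = (-ρ).map ι
    rw [transpose_map, show (-ρ).map ι = -(ρ.map ι) by ext i j; simp, hρ, transpose_smul, hHdef, transpose_mul,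
      transpose_mul, transpose_transpose, Matrix.J_transpose, Matrix.neg_mul, Matrix.mul_neg, smul_neg,
      Matrix.mul_assoc])
  have hdiag : ∀ i, ρ i i = 0 := fun i => ι.injective (by
    rw [map_zero, show ι (ρ i i) = b * H i i from congrFun (congrFun hρ i) i, hHdef,
      show (hh.1ᵀ * Jm * hh.1) i i = B (hh.1 *ᵥ Pi.single i 1) (hh.1 *ᵥ Pi.single i 1) by
        rw [B_mul]; simp [Matrix.mulVec_single_one],
      B_self, mul_zero])
  have hρd : ρ.det ≠ 0 := by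
    intro h0
    have e : (ρ.map ι).det = ι ρ.det := (RingHom.map_det ι ρ).symm
    rw [hρ, h0, map_zero, det_smul] at e
    exact mul_ne_zero (pow_ne_zero _ hb) hdet e
  obtain ⟨m', hm', hrel⟩ := PSLnGraph.exists_symp hskew hdiag hρd
  obtain rfl : m = m' := by simp at hm'; omega
  obtain ⟨P, P', s, hP, hP', hs⟩ := hrel
  let PG : GL ι' (PSLn.fixedField σ) := ⟨P, P', hP, hP'⟩
  let k : GL ι' F := hh * GeneralLinearGroup.map ι PG
  have hPσ : (P.map ι).map σ = P.map ι := by ext i j; exact (hι _).mpr ⟨P i j, rfl⟩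
  have hk : k ∈ GS := by
    refine mem_GS.mpr ⟨(Units.map (ι : PSLn.fixedField σ →* F) s * Units.mk0 b hb)⁻¹, ?_⟩
    show (hh.1 * P.map ι)ᵀ * Jm * (hh.1 * P.map ι) = _
    calc (hh.1 * P.map ι)ᵀ * Jm * (hh.1 * P.map ι) = (P.map ι)ᵀ * (hh.1ᵀ * Jm * hh.1) * P.map ι := by
          simp only [transpose_mul, Matrix.mul_assoc]
      _ = b⁻¹ • (Pᵀ * ρ * P).map ι := by
          rw [← hHdef, Matrix.map_mul, Matrix.map_mul, hρ, transpose_map, Matrix.mul_smul, Matrix.smul_mul,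
            smul_smul, inv_mul_cancel₀ hb, one_smul]
      _ = _ := by
          have e : Pᵀ * ρ * P = ((s⁻¹ : (PSLn.fixedField σ)ˣ) : PSLn.fixedField σ) •
              Matrix.J (Fin m) (PSLn.fixedField σ) := by
            rw [← hs, smul_smul, Units.inv_mul, one_smul]
          have hJ : (Matrix.J (Fin m) (PSLn.fixedField σ)).map ι = Jm := by
            ext i j
            rcases i with i | i <;> rcases j with j | j <;> simp [Matrix.J, Matrix.one_apply, apply_ite]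
          rw [e, FieldGen.map_smul_hom, hJ, smul_smul]
          simp [mul_comm]
  refine ⟨⟨k, hk⟩, ?_⟩
  rw [conj_fieldS]
  refine congrArg (· * fieldS σ) ((conjS_eq_iff hm h22 _ _).mpr ⟨(Units.mk0 d hd)⁻¹, ?_⟩)
  show g.1.1 = ((Units.mk0 d hd)⁻¹ : Fˣ).1 • (k.1 * (mapS σ (⟨k, hk⟩ : ↥(GS))⁻¹).1.1)
  have e : d • (g.1.1 * k.1.map σ) = k.1 := by
    show d • (g.1.1 * (hh.1 * P.map ι).map σ) = hh.1 * P.map ι
    rw [Matrix.map_mul, hPσ, ← Matrix.mul_assoc, ← Matrix.smul_mul, hdh]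
  have e2 := congrArg (fun M => d⁻¹ • (M * (mapS σ (⟨k, hk⟩ : ↥(GS))⁻¹).1.1)) e
  simp only [Matrix.smul_mul, smul_smul, inv_mul_cancel₀ hd, one_smul, Matrix.mul_assoc] at e2
  rw [Units.val_inv_eq_inv_val, Units.val_mk0, ← e2, mapS_val, ← Matrix.map_mul]
  show _ = g.1.1 * ((k.1 * (k⁻¹).1).map σ)
  rw [Units.mul_inv, Matrix.map_one _ (map_zero σ) (map_one σ), Matrix.mul_one]

theorem commute_iff (hm : 2 ≤ m) (h22 : m = 2 → 3 ≤ Fintype.card F) (σ : RingAut F) (x : ↥(GS)) :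
    Commute (conjS x : A) (fieldS σ) ↔ ∃ u : Fˣ, x.1.1.map σ = (u : F) • x.1.1 := by
  rw [commute_iff_eq, fieldS_conjS, mul_left_inj, eq_comm, conjS_eq_iff hm h22, mapS_val]

section Emb

variable {σ : RingAut F} {F₀ : Type*} [Field F₀] {ι : F₀ →+* F}

/-- Conformal symplectic matrices over a subfield. -/
noncomputable def incl (ι : F₀ →+* F) : ↥(Cfsg.GSp m F₀) →* ↥(GS) :=
  ((GeneralLinearGroup.map ι).comp (Cfsg.GSp m F₀).subtype).codRestrict GS (fun x => by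
    obtain ⟨c, hc⟩ := mem_GS.mp x.2
    refine mem_GS.mpr ⟨Units.map (ι : F₀ →* F) c, ?_⟩
    show (x.1.1.map ι)ᵀ * Jm * x.1.1.map ι = ι (c : F₀) • Jm
    have hJ : (Matrix.J (Fin m) F₀).map ι = Jm := by
      ext i j
      rcases i with i | i <;> rcases j with j | j <;> simp [Matrix.J, Matrix.one_apply, apply_ite]
    rw [← hJ, ← transpose_map, ← Matrix.map_mul, ← Matrix.map_mul, hc, FieldGen.map_smul_hom])

omit [Fintype F] in
theorem incl_val (ι : F₀ →+* F) (x : ↥(Cfsg.GSp m F₀)) : (incl (F := F) ι x).1.1 = x.1.1.map ι := rfl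

theorem exists_descend (hι : ∀ y, σ y = y ↔ y ∈ ι.range) (hm : 1 ≤ m) {x : ↥(GS)} {u : F}
    (h : x.1.1.map σ = u • x.1.1) :
    ∃ (v : Fˣ) (y : ↥(Cfsg.GSp m F₀)), incl ι y = scalS v * x := by
  haveI : Nonempty ι' := ⟨Sum.inl ⟨0, hm⟩⟩
  obtain ⟨b, P, hb, hP⟩ := FieldGen.exists_multiple σ ι hι x.1 h
  obtain ⟨c, hc⟩ := mem_GS.mp x.2
  have hJ : (Matrix.J (Fin m) F₀).map ι = Jm := by
    ext i j
    rcases i with i | i <;> rcases j with j | j <;> simp [Matrix.J, Matrix.one_apply, apply_ite]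
  have e : (P.1ᵀ * Matrix.J (Fin m) F₀ * P.1).map ι = (b * b * (c : F)) • Jm := by
    rw [Matrix.map_mul, Matrix.map_mul, transpose_map, hJ, hP, transpose_smul, Matrix.smul_mul, Matrix.smul_mul,
      Matrix.mul_smul, hc, smul_smul, smul_smul]
  obtain ⟨c₀, hc₀⟩ : b * b * (c : F) ∈ ι.range := ⟨(P.1ᵀ * Matrix.J (Fin m) F₀ * P.1) (Sum.inr ⟨0, hm⟩) (Sum.inl ⟨0, hm⟩), by
    have := congrFun (congrFun e (Sum.inr ⟨0, hm⟩)) (Sum.inl ⟨0, hm⟩)
    simpa [Matrix.J] using this⟩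
  have hc0 : c₀ ≠ 0 := by
    rintro rfl
    rw [map_zero] at hc₀
    exact mul_ne_zero (mul_ne_zero hb hb) c.ne_zero hc₀.symm
  have hy : P ∈ Cfsg.GSp m F₀ := mem_GS.mpr ⟨Units.mk0 c₀ hc0, Matrix.map_injective ι.injective (by
    show (P.1ᵀ * Matrix.J (Fin m) F₀ * P.1).map ι = ((Units.mk0 c₀ hc0 : F₀) • Matrix.J (Fin m) F₀).map ι
    rw [e, Units.val_mk0, FieldGen.map_smul_hom, hJ, hc₀])⟩
  refine ⟨Units.mk0 b hb, ⟨P, hy⟩, Subtype.ext (Units.ext ?_)⟩
  show P.1.map ι = (scalS (Units.mk0 b hb)).1.1 * x.1.1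
  rw [hP, scalS_val, Matrix.smul_mul, Matrix.one_mul, Units.val_mk0]

theorem centralizer_equiv (hm : 2 ≤ m) (h22 : m = 2 → 3 ≤ Fintype.card F) (hι : ∀ y, σ y = y ↔ y ∈ ι.range) :
    Nonempty (↥(Cfsg.inndiagPSp m F ⊓ Subgroup.centralizer {fieldS σ}) ≃* Cfsg.PGSp m F₀) := by
  let φ : ↥(Cfsg.GSp m F₀) →* A := conjS.comp (incl ι)
  have hr : φ.range = Cfsg.inndiagPSp m F ⊓ Subgroup.centralizer {fieldS σ} := by
    apply le_antisymm
    · rintro _ ⟨y, rfl⟩
      refine Subgroup.mem_inf.mpr ⟨by rw [inndiag_eq]; exact ⟨_, rfl⟩, ?_⟩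
      rw [Subgroup.mem_centralizer_singleton_iff]
      refine ((commute_iff hm h22 σ _).mpr ⟨1, ?_⟩).eq
      rw [Units.val_one, one_smul, incl_val]
      ext i j
      exact (hι _).mpr ⟨y.1.1 i j, rfl⟩
    · intro a ha
      obtain ⟨ha, hc⟩ := Subgroup.mem_inf.mp ha
      rw [inndiag_eq] at ha
      obtain ⟨x, rfl⟩ := ha
      obtain ⟨u, hu⟩ := (commute_iff hm h22 σ x).mp (Subgroup.mem_centralizer_singleton_iff.mp hc)
      obtain ⟨v, y, hy⟩ := exists_descend hι (by omega) hu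
      exact ⟨y, by rw [MonoidHom.comp_apply, hy, map_mul, conjS_scalS, one_mul]⟩
  have hk : φ.ker = (Cfsg.Geo.scalars ι' F₀).subgroupOf (Cfsg.GSp m F₀) := by
    ext y
    rw [MonoidHom.mem_ker, Subgroup.mem_subgroupOf, MonoidHom.comp_apply, ← (conjS (F := F) (m := m)).map_one,
      conjS_eq_iff hm h22]
    constructor
    · rintro ⟨u, hu⟩
      rw [incl_val, show ((1 : ↥(GS)).1.1) = 1 from rfl] at hu
      have hi : (u : F) = ι (y.1.1 (Sum.inl ⟨0, by omega⟩) (Sum.inl ⟨0, by omega⟩)) := by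
        have := congrFun (congrFun hu (Sum.inl ⟨0, by omega⟩)) (Sum.inl ⟨0, by omega⟩)
        simpa using this.symm
      have h0 : y.1.1 (Sum.inl ⟨0, by omega⟩) (Sum.inl ⟨0, by omega⟩) ≠ 0 := fun h0 => u.ne_zero (by rw [hi, h0, map_zero])
      refine ⟨Units.mk0 _ h0, Units.ext (Matrix.map_injective ι.injective ?_)⟩
      show (Matrix.scalar ι' _).map ι = y.1.1.map ι
      rw [hu, Matrix.scalar_apply, diagonal_map (map_zero ι), Matrix.smul_one_eq_diagonal, hi]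
      rfl
    · rintro ⟨u, hu⟩
      refine ⟨Units.map (ι : F₀ →* F) u, ?_⟩
      rw [incl_val, ← hu]
      show (Matrix.scalar ι' (u : F₀)).map ι = _
      rw [Matrix.scalar_apply, diagonal_map (map_zero ι), show ((1 : ↥(GS)).1.1) = 1 from rfl,
        Matrix.smul_one_eq_diagonal]
      rfl
  exact ⟨((MulEquiv.subgroupCongr hr).symm.trans (QuotientGroup.quotientKerEquivRange φ).symm).trans
    (QuotientGroup.quotientMulEquivOfEq hk)⟩

theorem splitCount (hm : 2 ≤ m) (h22 : m = 2 → 3 ≤ Fintype.card F) (hι : ∀ y, σ y = y ↔ y ∈ ι.range) :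
    Cfsg.splitClassCount (Cfsg.inndiagPSp m F) (Cfsg.Inn (Cfsg.PSp m F)) (fieldS σ) =
      Nat.gcd 2 ((Fintype.card F - 1) / (Nat.card (PSLn.fixedField σ) - 1)) := by
  haveI : (Cfsg.Inn (Cfsg.PSp m F)).Normal := inferInstance
  have h1 : 1 ≤ m := by omega
  rw [FieldGen.splitCount_hom conjS inndiag_eq (mult h1) (mult_surj h1) _ inn_le_inndiag (comap_inn hm h22),
    ← PSLn.index_fixedUnits, ← PSLn.index_powRange_sup]
  congr 1
  apply le_antisymm
  · refine sup_le le_sup_left ?_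
    rintro _ ⟨x, hx, rfl⟩
    obtain ⟨u, hu⟩ := (commute_iff hm h22 σ x).mp
      (Subgroup.mem_centralizer_singleton_iff.mp (Subgroup.mem_comap.mp hx))
    obtain ⟨v, y, hy⟩ := exists_descend hι h1 hu
    have hv : mult h1 (scalS (m := m) v) = v * v := mult_eq h1 (by
      rw [scalS_val, transpose_smul, transpose_one, Matrix.smul_mul, Matrix.one_mul, Matrix.smul_mul,
        Matrix.mul_smul, Matrix.mul_one, smul_smul, Units.val_mul])
    have hfix : mult h1 (incl (F := F) ι y) ∈ PSLn.fixedUnits σ := by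
      rw [PSLn.mem_fixedUnits]
      obtain ⟨w, hw⟩ : ∃ w, (mult h1 (incl (F := F) ι y) : F) = ι w := by
        refine ⟨(mult h1 y : F₀), ?_⟩
        refine congrArg Units.val (mult_eq h1 (x := incl (F := F) ι y) (c := Units.map (ι : F₀ →* F) (mult h1 y)) ?_)
        have hJ : (Matrix.J (Fin m) F₀).map ι = Jm := by
          ext i j
          rcases i with i | i <;> rcases j with j | j <;> simp [Matrix.J, Matrix.one_apply, apply_ite]
        rw [incl_val, ← hJ, ← transpose_map, ← Matrix.map_mul, ← Matrix.map_mul, mult_spec h1 y,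
          FieldGen.map_smul_hom]
        rfl
      rw [hw]
      exact (hι _).mpr ⟨w, rfl⟩
    have e : mult h1 x = (v ^ 2)⁻¹ * mult h1 (incl (F := F) ι y) := by
      rw [hy, map_mul, hv, ← pow_two, inv_mul_cancel_left]
    rw [e]
    exact mul_mem (Subgroup.mem_sup_left (inv_mem ⟨v, rfl⟩)) (Subgroup.mem_sup_right hfix)
  · refine sup_le le_sup_left ?_
    intro u hu
    obtain ⟨u₀, hu₀⟩ := (hι _).mp (PSLn.mem_fixedUnits.mp hu)
    have hu0 : u₀ ≠ 0 := fun h0 => u.ne_zero (by rw [← hu₀, h0, map_zero])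
    obtain ⟨y, hy⟩ := mult_surj (F := F₀) h1 (Units.mk0 u₀ hu0)
    refine Subgroup.mem_sup_right ⟨incl ι y, ?_, mult_eq h1 ?_⟩
    · rw [SetLike.mem_coe, Subgroup.mem_comap, Subgroup.mem_centralizer_singleton_iff]
      refine ((commute_iff hm h22 σ _).mpr ⟨1, ?_⟩).eq
      rw [Units.val_one, one_smul, incl_val]
      ext i j
      exact (hι _).mpr ⟨y.1.1 i j, rfl⟩
    · have hJ : (Matrix.J (Fin m) F₀).map ι = Jm := by
        ext i j
        rcases i with i | i <;> rcases j with j | j <;> simp [Matrix.J, Matrix.one_apply, apply_ite]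
      rw [incl_val, ← hJ, ← transpose_map, ← Matrix.map_mul, ← Matrix.map_mul, mult_spec h1 y, hy,
        FieldGen.map_smul_hom, Units.val_mk0, hu₀]

end Emb

end CfsgLib.PSpAut

namespace CfsgLib.PSpAut

theorem gcd_split {a r : ℕ} (ha : 2 ≤ a) (hr0 : 0 < r) :
    Nat.gcd 2 ((a ^ r - 1) / (a - 1)) = Nat.gcd (Nat.gcd 2 (a ^ r - 1)) r := by
  rw [← Nat.geomSum_eq ha r, Nat.gcd_rec 2, Finset.sum_nat_mod]
  rcases Nat.even_or_odd a with he | ho
  · have h1 : Nat.gcd 2 (a ^ r - 1) = 1 :=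
      (Nat.Even.sub_odd (Nat.one_le_pow _ _ (by omega)) (Nat.even_pow.2 ⟨he, hr0.ne'⟩) odd_one).coprime_two_left
    rw [h1, Nat.gcd_one_left]
    obtain ⟨k, rfl⟩ : ∃ k, r = k + 1 := ⟨r - 1, by omega⟩
    rw [Finset.sum_range_succ', Finset.sum_eq_zero fun i _ => Nat.even_iff.mp (Nat.even_pow.2 ⟨he, Nat.succ_ne_zero i⟩)]
    simp
  · have h2 : 2 ∣ a ^ r - 1 := (Nat.Odd.sub_odd ho.pow odd_one).two_dvd
    rw [Nat.gcd_eq_left h2, Finset.sum_congr rfl fun i _ => Nat.odd_iff.mp (ho.pow : Odd (a ^ i)), Finset.sum_const,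
      Finset.card_range, smul_eq_mul, mul_one, ← Nat.gcd_rec]

end CfsgLib.PSpAut
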