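import Cfsg.Agent.Lib.PolarAut.Root
import Mathlib.GroupTheory.Sylow

/-!
The transvection groups are the centres of the Sylow `p`-subgroups.
-/

set_option autoImplicit false

namespace CfsgLib.PolarAut

open Module

variable {F : Type*} [Field F] {V : Type*} [AddCommGroup V] [Module F V]
variable {G : Type*} [Group G] {W : Type*} [Group W]

namespace Geo

variable (S : Geo F V G W)

/-- Two isotropic points are conjugate. -/
theorem exists_map_point [Finite F] {e e₂ : V} (he : S.P.Iso e) (he₂ : S.P.Iso e₂) :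
    ∃ g, Par (F := F) (S.act g e) e₂ := by
  -- a point orthogonal to neither
  obtain ⟨R, hR, hRe, hRe2⟩ : ∃ R, S.P.Iso R ∧ S.P.h R e ≠ 0 ∧ S.P.h R e₂ ≠ 0 := by
    obtain ⟨f, H⟩ := S.P.exists_hyp he
    by_cases h : S.P.h e e₂ = 0
    · by_cases hf : S.P.h f e₂ = 0
      · have hp : S.P.Perp e f e₂ := ⟨S.P.perp_comm h, S.P.perp_comm hf⟩
        obtain ⟨w, K, hw⟩ := H.exists_hyp he₂ hp
        refine ⟨f + w, ⟨fun h0 => ?_, ?_⟩, ?_, ?_⟩
        · have := congrArg (fun t => S.P.h t e) h0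
          simp [S.P.add_left, H.fe, hw.1, S.P.ε_ne] at this
        · simp [S.P.add_left, S.P.add_right, H.ff, K.ff, hw.2, hw.symm.2]
        · simp [S.P.add_left, H.fe, hw.1, S.P.ε_ne]
        · simp [S.P.add_left, hf, K.fe, S.P.ε_ne]
      · exact ⟨f, H.isoR, by rw [H.fe]; exact S.P.ε_ne, hf⟩
    · obtain ⟨z, hz0, hz⟩ := S.P.skew
      set c := S.P.τ ((S.P.h e e₂)⁻¹) with hc
      have hc0 : c ≠ 0 := S.P.τ_ne (inv_ne_zero h)
      have U : S.P.Hyp e (c • e₂) := ⟨he.2, (he₂.smul hc0).2, by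
        rw [hc, S.P.smul_right, S.P.ττ, inv_mul_cancel₀ h]⟩
      refine ⟨e + z • (c • e₂), ⟨fun h0 => ?_, ?_⟩, ?_, ?_⟩
      · have := congrArg (fun t => S.P.h t (c • e₂)) h0
        simp only [S.P.add_left, S.P.smul_left z, U.ef, U.ff, mul_zero, add_zero, S.P.zero_left] at this
        exact one_ne_zero this
      · simp only [S.P.add_left, S.P.add_right, S.P.smul_left z, S.P.smul_right z, U.ee, U.ff, U.ef,
          U.fe]
        linear_combination S.P.ε * hz - S.P.τ z * S.P.εε
      · simp only [S.P.add_left, S.P.smul_left z, U.ee, U.fe, zero_add]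
        exact mul_ne_zero hz0 S.P.ε_ne
      · simp only [S.P.add_left, S.P.smul_left, he₂.2, mul_zero, add_zero]
        exact h
  obtain ⟨f, H⟩ := S.P.exists_hyp hR
  -- both lie in the orbit of `f` under the root group of `R`
  have orbit : ∀ x, S.P.Iso x → S.P.h R x ≠ 0 → ∃ g, Par (F := F) (S.act g f) x := by
    intro x hx hne
    set β := S.P.ε * S.P.h x R with hβ
    have hβ0 : β ≠ 0 := mul_ne_zero S.P.ε_ne fun h => hne (S.P.perp_comm h)
    set x' := β⁻¹ • x with hx'
    have h1 : S.P.ε * S.P.h x' R = 1 := by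
      rw [hx', S.P.smul_left, ← mul_assoc, mul_comm S.P.ε, mul_assoc, ← hβ, inv_mul_cancel₀ hβ0]
    have d := H.decomp x'
    rw [h1, one_smul] at d
    have d' : x' = f + S.P.proj R f x' + S.P.h x' f • R := by
      conv_lhs => rw [d]
      abel
    have hv : S.P.Valid (S.P.proj R f x') (S.P.h x' f) :=
      (H.valid_iso (H.proj_perp x') _).mp (by rw [← d']; exact (hx.smul (inv_ne_zero hβ0)).2)
    obtain ⟨g, hg, -⟩ := S.exists_u H (H.proj_perp x') hv
    refine ⟨g, ?_⟩
    rw [hg, H.uMap_right (H.proj_perp x'), ← d']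
    exact (Par.of_smul (inv_ne_zero hβ0) x).symm
  obtain ⟨g₁, h1⟩ := orbit e he hRe
  obtain ⟨g₂, h2⟩ := orbit e₂ he₂ hRe2
  refine ⟨g₂ * g₁⁻¹, ?_⟩
  rw [S.act_mul]
  refine Par.trans ?_ h2
  have := (h1.map (S.act g₁⁻¹)).symm
  rw [S.act_inv_act] at this
  exact this.map (S.act g₂)

/-- The unipotent radical of the stabiliser of a vector. -/
def radical [Finite F] [Finite V] (e : V) : Subgroup G where
  carrier := {g | S.act g e = e ∧ ∀ x, S.P.h x e = 0 → S.act g x - x ∈ Submodule.span F ({e} : Set V)}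
  one_mem' := ⟨S.act_one e, fun x _ => by simp⟩
  mul_mem' := fun {a b} ha hb => ⟨by rw [S.act_mul, hb.1, ha.1], fun x hx => by
    have hbx : S.P.h (S.act b x) e = 0 := by rw [← hb.1, S.isom, hx]
    rw [S.act_mul, show S.act a (S.act b x) - x = (S.act a (S.act b x) - S.act b x) + (S.act b x - x) by
      abel]
    exact add_mem (ha.2 _ hbx) (hb.2 x hx)⟩
  inv_mem' := fun {a} ha => by
    have he : S.act a⁻¹ e = e := by conv_lhs => rw [← ha.1, S.act_inv_act]
    refine ⟨he, fun x hx => ?_⟩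
    have hx' : S.P.h (S.act a⁻¹ x) e = 0 := by rw [← he, S.isom, hx]
    have := ha.2 _ hx'
    rw [S.act_act_inv] at this
    rw [← neg_sub]
    exact neg_mem this

theorem mem_radical [Finite F] [Finite V] {e : V} {g : G} : g ∈ S.radical e ↔
    S.act g e = e ∧ ∀ x, S.P.h x e = 0 → S.act g x - x ∈ Submodule.span F ({e} : Set V) := Iff.rfl

/-- An element of the radical is a root element. -/
theorem radical_eq [Finite F] [Finite V] {e f : V} (H : S.P.Hyp e f) {g : G} (hg : g ∈ S.radical e) :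
    ∃ a s, S.P.Perp e f a ∧ S.P.Valid a s ∧ S.act g = S.P.uMap e a s := by
  obtain ⟨hge, hmod⟩ := hg
  have hd := H.decomp (S.act g f)
  have hβ : S.P.ε * S.P.h (S.act g f) e = 1 := by
    have := S.isom g f e
    rw [hge, H.fe] at this
    rw [this, S.P.εε]
  rw [hβ, one_smul] at hd
  set α := S.P.h (S.act g f) f with hα
  set a := S.P.proj e f (S.act g f) with ha
  have hap : S.P.Perp e f a := H.proj_perp _
  have hgf : S.act g f = f + a + α • e := by rw [hd]; abel
  have hv : S.P.Valid a α := (H.valid_iso hap α).mp (by rw [← hgf, S.isom, H.ff])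
  refine ⟨a, α, hap, hv, H.ext_map ?_ ?_ fun y hy => ?_⟩
  · rw [hge, H.uMap_left hap]
  · rw [hgf, H.uMap_right hap]
  · obtain ⟨c, hc⟩ := Submodule.mem_span_singleton.mp (hmod y hy.1)
    have hky : S.act g y = y + c • e := by rw [hc]; abel
    have h1 := S.isom g y f
    rw [hky, hgf, hy.2] at h1
    simp [S.P.add_left, S.P.add_right, S.P.smul_left, S.P.smul_right, H.ee, H.ef, hy.1, hy.2,
      hap.symm.1] at h1
    rw [hky, Polar.uMap_perp α hy.1, show c = -S.P.h y a from by linear_combination h1, neg_smul,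
      ← sub_eq_add_neg]

theorem u_mem_radical [Finite F] [Finite V] {e f : V} (H : S.P.Hyp e f) {a : V} (ha : S.P.Perp e f a)
    {s : F} {g : G} (hg : S.act g = S.P.uMap e a s) : g ∈ S.radical e := by
  refine ⟨by rw [hg, H.uMap_left ha], fun x hx => ?_⟩
  rw [hg, Polar.uMap_perp s hx]
  exact Submodule.mem_span_singleton.mpr ⟨-S.P.h x a, by rw [neg_smul]; abel⟩

theorem exists_fixed_iso [Finite F] [Finite V] (Q : Sylow (ringChar F) G)
    (hQ : (Q : Subgroup G) ≠ ⊥) : ∃ e, S.P.Iso e ∧ ∀ g ∈ Q, S.act g e = e := by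
  haveI := Fact.mk (CharP.char_is_prime F (ringChar F))
  obtain ⟨⟨g₀, hg₀⟩, hne'⟩ := (Q : Subgroup G).ne_bot_iff_exists_ne_one.mp hQ
  have hne : g₀ ≠ 1 := fun h => hne' (Subtype.ext h)
  obtain ⟨x₀, hx₀⟩ : ∃ x, S.act g₀ x ≠ x := by
    by_contra h
    push Not at h
    exact hne (S.ext fun x => by rw [h x, S.act_one])
  let U := {v : V // ∀ w, (∀ g ∈ Q, S.act g w = w) → S.P.h v w = 0}
  letI : MulAction (Q : Subgroup G) U :=
    { smul := fun g v => ⟨S.act g.1 v.1, fun w hw => by
        conv_lhs => rw [← hw g.1 g.2, S.isom]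
        exact v.2 w hw⟩
      one_smul := fun v => Subtype.ext (S.act_one v.1)
      mul_smul := fun g k v => Subtype.ext (S.act_mul g.1 k.1 v.1) }
  have hd : ∀ w, (∀ g ∈ Q, S.act g w = w) → S.P.h (S.act g₀ x₀ - x₀) w = 0 := fun w hw => by
    rw [S.P.sub_left]
    conv_lhs => arg 1; rw [← hw g₀ hg₀, S.isom]
    rw [sub_self]
  set d := S.act g₀ x₀ - x₀ with hdd
  have hd0 : d ≠ 0 := sub_ne_zero.mpr hx₀
  let UA : AddSubgroup V :=
    { carrier := {v | ∀ w, (∀ g ∈ Q, S.act g w = w) → S.P.h v w = 0}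
      zero_mem' := fun w _ => S.P.zero_left w
      add_mem' := fun ha hb w hw => by rw [S.P.add_left, ha w hw, hb w hw, add_zero]
      neg_mem' := fun ha w hw => by rw [S.P.neg_left, ha w hw, neg_zero] }
  have hdvd : ringChar F ∣ Nat.card U := by
    show ringChar F ∣ Nat.card UA
    have hord : addOrderOf (⟨d, hd⟩ : UA) = ringChar F := by
      refine addOrderOf_eq_prime (Subtype.ext ?_) fun h => hd0 (congrArg Subtype.val h)
      show (ringChar F) • d = 0
      rw [← Nat.cast_smul_eq_nsmul F, CharP.cast_eq_zero, zero_smul]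
    rw [← hord]
    exact addOrderOf_dvd_natCard _
  obtain ⟨v, hv, hv0⟩ := IsPGroup.exists_fixed_point_of_prime_dvd_card_of_fixed_point
    Q.isPGroup' U hdvd (a := ⟨0, fun w _ => S.P.zero_left w⟩)
    (fun g => Subtype.ext (map_zero (S.act g.1)))
  have hfix : ∀ g ∈ Q, S.act g v.1 = v.1 := fun g hg => congrArg Subtype.val (hv ⟨g, hg⟩)
  exact ⟨v.1, ⟨fun h => hv0 (Subtype.ext h.symm), v.2 _ hfix⟩, hfix⟩

theorem radical_le_sylow [Finite F] [Finite V] (Q : Sylow (ringChar F) G) {e : V} (he : S.P.Iso e)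
    (hQ : ∀ g ∈ Q, S.act g e = e) : S.radical e ≤ Q := by
  haveI := Fact.mk (CharP.char_is_prime F (ringChar F))
  obtain ⟨f, H⟩ := S.P.exists_hyp he
  have hp : IsPGroup (ringChar F) (S.radical e) := fun g => ⟨2, Subtype.ext (S.act_inj (by
    obtain ⟨a, s, ha, -, hga⟩ := S.radical_eq H g.2
    rw [SubmonoidClass.coe_pow, map_pow, hga, Polar.uMap_pow_char H ha, OneMemClass.coe_one, map_one]))⟩
  have hn : (Q : Subgroup G) ≤ Subgroup.normalizer (S.radical e : Set G) := by
    intro g hg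
    rw [Subgroup.mem_normalizer_iff]
    have key : ∀ k : G, S.act k e = e → ∀ u ∈ S.radical e, k * u * k⁻¹ ∈ S.radical e := by
      intro k hk u hu
      have hk' : S.act k⁻¹ e = e := by conv_lhs => rw [← hk, S.act_inv_act]
      refine ⟨by rw [S.act_mul, S.act_mul, hk', hu.1, hk], fun x hx => ?_⟩
      have hx' : S.P.h (S.act k⁻¹ x) e = 0 := by rw [← hk', S.isom, hx]
      obtain ⟨c, hc⟩ := Submodule.mem_span_singleton.mp (hu.2 _ hx')
      rw [S.act_mul, S.act_mul]
      nth_rw 2 [← S.act_act_inv k x]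
      rw [← map_sub, ← hc, map_smul, hk]
      exact Submodule.mem_span_singleton.mpr ⟨c, rfl⟩
    intro u
    refine ⟨key g (hQ g hg) u, fun h => ?_⟩
    have := key g⁻¹ (hQ _ (inv_mem hg)) _ h
    rwa [inv_inv, show g⁻¹ * (g * u * g⁻¹) * g = u by group] at this
  exact le_sup_right.trans (Q.is_maximal' (IsPGroup.to_sup_of_normal_right' Q.isPGroup' hp hn)
    le_sup_left).le

theorem valid_zero_iff {s : F} : S.P.Valid 0 s ↔ s + S.P.ε * S.P.τ s = 0 := by simp [Polar.Valid]

/-- The transvection group of the fixed point is the centre of the Sylow subgroup. -/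
theorem Tg_eq_center [Finite F] [Finite V]
    (nolin : ∀ t : F, (∀ c, S.P.τ (c * t) = S.P.ε * (c * t)) → t = 0)
    (Q : Sylow (ringChar F) G) {e : V} (he : S.P.Iso e) (hQ : ∀ g ∈ Q, S.act g e = e) :
    S.Tg e = {y | y ∈ (Q : Subgroup G).map S.pr ∧ ∀ y' ∈ (Q : Subgroup G).map S.pr, y * y' = y' * y} := by
  have hU := S.radical_le_sylow Q he hQ
  obtain ⟨f, H⟩ := S.P.exists_hyp he
  have h0 := S.P.perp_zero e f
  ext y
  constructor
  · rintro ⟨u, s, hs, hu, rfl⟩
    refine ⟨⟨u, hU (S.u_mem_radical H h0 hu), rfl⟩, ?_⟩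
    rintro - ⟨g, hg, rfl⟩
    rw [← map_mul, ← map_mul]
    have : g * u * g⁻¹ = u := S.act_inj (by rw [S.conj_t hu, hQ g hg, hu])
    rw [mul_inv_eq_iff_eq_mul.mp this]
  · rintro ⟨⟨z, hz, rfl⟩, hc⟩
    have hze := hQ z hz
    have hzi : S.act z⁻¹ e = e := hQ _ (inv_mem hz)
    -- `z` commutes with every root element
    have hfix : ∀ a, S.P.Perp e f a → ∃ t : F, S.act z a = a + t • e ∧ S.P.τ t = S.P.ε * t := by
      intro a ha
      obtain ⟨s, hs⟩ := S.P.exists_valid a
      obtain ⟨u, hu, -⟩ := S.exists_u H ha hs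
      have h1 := hc _ ⟨u, hU (S.u_mem_radical H ha hu), rfl⟩
      rw [← map_mul, ← map_mul] at h1
      obtain ⟨l, hl⟩ := S.pr_eq_iff.mp h1
      have hl1 : l = 1 := by
        have := hl e
        rw [S.act_mul, S.act_mul, hu, H.uMap_left ha, hze, H.uMap_left ha] at this
        exact smul_left_injective F he.1 (this.symm.trans (one_smul F e).symm)
      have hcomm : ∀ x, S.act z (S.P.uMap e a s x) = S.P.uMap e a s (S.act z x) := fun x => by
        have := hl x
        rwa [S.act_mul, S.act_mul, hu, hl1, one_smul] at this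
      set d := S.act z a - a with hd
      have heq : ∀ x, (S.P.ε * S.P.h x e) • d - S.P.h x d • e = 0 := by
        intro x
        have h2 := hcomm (S.act z⁻¹ x)
        rw [S.act_act_inv, Polar.uMap_apply] at h2
        have e1 : S.P.h (S.act z⁻¹ x) e = S.P.h x e := by conv_lhs => rw [← hzi, S.isom]
        have e2 : S.P.h (S.act z⁻¹ x) a = S.P.h x (S.act z a) := by
          conv_lhs => rw [← S.isom z, S.act_act_inv]
        rw [map_sub, map_add, map_smul, map_smul, map_add, map_smul, hze, S.act_act_inv, e1, e2,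
          Polar.uMap_apply] at h2
        rw [hd, S.P.sub_right]
        linear_combination (norm := module) h2
      have hde : S.P.h d e = 0 := by
        rw [hd, S.P.sub_left, ha.1]
        conv_lhs => arg 1; rw [← hze, S.isom, ha.1]
        rw [sub_self]
      have hmem : d = S.P.h d f • e := by
        have hp : S.P.proj e f d = 0 := by
          refine H.eq_zero (H.proj_perp d) fun b hb => S.P.perp_comm ?_
          have := congrArg (fun v => S.P.h v f) (heq b)
          simp [hb.1, S.P.sub_left, S.P.smul_left, S.P.neg_left, H.ef] at this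
          rw [Polar.proj, S.P.sub_right, S.P.sub_right, S.P.smul_right, S.P.smul_right, hb.1, hb.2,
            this]
          simp
        conv_lhs => rw [H.decomp d, hde, hp, mul_zero, zero_smul, add_zero, add_zero]
      refine ⟨S.P.h d f, by rw [← hmem, hd]; abel, ?_⟩
      have := heq f
      rw [hmem, H.fe, S.P.εε, one_smul, S.P.smul_right, H.fe, ← sub_smul, smul_eq_zero,
        or_iff_left he.1, sub_eq_zero] at this
      linear_combination (-S.P.τ (S.P.h d f)) * S.P.εε - S.P.ε * this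
    have hfix0 : ∀ a, S.P.Perp e f a → S.act z a = a := by
      intro a ha
      obtain ⟨t, ht, -⟩ := hfix a ha
      suffices t = 0 by rw [ht, this, zero_smul, add_zero]
      refine nolin t fun c => ?_
      obtain ⟨t', ht', h'⟩ := hfix (c • a) (ha.smul c)
      rw [map_smul, ht, smul_add, smul_smul, add_right_inj] at ht'
      rw [smul_left_injective F he.1 ht']
      exact h'
    have hzr : z ∈ S.radical e := by
      refine ⟨hze, fun x hx => ?_⟩
      have hx' : x = S.P.h x f • e + S.P.proj e f x := by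
        conv_lhs => rw [H.decomp x, hx, mul_zero, zero_smul, add_zero]
      rw [hx', map_add, map_smul, hze, hfix0 _ (H.proj_perp x), sub_self]
      exact zero_mem _
    obtain ⟨a, s, ha, hs, hza⟩ := S.radical_eq H hzr
    have ha0 : a = 0 := H.eq_zero ha fun b hb => S.P.perp_comm (by
      have := hfix0 b hb
      rw [hza, Polar.uMap_perp s hb.1, sub_eq_self, smul_eq_zero, or_iff_left he.1] at this
      exact this)
    subst ha0
    exact ⟨z, s, hs, hza, rfl⟩

end Geo

/-- Outside the symplectic groups of characteristic two every automorphism permutes the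
transvection groups. -/
theorem tperm_of_nolin [Finite F] [Finite V] (S : Geo F V G W) (φ : MulAut W)
    (nolin : ∀ t : F, (∀ c, S.P.τ (c * t) = S.P.ε * (c * t)) → t = 0)
    {e₁ f₁ : V} (H₁ : S.P.Hyp e₁ f₁) : TPerm S φ := by
  haveI := Fact.mk (CharP.char_is_prime F (ringChar F))
  haveI : Finite G := Finite.of_injective (fun g => (S.act g : V → V)) fun g k h =>
    S.act_inj (DFunLike.coe_injective h)
  haveI : Finite W := Finite.of_surjective _ S.surj
  obtain ⟨Q⟩ : Nonempty (Sylow (ringChar F) G) := inferInstance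
  have hQ : (Q : Subgroup G) ≠ ⊥ := by
    obtain ⟨g, z, hz0, hz, hg⟩ := S.exists_t_ne H₁.isoL
    have hg1 : g ≠ 1 := fun h => by
      have e1 := congrArg (fun u => S.act u f₁) h
      simp only [hg, S.act_one, S.t_apply, H₁.fe, S.P.εε, one_mul, add_eq_left] at e1
      exact smul_ne_zero hz0 H₁.ne_left e1
    refine Sylow.ne_bot_of_dvd_card Q ?_
    have hgp : g ^ (ringChar F) ^ 2 = 1 := S.act_inj (by
      rw [map_pow, hg, Polar.uMap_pow_char H₁ (S.P.perp_zero e₁ f₁), map_one])
    obtain ⟨i, -, hi⟩ := (Nat.dvd_prime_pow Fact.out).mp (orderOf_dvd_of_pow_eq_one hgp)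
    have hi0 : i ≠ 0 := fun h => hg1 (orderOf_eq_one_iff.mp (by rw [hi, h, pow_zero]))
    exact (dvd_pow_self _ hi0).trans (hi ▸ orderOf_dvd_natCard g)
  obtain ⟨e₀, he₀, hfix⟩ := S.exists_fixed_iso Q hQ
  have hT := S.Tg_eq_center nolin Q he₀ hfix
  -- the image of the Sylow subgroup is a conjugate
  have hS : ∃ g, (Q : Subgroup G).map (φ.toMonoidHom.comp S.pr) =
      (Q : Subgroup G).map ((MulAut.conj (S.pr g)).toMonoidHom.comp S.pr) := by
    let Q₁ : Sylow (ringChar F) W := Q.mapSurjective S.surj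
    let Q₂ : Sylow (ringChar F) W := Q₁.mapSurjective (f := φ.toMonoidHom) φ.surjective
    obtain ⟨w, hw⟩ := MulAction.exists_smul_eq W Q₁ Q₂
    obtain ⟨g, rfl⟩ := S.surj w
    refine ⟨g, ?_⟩
    have h2 := congrArg (fun P : Sylow (ringChar F) W => (P : Subgroup W)) hw
    simp only [Q₂, Q₁, Sylow.smul_def, Sylow.coe_mapSurjective, Sylow.pointwise_smul_def] at h2
    rw [← Subgroup.map_map, ← Subgroup.map_map]
    exact h2.symm
  obtain ⟨g, hg⟩ := hS
  have h₀ : φ '' S.Tg e₀ = S.Tg (S.act g e₀) := by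
    rw [S.Tg_conj, hT]
    have key : ∀ ψ : MulAut W, ψ '' {y | y ∈ (Q : Subgroup G).map S.pr ∧
        ∀ y' ∈ (Q : Subgroup G).map S.pr, y * y' = y' * y} =
        {y | y ∈ (Q : Subgroup G).map (ψ.toMonoidHom.comp S.pr) ∧
          ∀ y' ∈ (Q : Subgroup G).map (ψ.toMonoidHom.comp S.pr), y * y' = y' * y} := by
      intro ψ
      rw [← Subgroup.map_map]
      ext y
      constructor
      · rintro ⟨x, ⟨hx, hc⟩, rfl⟩
        refine ⟨⟨x, hx, rfl⟩, ?_⟩
        rintro - ⟨x', hx', rfl⟩
        show ψ x * ψ x' = ψ x' * ψ x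
        rw [← map_mul, hc x' hx', map_mul]
      · rintro ⟨⟨x, hx, rfl⟩, hc⟩
        exact ⟨x, ⟨hx, fun x' hx' => ψ.injective (by
          rw [map_mul, map_mul]; exact hc _ ⟨x', hx', rfl⟩)⟩, rfl⟩
    rw [key φ, key (MulAut.conj (S.pr g)), hg]
  intro e he
  obtain ⟨k, hk⟩ := S.exists_map_point he₀ he
  obtain ⟨k', hk'⟩ := S.surj (φ (S.pr k))
  refine ⟨S.act k' (S.act g e₀), S.act_iso (S.act_iso he₀), ?_⟩
  rw [← S.Tg_par hk, S.Tg_conj, S.Tg_conj, ← h₀, hk', Set.image_image, Set.image_image]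
  simp [MulAut.conj_apply]

end CfsgLib.PolarAut
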