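import Cfsg.Agent.Lib.PolarAut.Unitary

/-!
Automorphisms of three-dimensional unitary groups.
-/

set_option autoImplicit false

namespace CfsgLib.PolarAut

open Module

variable {F : Type*} [Field F] {V : Type*} [AddCommGroup V] [Module F V]
variable {G : Type*} [Group G] {W : Type*} [Group W]

/-- A frame of a three-dimensional space. -/
structure Triple (P : Polar F V) (e f d : V) : Prop where
  H : P.Hyp e f
  hd : P.Perp e f d
  hdd : P.h d d ≠ 0
  span : ∀ x, P.Perp e f x → ∃ c : F, x = c • d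

namespace Triple

variable {P : Polar F V} {e f d : V} (Q : Triple P e f d)
include Q

theorem iso_mem {x : V} (hx : P.Iso x) (hxe : P.h x e = 0) : Par (F := F) e x := by
  obtain ⟨c, hc⟩ := Q.span _ (Q.H.proj_perp x)
  have dx := Q.H.decomp x
  rw [hxe, mul_zero, zero_smul, add_zero, hc] at dx
  have h0 := hx.2
  rw [dx] at h0
  simp [P.add_left, P.add_right, P.smul_left, P.smul_right, Q.H.ee, Q.hd.1, Q.hd.symm.1, Q.hdd] at h0
  rw [h0, zero_smul, add_zero] at dx
  exact ⟨_, fun h => hx.1 (by rw [dx, h, zero_smul]), dx⟩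

theorem iso_param {x : V} (hx : P.Iso x) (hxe : P.h x e ≠ 0) :
    ∃ a s, P.Perp e f a ∧ P.Valid a s ∧ Par (F := F) x (f + a + s • e) := by
  set β := P.ε * P.h x e with hβ
  have hβ0 : β ≠ 0 := mul_ne_zero P.ε_ne hxe
  have h1 : P.ε * P.h (β⁻¹ • x) e = 1 := by
    rw [P.smul_left, ← mul_assoc, mul_comm P.ε, mul_assoc, ← hβ, inv_mul_cancel₀ hβ0]
  have d' := Q.H.decomp (β⁻¹ • x)
  rw [h1, one_smul] at d'
  have d'' : β⁻¹ • x = f + P.proj e f (β⁻¹ • x) + P.h (β⁻¹ • x) f • e := by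
    conv_lhs => rw [d']
    abel
  refine ⟨P.proj e f (β⁻¹ • x), P.h (β⁻¹ • x) f, Q.H.proj_perp _,
    (Q.H.valid_iso (Q.H.proj_perp _) _).mp ?_, ?_⟩
  · rw [← d'']; exact (hx.smul (inv_ne_zero hβ0)).2
  · rw [← d'']; exact Par.of_smul (inv_ne_zero hβ0) x

theorem torus_det [FiniteDimensional F V] (hdim : finrank F V = 3) (L : V →ₗ[F] V) {a b c : F}
    (he : L e = a • e) (hf : L f = b • f) (hd : L d = c • d) : LinearMap.det L = a * b * c := by
  have li : LinearIndependent F ![e, f, d] := by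
    rw [Fintype.linearIndependent_iff]
    intro g hg i
    rw [Fin.sum_univ_three] at hg
    simp only [Matrix.cons_val_zero, Matrix.cons_val_one, Matrix.cons_val_two, Matrix.head_cons,
      Matrix.tail_cons] at hg
    have e1 := congrArg (fun x => P.h x f) hg
    have e2 := congrArg (fun x => P.h x e) hg
    have e3 := congrArg (fun x => P.h x d) hg
    simp [P.add_left, P.smul_left, Q.H.ee, Q.H.ff, Q.H.ef, Q.H.fe, Q.hd.1, Q.hd.2, Q.hd.symm.1,
      Q.hd.symm.2, Q.hdd, P.ε_ne] at e1 e2 e3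
    fin_cases i <;> assumption
  let B := basisOfLinearIndependentOfCardEqFinrank li (by rw [hdim]; rfl)
  have hB : LinearMap.toMatrix B B L = Matrix.diagonal ![a, b, c] := by
    have hL : ∀ j, L (B j) = (![a, b, c] j) • B j := by
      intro j
      simp only [B, coe_basisOfLinearIndependentOfCardEqFinrank]
      fin_cases j <;> simp [he, hf, hd]
    ext i j
    rw [LinearMap.toMatrix_apply, hL, map_smul, B.repr_self, Finsupp.smul_apply,
      Finsupp.single_apply, Matrix.diagonal_apply]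
    rcases eq_or_ne i j with rfl | h
    · simp
    · simp [h, h.symm]
  rw [← LinearMap.det_toMatrix B, hB, Matrix.det_diagonal, Fin.prod_univ_three]
  rfl

theorem torus_exists {c : F} (hc : c ≠ 0) {μ : F} (hμ : μ * P.τ μ = 1) :
    ∃ L : V →ₗ[F] V, L e = c • e ∧ L f = (P.τ c)⁻¹ • f ∧ L d = μ • d ∧
      ∀ x y, P.h (L x) (L y) = P.h x y := by
  let L : V →ₗ[F] V :=
    { toFun := fun x => P.dMap e f c x + ((μ - 1) / P.h d d * P.h x d) • d
      map_add' := fun x y => by rw [map_add, P.add_left, mul_add, add_smul]; abel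
      map_smul' := fun a x => by
        rw [map_smul, P.smul_left, RingHom.id_apply, smul_add, smul_smul]; congr 2; ring }
  have hdd := Q.hdd
  have hLe : L e = c • e := by simp [L, Q.H.dMap_left, Q.hd.symm.1]
  have hLf : L f = (P.τ c)⁻¹ • f := by simp [L, Q.H.dMap_right, Q.hd.symm.2]
  have hLd : L d = μ • d := by
    simp [L, Q.H.dMap_perp Q.hd, div_mul_cancel₀ _ hdd, sub_smul]
  refine ⟨L, hLe, hLf, hLd, fun x y => ?_⟩
  obtain ⟨γ, hγ⟩ := Q.span _ (Q.H.proj_perp x)
  obtain ⟨δ, hδ⟩ := Q.span _ (Q.H.proj_perp y)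
  have hp : ∀ z : F, P.Perp e f (z • d) := fun z => Q.hd.smul z
  conv_rhs => rw [Q.H.decomp x, Q.H.decomp y, hγ, hδ, Q.H.h_decomp (hp γ) (hp δ)]
  conv_lhs => rw [Q.H.decomp x, Q.H.decomp y, hγ, hδ]
  simp only [map_add, map_smul, hLe, hLf, hLd, smul_smul]
  rw [Q.H.h_decomp (hp _) (hp _)]
  have hτ := P.τ_ne hc
  simp only [map_mul, map_inv₀, P.ττ, P.smul_left, P.smul_right]
  field_simp
  linear_combination (γ * P.τ δ * P.h d d) * hμ

end Triple

section

variable (S : Geo F V G W) {φ : MulAut W} [Finite F]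

theorem Geo.fix_of_image {g k : G} (h : φ (S.pr g) = S.pr k) {x y : V} (hx : S.P.Iso x)
    (hy : S.P.Iso y) (hxy : φ '' S.Tg x = S.Tg y) {c : F} (hg : S.act g x = c • x) :
    ∃ l : F, l ≠ 0 ∧ S.act k y = l • y := by
  have hc : c ≠ 0 := fun h0 => hx.1 (S.act_injective g (by rw [hg, h0, zero_smul, map_zero]))
  refine (S.Tg_inj hy (S.act_iso hy) ?_)
  rw [S.Tg_conj, ← hxy]
  conv_lhs => rw [S.Tg_par (Par.of_smul hc x), ← hg, S.Tg_conj]
  rw [Set.image_image, Set.image_image, ← h]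
  simp [MulAut.conj_apply]

theorem Geo.image_move {g k : G} (h : φ (S.pr g) = S.pr k) {x y : V} (hxy : φ '' S.Tg x = S.Tg y) :
    φ '' S.Tg (S.act g x) = S.Tg (S.act k y) := by
  rw [S.Tg_conj, S.Tg_conj, ← hxy, Set.image_image, Set.image_image, ← h]
  simp [MulAut.conj_apply]

variable {e f d e' f' d' : V} (Q : Triple S.P e f d) (Q' : Triple S.P e' f' d')
  (he : φ '' S.Tg e = S.Tg e') (hf : φ '' S.Tg f = S.Tg f')

include Q Q' he

theorem three_img [Finite V] {a : V} {s : F} (ha : S.P.Perp e f a) (hs : S.P.Valid a s) :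
    ∃ (x' : F) (s' : F) (g k : G), S.P.Valid (x' • d') s' ∧ S.act g = S.P.uMap e a s ∧
      S.act k = S.P.uMap e' (x' • d') s' ∧ φ (S.pr g) = S.pr k := by
  obtain ⟨g, hg, hgN⟩ := S.exists_u Q.H ha hs
  obtain ⟨k, hk, hkN⟩ := S.exists_lift (y := φ (S.pr g))
    (by rw [← map_pow, ← map_pow, hgN, map_one, map_one]) ⟨_, Q.H.ne_left⟩
  have hke : S.act k e' = e' := by
    obtain ⟨l, -, hl⟩ := S.fix_of_image hk.symm Q.H.isoL Q'.H.isoL he (c := 1)
      (by rw [hg, Q.H.uMap_left ha, one_smul])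
    rwa [S.eigen_one hkN Q'.H.ne_left hl, one_smul] at hl
  have hkd : S.act k d' - d' ∈ Submodule.span F ({e'} : Set V) := by
    have h1 : S.P.h (S.act k d') e' = 0 := by
      rw [show S.P.h (S.act k d') e' = S.P.h (S.act k d') (S.act k e') by rw [hke], S.isom, Q'.hd.1]
    obtain ⟨l, hl⟩ := Q'.span _ (Q'.H.proj_perp (S.act k d'))
    have dd := Q'.H.decomp (S.act k d')
    rw [h1, mul_zero, zero_smul, add_zero, hl, add_comm] at dd
    have hl1 : l = 1 := S.eigen_one_mod hkN (fun t ht => Q'.hdd (by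
      rw [ht, S.P.smul_left, S.P.smul_right, Q'.H.ee, mul_zero, mul_zero])) hke dd
    rw [dd, hl1, one_smul, add_sub_cancel_left]
    exact Submodule.smul_mem _ _ (Submodule.mem_span_singleton_self _)
  have hkr : k ∈ S.radical e' := by
    refine ⟨hke, fun x hx => ?_⟩
    obtain ⟨c, hc⟩ := Q'.span _ (Q'.H.proj_perp x)
    have dx := Q'.H.decomp x
    rw [hx, mul_zero, zero_smul, add_zero, hc] at dx
    rw [dx, map_add, map_smul, map_smul, hke,
      show S.P.h x f' • e' + c • S.act k d' - (S.P.h x f' • e' + c • d') = c • (S.act k d' - d') by module]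
    exact Submodule.smul_mem _ _ hkd
  obtain ⟨a', s', ha', hs', hka⟩ := S.radical_eq Q'.H hkr
  obtain ⟨x', rfl⟩ := Q'.span a' ha'
  exact ⟨x', s', g, k, hs', hg, hka, hk.symm⟩

end

/-- The relation between parameters on the two root groups. -/
def Img3 (S : Geo F V G W) (φ : MulAut W) (e d e' d' : V) (x s x' s' : F) : Prop :=
  S.P.Valid (x • d) s ∧ S.P.Valid (x' • d') s' ∧
    ∃ g k, S.act g = S.P.uMap e (x • d) s ∧ S.act k = S.P.uMap e' (x' • d') s' ∧ φ (S.pr g) = S.pr k

namespace Img3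

variable {S : Geo F V G W} {φ : MulAut W} {e f d e' f' d' : V}
variable (Q : Triple S.P e f d) (Q' : Triple S.P e' f' d')

include Q'

theorem unique {x s x₁ s₁ x₂ s₂ : F} (h1 : Img3 S φ e d e' d' x s x₁ s₁)
    (h2 : Img3 S φ e d e' d' x s x₂ s₂) : x₁ = x₂ ∧ s₁ = s₂ := by
  obtain ⟨-, -, g, k, hg, hk, e1⟩ := h1
  obtain ⟨-, -, g', k', hg', hk', e2⟩ := h2
  rw [S.act_inj (hg.trans hg'.symm), e2] at e1
  obtain ⟨h, h'⟩ := Frame.uMap_inj Q'.H (Q'.hd.smul x₁) (Q'.hd.smul x₂) hk hk' e1.symm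
  refine ⟨?_, h'⟩
  have := congrArg (fun v => S.P.h v d') h
  simp only [S.P.smul_left] at this
  exact mul_right_cancel₀ Q'.hdd this

include Q

theorem mul {x y x' y' s r s' r' : F} (h1 : Img3 S φ e d e' d' x s x' s')
    (h2 : Img3 S φ e d e' d' y r y' r') :
    Img3 S φ e d e' d' (x + y) (s + r - S.P.h (y • d) (x • d)) (x' + y')
      (s' + r' - S.P.h (y' • d') (x' • d')) := by
  obtain ⟨-, -, g, k, hg, hk, e1⟩ := h1
  obtain ⟨-, -, g', k', hg', hk', e2⟩ := h2
  have hgg : S.act (g * g') = S.P.uMap e ((x + y) • d) (s + r - S.P.h (y • d) (x • d)) :=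
    LinearMap.ext fun z => by
      rw [S.act_mul, hg, hg', Q.H.uMap_mul (Q.hd.smul x) (Q.hd.smul y), add_smul]
  have hkk : S.act (k * k') = S.P.uMap e' ((x' + y') • d') (s' + r' - S.P.h (y' • d') (x' • d')) :=
    LinearMap.ext fun z => by
      rw [S.act_mul, hk, hk', Q'.H.uMap_mul (Q'.hd.smul x') (Q'.hd.smul y'), add_smul]
  refine ⟨?_, ?_, g * g', k * k', hgg, hkk, by rw [map_mul, map_mul, e1, e2, map_mul]⟩
  · refine (Q.H.valid_iso (Q.hd.smul _) _).mp ?_
    rw [← Q.H.uMap_right (Q.hd.smul _), ← hgg, S.isom, Q.H.ff]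
  · refine (Q'.H.valid_iso (Q'.hd.smul _) _).mp ?_
    rw [← Q'.H.uMap_right (Q'.hd.smul _), ← hkk, S.isom, Q'.H.ff]

end Img3

theorem real_span [Finite F] (τ : F →+* F) (hτ : ∀ a, τ (τ a) = a) (D : AddSubgroup F)
    (hmul : ∀ a ∈ D, ∀ b ∈ D, a * b ∈ D) (hreal : ∀ r, τ r = r → r ∈ D) {ω : F} (hω : ω ∈ D)
    (hne : τ ω ≠ ω) (x : F) : x ∈ D := by
  have h : ω - τ ω ≠ 0 := sub_ne_zero.mpr (Ne.symm hne)
  set β := (x - τ x) / (ω - τ ω) with hβ
  have hβr : τ β = β := by
    rw [hβ, map_div₀, map_sub, map_sub, hτ, hτ, ← neg_sub x, ← neg_sub ω, neg_div_neg_eq]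
  have hα : τ (x - β * ω) = x - β * ω := by
    have e1 : β * (ω - τ ω) = x - τ x := div_mul_cancel₀ _ h
    rw [map_sub, map_mul, hβr]
    linear_combination e1
  have hx := D.add_mem (hreal _ hα) (hmul β (hreal β hβr) ω hω)
  rwa [sub_add_cancel] at hx

/-- Automorphisms in dimension three. -/
theorem exists_similitude_three [Finite F] [Finite V] [FiniteDimensional F V] (S : Geo F V G W)
    (φ : MulAut W) (hφ : TPerm S φ) (hdim : finrank F V = 3) (hε : S.P.ε = 1)
    (hν : ∃ c : F, c ≠ 0 ∧ S.P.τ (S.P.τ c * S.P.τ c / c) ≠ S.P.τ c * S.P.τ c / c)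
    (hν1 : ∃ c : F, c * S.P.τ c = 1 ∧ S.P.τ c * S.P.τ c / c ≠ 1)
    (htr1 : ∃ d₀ : F, d₀ + S.P.τ d₀ = 1)
    {e f d : V} (Q : Triple S.P e f d)
    (hperp : ∀ a b, S.P.Hyp a b → ∃ c, Triple S.P a b c) :
    ∃ (T : V → V) (σ : F ≃+* F) (m : F), m ≠ 0 ∧ S.P.τ m = m ∧ (∀ x y, T (x + y) = T x + T y) ∧
      (∀ (c : F) x, T (c • x) = σ c • T x) ∧ Function.Bijective T ∧
      (∀ x y, S.P.h (T x) (T y) = m * σ (S.P.h x y)) ∧
      ∀ g k, φ (S.pr g) = S.pr k → ∃ c : F, ∀ x, S.act k (T x) = c • T (S.act g x) := by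
  classical
  obtain ⟨e', he'i, he⟩ := hφ e Q.H.isoL
  obtain ⟨f₁, hf1i, hf1⟩ := hφ f Q.H.isoR
  have hne : S.P.h e' f₁ ≠ 0 := by
    intro h
    refine one_ne_zero (α := F) (Q.H.ef.symm.trans ?_)
    rw [S.commute_iff Q.H.isoL Q.H.isoR]
    intro y hy y' hy'
    refine φ.injective ?_
    rw [map_mul, map_mul]
    exact (S.commute_iff he'i hf1i).mp h _ (he ▸ Set.mem_image_of_mem φ hy) _
      (hf1 ▸ Set.mem_image_of_mem φ hy')
  set cf := S.P.τ ((S.P.h e' f₁)⁻¹) with hcf
  have hcf0 : cf ≠ 0 := S.P.τ_ne (inv_ne_zero hne)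
  obtain ⟨f', hf'⟩ : ∃ f', f' = cf • f₁ := ⟨_, rfl⟩
  have H' : S.P.Hyp e' f' := ⟨he'i.2, by rw [hf']; exact (hf1i.smul hcf0).2, by
    rw [hf', hcf, S.P.smul_right, S.P.ττ, inv_mul_cancel₀ hne]⟩
  have hf : φ '' S.Tg f = S.Tg f' := by rw [hf1, hf', S.Tg_par (Par.of_smul hcf0 f₁)]
  obtain ⟨d', Q'⟩ := hperp e' f' H'
  -- existence and the map `t`
  have ex : ∀ x s, S.P.Valid (x • d) s → ∃ x' s', Img3 S φ e d e' d' x s x' s' := by
    intro x s hs
    obtain ⟨x', s', g, k, hv, hg, hk, h⟩ := three_img S Q Q' he (Q.hd.smul x) hs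
    exact ⟨x', s', hs, hv, g, k, hg, hk, h⟩
  have zero_img : ∀ z x' s', Img3 S φ e d e' d' 0 z x' s' → x' = 0 := by
    rintro z x' s' ⟨hz, -, g, k, hg, hk, h⟩
    rw [zero_smul] at hz hg
    have : S.pr k ∈ S.Tg e' := by
      rw [← he, ← h]
      exact ⟨_, ⟨g, z, hz, hg, rfl⟩, rfl⟩
    obtain ⟨k', s'', -, hk', e1⟩ := this
    obtain ⟨h1, -⟩ := Frame.uMap_inj Q'.H (Q'.hd.smul x') (S.P.perp_zero e' f') hk hk' e1
    rcases smul_eq_zero.mp h1 with h | h
    · exact h
    · exact absurd (by rw [h, S.P.zero_left]) Q'.hdd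
  have indep : ∀ x s r x₁ s₁ x₂ s₂, Img3 S φ e d e' d' x s x₁ s₁ → Img3 S φ e d e' d' x r x₂ s₂ →
      x₁ = x₂ := by
    intro x s r x₁ s₁ x₂ s₂ h1 h2
    have hz : S.P.Valid ((0 : F) • d) (s - r) := by
      have e1 := h1.1
      have e2 := h2.1
      simp only [Polar.Valid, zero_smul, S.P.zero_left, map_sub] at e1 e2 ⊢
      linear_combination e1 - e2
    obtain ⟨b, t, hb⟩ := ex 0 _ hz
    obtain rfl := zero_img _ _ _ hb
    have := Img3.mul Q Q' hb h2
    simp only [zero_add, zero_smul, S.P.zero_right, sub_zero, sub_add_cancel] at this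
    exact (Img3.unique Q' h1 this).1
  choose t ht0 using fun x => ex x _ (S.P.exists_valid (x • d)).choose_spec
  choose t' ht using ht0
  have img : ∀ x s x' s', Img3 S φ e d e' d' x s x' s' → x' = t x := fun x s x' s' h =>
    indep x _ _ _ _ _ _ h (ht x)
  have tadd : ∀ x y, t (x + y) = t x + t y := fun x y =>
    (img _ _ _ _ (Img3.mul Q Q' (ht x) (ht y))).symm
  have t0 : t 0 = 0 := by have := tadd 0 0; rwa [add_zero, left_eq_add] at this
  have tneg : ∀ x, t (-x) = -t x := fun x => by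
    have := tadd x (-x); rw [add_neg_cancel, t0] at this; linear_combination -this
  have tinj : ∀ x, t x = 0 → x = 0 := by
    intro x hx
    obtain ⟨hv, hv', g, k, hg, hk, h⟩ := ht x
    rw [hx, zero_smul] at hv' hk
    have : φ (S.pr g) ∈ φ '' S.Tg e := by
      rw [he, h]
      exact ⟨k, _, hv', hk, rfl⟩
    obtain ⟨g', s'', -, hg', e1⟩ := (φ.injective.mem_set_image).mp this
    obtain ⟨h1, -⟩ := Frame.uMap_inj Q.H (Q.hd.smul x) (S.P.perp_zero e f) hg hg' e1
    rcases smul_eq_zero.mp h1 with h | h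
    · exact h
    · exact absurd (by rw [h, S.P.zero_left]) Q.hdd
  -- torus elements
  have torus : ∀ c : F, c ≠ 0 → ∃ u v : F, ∀ x s x' s', Img3 S φ e d e' d' x s x' s' →
      Img3 S φ e d e' d' (S.P.τ c * S.P.τ c / c * x) (c * S.P.τ c * s) (u * x') (v * s') := by
    intro c hc
    have hτ := S.P.τ_ne hc
    have hμ : S.P.τ c / c * S.P.τ (S.P.τ c / c) = 1 := by
      rw [map_div₀, S.P.ττ]; field_simp
    obtain ⟨L, hLe, hLf, hLd, hLi⟩ := Q.torus_exists hc hμ
    obtain ⟨g, hg⟩ := S.full L hLi (by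
      rw [Q.torus_det hdim L hLe hLf hLd]; field_simp)
    obtain ⟨k, hk⟩ := S.surj (φ (S.pr g))
    obtain ⟨l, hl0, hle⟩ := S.fix_of_image hk.symm Q.H.isoL Q'.H.isoL he (hg ▸ hLe)
    obtain ⟨l', hl'0, hlf⟩ := S.fix_of_image hk.symm Q.H.isoR Q'.H.isoR hf (hg ▸ hLf)
    obtain ⟨μ', hμ'⟩ : ∃ μ' : F, S.act k d' = μ' • d' := by
      refine Q'.span _ ⟨?_, ?_⟩
      · have h := S.isom k d' e'
        rw [hle, S.P.smul_right, Q'.hd.1] at h
        exact (mul_eq_zero.mp h).resolve_left (S.P.τ_ne hl0)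
      · have h := S.isom k d' f'
        rw [hlf, S.P.smul_right, Q'.hd.2] at h
        exact (mul_eq_zero.mp h).resolve_left (S.P.τ_ne hl'0)
    refine ⟨μ' / l', l / l', fun x s x' s' h => ?_⟩
    obtain ⟨hv, hv', g₁, k₁, hg₁, hk₁, h₁⟩ := h
    have hv2 : S.P.Valid ((S.P.τ c * S.P.τ c / c * x) • d) (c * S.P.τ c * s) := by
      simp only [Polar.Valid, S.P.smul_left, S.P.smul_right, map_mul, map_div₀, S.P.ττ, hε] at hv ⊢
      field_simp
      linear_combination (c * S.P.τ c) * hv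
    obtain ⟨X, ZZ, h2⟩ := ex _ _ hv2
    obtain ⟨-, -, g₂, k₂, hg₂, hk₂, h₂⟩ := h2
    have hconj : g₂ * g = g * g₁ := by
      refine S.act_inj (Q.H.ext_map ?_ ?_ fun z hz => ?_)
      · rw [S.act_mul, S.act_mul, hg, hg₂, hg₁, Q.H.uMap_left (Q.hd.smul _), hLe, map_smul,
          Q.H.uMap_left (Q.hd.smul _)]
      · rw [S.act_mul, S.act_mul, hg, hg₂, hg₁, hLf, map_smul, Q.H.uMap_right (Q.hd.smul _),
          Q.H.uMap_right (Q.hd.smul _), map_add, map_add, map_smul, map_smul, hLf, hLd, hLe]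
        simp only [smul_add, smul_smul]
        congr 2
        · congr 1; field_simp
        · field_simp
      · obtain ⟨z', rfl⟩ := Q.span z hz
        rw [S.act_mul, S.act_mul, hg, hg₂, hg₁, map_smul, hLd, smul_smul,
          Polar.uMap_perp _ (Q.hd.smul _).1, Polar.uMap_perp _ (Q.hd.smul _).1, map_sub, map_smul,
          map_smul, hLd, hLe, smul_smul, smul_smul]
        simp only [S.P.smul_left, S.P.smul_right, map_mul, map_div₀, S.P.ττ]
        congr 2
        field_simp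
    have hpk : S.pr (k₂ * k) = S.pr (k * k₁) := by
      rw [map_mul, map_mul, ← h₂, ← h₁, hk, ← map_mul φ, ← map_mul φ, ← map_mul, ← map_mul, hconj]
    obtain ⟨w, hw⟩ := S.pr_eq_iff.mp hpk
    have hh := hw f'
    rw [S.act_mul, S.act_mul, hlf, map_smul, hk₂, hk₁, Q'.H.uMap_right (Q'.hd.smul _),
      Q'.H.uMap_right (Q'.hd.smul _), map_add, map_add, map_smul, map_smul, hlf, hμ', hle] at hh
    have p1 := congrArg (fun v => S.P.h v e') hh
    have p2 := congrArg (fun v => S.P.h v d') hh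
    have p3 := congrArg (fun v => S.P.h v f') hh
    simp [S.P.add_left, S.P.smul_left, Q'.H.ee, Q'.H.ff, Q'.H.ef, Q'.H.fe, Q'.hd.1, Q'.hd.2,
      Q'.hd.symm.1, Q'.hd.symm.2, hε] at p1 p2 p3
    have hw1 : w = 1 := mul_right_cancel₀ hl'0 (p1.symm.trans (one_mul l').symm)
    subst hw1
    rw [one_mul] at p2 p3
    have hX : X = μ' / l' * x' := by
      rw [div_mul_eq_mul_div, eq_div_iff hl'0]
      exact mul_right_cancel₀ Q'.hdd (by linear_combination p2)
    have hS : ZZ = l / l' * s' := by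
      rw [div_mul_eq_mul_div, eq_div_iff hl'0]
      linear_combination p3
    subst hX; subst hS
    refine ⟨hv2, ?_, g₂, k₂, hg₂, hk₂, h₂⟩
    refine (Q'.H.valid_iso (Q'.hd.smul _) _).mp ?_
    rw [← Q'.H.uMap_right (Q'.hd.smul _), ← hk₂, S.isom, Q'.H.ff]
  set lam := t 1 with hlam
  have hlam0 : lam ≠ 0 := fun h => one_ne_zero (tinj 1 h)
  -- multiplicativity
  let D : AddSubgroup F :=
    { carrier := {κ | ∀ x, t (κ * x) * lam = t κ * t x}
      zero_mem' := fun x => by rw [zero_mul, t0, zero_mul, zero_mul]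
      add_mem' := fun {a b} ha hb x => by rw [add_mul, tadd, add_mul, ha x, hb x, tadd, add_mul]
      neg_mem' := fun {a} ha x => by rw [neg_mul, tneg, neg_mul, ha x, tneg, neg_mul] }
  have hDmul : ∀ a ∈ D, ∀ b ∈ D, a * b ∈ D := fun a ha b hb x => mul_right_cancel₀ hlam0 (by
    have e1 := ha (b * x)
    rw [← mul_assoc] at e1
    have e2 := hb x
    have e3 := ha b
    linear_combination lam * e1 + t a * e2 - t x * e3)
  have hκ : ∀ c : F, c ≠ 0 → S.P.τ c * S.P.τ c / c ∈ D := by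
    intro c hc x
    obtain ⟨u, v, huv⟩ := torus c hc
    have h1 := img _ _ _ _ (huv _ _ _ _ (ht x))
    have h2 := img _ _ _ _ (huv _ _ _ _ (ht 1))
    rw [mul_one] at h2
    rw [← h1, ← h2, ← hlam]; ring
  have hreal : ∀ r, S.P.τ r = r → r ∈ D := by
    intro r hr
    rcases eq_or_ne r 0 with rfl | h0
    · exact D.zero_mem
    · have := hκ r h0
      rwa [hr, mul_div_assoc, div_self h0, mul_one] at this
  obtain ⟨c₀, hc₀, hc₀'⟩ := hν
  have hall := real_span S.P.τ S.P.ττ D hDmul hreal (hκ c₀ hc₀) hc₀'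
  let s₀ : F →+* F :=
    { toFun := fun x => t x / lam
      map_one' := div_self hlam0
      map_zero' := by show t 0 / lam = 0; rw [t0, zero_div]
      map_add' := fun x y => by show t (x + y) / lam = _; rw [tadd, add_div]
      map_mul' := fun x y => by
        show t (x * y) / lam = t x / lam * (t y / lam)
        field_simp
        linear_combination hall x y }
  let σ : F ≃+* F := RingEquiv.ofBijective s₀ (Finite.injective_iff_bijective.mp s₀.injective)
  have hσ : ∀ x, t x = σ x * lam := fun x => (div_mul_cancel₀ _ hlam0).symm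
  have hcomm : ∀ x, σ (S.P.τ x) = S.P.τ (σ x) := fun x => Frame.ringEquiv_τ σ x
  set D' := lam • d' with hD'
  set m := S.P.h D' D' / σ (S.P.h d d) with hm
  have hD'0 : S.P.h D' D' ≠ 0 := by
    rw [hD', S.P.smul_left, S.P.smul_right]
    exact mul_ne_zero hlam0 (mul_ne_zero (S.P.τ_ne hlam0) Q'.hdd)
  have hσdd : σ (S.P.h d d) ≠ 0 := by simpa using Q.hdd
  have hm0 : m ≠ 0 := div_ne_zero hD'0 hσdd
  have hmD : S.P.h D' D' = m * σ (S.P.h d d) := (div_mul_cancel₀ _ hσdd).symm
  have hrr : ∀ v : V, S.P.τ (S.P.h v v) = S.P.h v v := fun v => by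
    conv_rhs => rw [S.P.swap, hε, one_mul]
  have hτm : S.P.τ m = m := by rw [hm, map_div₀, hrr, ← hcomm, hrr]
  have hform : ∀ x y, S.P.h (t x • d') (t y • d') = m * σ (S.P.h (x • d) (y • d)) := by
    intro x y
    rw [hσ, hσ, ← smul_smul, ← smul_smul, ← hD', S.P.smul_left, S.P.smul_right, hmD, S.P.smul_left,
      S.P.smul_right, map_mul, map_mul, hcomm]
    ring
  -- the scalar part
  have skew_fix : ∀ z, z + S.P.τ z = 0 → ∀ s', Img3 S φ e d e' d' 0 z 0 s' → s' = m * σ z := by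
    intro z hz s' h
    obtain ⟨d₀, hd₀⟩ := htr1
    set y := d₀ * z / S.P.h d d with hy
    obtain ⟨a₁, b₁, h1⟩ := ex y _ (S.P.exists_valid (y • d)).choose_spec
    obtain ⟨a₂, b₂, h2⟩ := ex 1 _ (S.P.exists_valid ((1 : F) • d)).choose_spec
    obtain rfl := img _ _ _ _ h1
    obtain rfl := img _ _ _ _ h2
    have m12 := Img3.mul Q Q' h1 h2
    have m21 := Img3.mul Q Q' h2 h1
    have hyz : S.P.h (y • d) ((1 : F) • d) - S.P.h ((1 : F) • d) (y • d) = z := by
      simp only [S.P.smul_left, S.P.smul_right, map_one, one_mul, hy, map_mul, map_div₀, hrr]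
      field_simp [Q.hdd]
      linear_combination z * hd₀ - S.P.τ d₀ * hz
    have hflip : Img3 S φ e d e' d' (y + 1) ((S.P.exists_valid (y • d)).choose +
        (S.P.exists_valid ((1 : F) • d)).choose - S.P.h ((1 : F) • d) (y • d)) (t y + t 1)
        (b₂ + b₁ - S.P.h (t y • d') (t 1 • d') + s') := by
      have e1 : (S.P.exists_valid ((1 : F) • d)).choose + (S.P.exists_valid (y • d)).choose -
          S.P.h (y • d) ((1 : F) • d) + z = (S.P.exists_valid (y • d)).choose +
            (S.P.exists_valid ((1 : F) • d)).choose - S.P.h ((1 : F) • d) (y • d) := by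
        linear_combination -hyz
      have := Img3.mul Q Q' h m21
      simp only [zero_add, zero_smul, S.P.zero_right, sub_zero] at this
      rw [add_comm z, e1, add_comm 1 y, add_comm (t 1), add_comm s'] at this
      exact this
    have := (Img3.unique Q' m12 hflip).2
    rw [hform, hform] at this
    have e2 : S.P.h (y • d) ((1 : F) • d) = z + S.P.h ((1 : F) • d) (y • d) := by
      linear_combination hyz
    rw [e2, map_add] at this
    linear_combination -this
  have S_val : ∀ x s x' s', Img3 S φ e d e' d' x s x' s' → s' = m * σ s := by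
    -- `δ` is additive and invariant under the torus
    have del0 : ∀ x, ∀ s r a b, Img3 S φ e d e' d' x s (t x) a → Img3 S φ e d e' d' x r (t x) b →
        a - m * σ s = b - m * σ r := by
      intro x s r a b h1 h2
      have hz : S.P.Valid ((0 : F) • d) (s - r) := by
        have e1 := h1.1
        have e2 := h2.1
        simp only [Polar.Valid, zero_smul, S.P.zero_left, map_sub] at e1 e2 ⊢
        linear_combination e1 - e2
      obtain ⟨b', t₁, hb⟩ := ex 0 _ hz
      obtain rfl := zero_img _ _ _ hb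
      have hs' := skew_fix _ (by
        have := hb.1; simpa [Polar.Valid, hε] using this) _ hb
      have := Img3.mul Q Q' hb h2
      simp only [zero_add, zero_smul, S.P.zero_right, sub_zero, sub_add_cancel] at this
      have := (Img3.unique Q' h1 this).2
      rw [this, hs', map_sub]; ring
    let δ : F → F := fun x => t' x - m * σ (S.P.exists_valid (x • d)).choose
    have hδ : ∀ x s x' s', Img3 S φ e d e' d' x s x' s' → s' - m * σ s = δ x := by
      intro x s x' s' h
      obtain rfl := img _ _ _ _ h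
      exact del0 x _ _ _ _ h (ht x)
    have δadd : ∀ x y, δ (x + y) = δ x + δ y := by
      intro x y
      rw [← hδ _ _ _ _ (Img3.mul Q Q' (ht x) (ht y)), hform, map_sub, map_add]
      simp only [δ]; ring
    obtain ⟨c, hcN, hc1⟩ := hν1
    have hc0 : c ≠ 0 := left_ne_zero_of_mul_eq_one hcN
    obtain ⟨u, v, huv⟩ := torus c hc0
    have hv1 : v = 1 := by
      obtain ⟨z, hz0, hz⟩ := S.P.skew
      rw [hε, one_mul] at hz
      obtain ⟨b', t₁, hb⟩ := ex 0 z (by simpa [Polar.Valid, hε] using hz)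
      obtain rfl := zero_img _ _ _ hb
      have hb2 := huv _ _ _ _ hb
      rw [mul_zero, mul_zero, hcN, one_mul] at hb2
      have e1 := (Img3.unique Q' hb hb2).2
      rw [skew_fix z hz _ hb] at e1
      have hne : m * σ z ≠ 0 := mul_ne_zero hm0 (by simpa using hz0)
      exact mul_right_cancel₀ hne (by rw [one_mul]; exact e1.symm)
    have hinv : ∀ x, δ (S.P.τ c * S.P.τ c / c * x) = δ x := by
      intro x
      rw [← hδ _ _ _ _ (huv _ _ _ _ (ht x)), hv1, one_mul, hcN, one_mul]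
    have δ0 : ∀ x, δ x = 0 := by
      intro x
      set κ := S.P.τ c * S.P.τ c / c with hκdef
      have h2 : κ - 1 ≠ 0 := sub_ne_zero.mpr hc1
      have := δadd ((κ - 1) * (x / (κ - 1))) (x / (κ - 1))
      rw [show (κ - 1) * (x / (κ - 1)) + x / (κ - 1) = κ * (x / (κ - 1)) by ring, hinv,
        mul_div_cancel₀ _ h2] at this
      exact right_eq_add.mp this
    intro x s x' s' h
    have := hδ x s x' s' h
    rw [δ0, sub_eq_zero] at this
    exact this
  -- the semilinear map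
  let T : V → V := fun x =>
    (σ (S.P.h x f) * m) • e' + σ (S.P.h x e) • f' + σ (S.P.h x d / S.P.h d d) • D'
  have Tadd : ∀ x y, T (x + y) = T x + T y := fun x y => by
    simp only [T, S.P.add_left, add_div, map_add, add_mul, add_smul]; abel
  have Tsmul : ∀ (c : F) x, T (c • x) = σ c • T x := fun c x => by
    simp only [T, S.P.smul_left, mul_div_assoc, map_mul, smul_add, smul_smul, mul_assoc]
  have Te : T e = m • e' := by simp [T, Q.H.ee, Q.H.ef, Q.hd.symm.1]
  have hdec : ∀ x, x = S.P.h x f • e + S.P.h x e • f + (S.P.h x d / S.P.h d d) • d := by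
    intro x
    obtain ⟨c, hc⟩ := Q.span _ (Q.H.proj_perp x)
    have dx := Q.H.decomp x
    rw [hc, hε, one_mul] at dx
    have : S.P.h x d = c * S.P.h d d := by
      conv_lhs => rw [dx]
      simp [S.P.add_left, S.P.smul_left, Q.hd.symm.1, Q.hd.symm.2]
    rw [this, mul_div_cancel_right₀ _ Q.hdd]
    exact dx
  have hpD : S.P.Perp e' f' D' := Q'.hd.smul lam
  have Th : ∀ x y, S.P.h (T x) (T y) = m * σ (S.P.h x y) := fun x y => by
    conv_rhs => rw [hdec x, hdec y, Q.H.h_decomp (Q.hd.smul _) (Q.hd.smul _)]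
    simp only [T, H'.h_decomp (hpD.smul _) (hpD.smul _), S.P.smul_left, S.P.smul_right, hmD, map_add,
      map_mul, hτm, hcomm, hε, one_mul, map_one]
    ring
  have T0 : T 0 = 0 := by have := Tsmul 0 0; rwa [zero_smul, map_zero, zero_smul] at this
  have Tinj : Function.Injective T := fun x y hxy => by
    refine sub_eq_zero.mp (S.P.nondeg _ fun z => ?_)
    have e1 := Th x z
    rw [hxy, Th] at e1
    rw [S.P.sub_left, σ.injective (mul_left_cancel₀ hm0 e1), sub_self]
  have Tbij : Function.Bijective T := Finite.injective_iff_bijective.mp Tinj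
  have Tpar : ∀ {x y}, Par (F := F) x y → Par (F := F) (T x) (T y) := fun {x y} h => by
    obtain ⟨c, hc, rfl⟩ := h
    exact ⟨σ c, by simpa using hc, Tsmul c x⟩
  have key : ∀ x, S.P.Iso x → φ '' S.Tg x = S.Tg (T x) := by
    intro x hx
    by_cases hxe : S.P.h x e = 0
    · have hp := Q.iso_mem hx hxe
      rw [← S.Tg_par hp, he, ← S.Tg_par (Tpar hp), Te, S.Tg_par (Par.of_smul hm0 e')]
    · obtain ⟨a, s, ha, hs, hp⟩ := Q.iso_param hx hxe
      rw [S.Tg_par hp, S.Tg_par (Tpar hp)]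
      obtain ⟨x₁, rfl⟩ := Q.span a ha
      obtain ⟨x', s', h⟩ := ex x₁ s hs
      obtain rfl := img _ _ _ _ h
      have hsv := S_val _ _ _ _ h
      obtain ⟨-, -, g, k, hg, hk, e1⟩ := h
      have := S.image_move e1 hf
      rw [hg, hk, Q.H.uMap_right ha, H'.uMap_right (Q'.hd.smul _)] at this
      rw [this]
      congr 1
      have c1 : S.P.h (f + x₁ • d + s • e) f = s := by
        simp [S.P.add_left, S.P.smul_left, Q.H.ff, Q.H.ef, Q.hd.2]
      have c2 : S.P.h (f + x₁ • d + s • e) e = 1 := by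
        simp [S.P.add_left, S.P.smul_left, Q.H.fe, Q.H.ee, Q.hd.1, hε]
      have c3 : S.P.h (f + x₁ • d + s • e) d = x₁ * S.P.h d d := by
        simp [S.P.add_left, S.P.smul_left, Q.hd.symm.1, Q.hd.symm.2]
      simp only [T, c1, c2, c3, mul_div_cancel_right₀ _ Q.hdd, map_one, one_smul, hσ x₁, ← smul_smul,
        ← hD', hsv]
      module
  refine ⟨T, σ, m, hm0, hτm, Tadd, Tsmul, Tbij, Th, fun g k hgk => ?_⟩
  let Te' : V ≃+ V := AddEquiv.ofBijective (AddMonoidHom.mk' T Tadd) Tbij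
  have hTsymm : ∀ (c : F) x, Te'.symm (σ c • x) = c • Te'.symm x := fun c x => by
    apply Te'.injective
    rw [Te'.apply_symm_apply]
    show σ c • x = T (c • Te'.symm x)
    rw [Tsmul]
    exact congrArg _ (Te'.apply_symm_apply x).symm
  let L : V →ₗ[F] V :=
    { toFun := fun x => S.act g⁻¹ (Te'.symm (S.act k (T x)))
      map_add' := fun x y => by rw [Tadd, map_add, map_add, map_add]
      map_smul' := fun c x => by rw [Tsmul, map_smul, hTsymm, map_smul]; rfl }
  have hL : ∀ x, S.P.Iso x → ∃ c : F, L x = c • x := by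
    intro x hx
    have hTi : ∀ {y}, S.P.Iso y → S.P.Iso (T y) := fun {y} hy =>
      ⟨fun h => hy.1 (Tinj (h.trans T0.symm)), by rw [Th, hy.2, map_zero, mul_zero]⟩
    have h1 : Par (F := F) (T (S.act g x)) (S.act k (T x)) := by
      refine S.Tg_inj (hTi (S.act_iso hx)) (S.act_iso (hTi hx)) ?_
      rw [← key _ (S.act_iso hx)]
      exact S.image_move hgk (key x hx)
    obtain ⟨c, -, hc⟩ := h1
    refine ⟨σ.symm c, ?_⟩
    show S.act g⁻¹ (Te'.symm (S.act k (T x))) = _
    rw [hc, ← σ.apply_symm_apply c, hTsymm, σ.apply_symm_apply,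
      show Te'.symm (T (S.act g x)) = S.act g x from Te'.symm_apply_apply _, map_smul, S.act_inv_act]
  obtain ⟨c, hc⟩ : ∃ c : F, ∀ x, L x = c • x := by
    obtain ⟨c₁, h1⟩ := hL e Q.H.isoL
    obtain ⟨c₂, h2⟩ := hL f Q.H.isoR
    obtain ⟨z, hz0, hz⟩ := S.P.skew
    rw [hε, one_mul] at hz
    have isoPt : ∀ a s, S.P.Perp e f a → S.P.Valid a s → S.P.Iso (f + a + s • e) := by
      intro a s ha hs
      refine ⟨fun h0 => ?_, (Q.H.valid_iso ha s).mpr hs⟩
      have := congrArg (fun v => S.P.h v e) h0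
      simp [S.P.add_left, S.P.smul_left, Q.H.fe, Q.H.ee, ha.1, hε] at this
    obtain ⟨c₃, h3⟩ := hL _ (isoPt 0 z (S.P.perp_zero e f) (by simpa [Polar.Valid, hε] using hz))
    rw [add_zero, map_add, map_smul, h1, h2] at h3
    have p1 := congrArg (fun v => S.P.h v e) h3
    have p2 := congrArg (fun v => S.P.h v f) h3
    simp [S.P.add_left, S.P.smul_left, Q.H.ee, Q.H.ff, Q.H.ef, Q.H.fe, hε] at p1 p2
    have h21 : c₂ = c₁ := by
      subst p1
      exact (mul_left_cancel₀ hz0 (show z * c₁ = z * c₂ by linear_combination p2)).symm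
    obtain ⟨s, hs⟩ := S.P.exists_valid d
    have hs2 : S.P.Valid d (s + z) := by
      simp only [Polar.Valid, map_add, hε, one_mul] at hs ⊢
      linear_combination hs + hz
    obtain ⟨c₄, h4⟩ := hL _ (isoPt d s Q.hd hs)
    obtain ⟨c₅, h5⟩ := hL _ (isoPt d (s + z) Q.hd hs2)
    rw [map_add, map_add, map_smul, h1, h2, h21] at h4 h5
    have h45 : z • (c₁ • e) = c₅ • (f + d + (s + z) • e) - c₄ • (f + d + s • e) := by
      rw [← h4, ← h5]; module
    have q1 := congrArg (fun v => S.P.h v d) h45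
    have q2 := congrArg (fun v => S.P.h v f) h45
    simp only [S.P.add_left, S.P.sub_left, S.P.smul_left, Q.H.ff, Q.H.ef, Q.hd.2, Q.hd.symm.1,
      Q.hd.symm.2, mul_zero, zero_add, add_zero, mul_one] at q1 q2
    have h54 : c₅ = c₄ := mul_right_cancel₀ Q.hdd (by linear_combination -q1)
    subst h54
    have h41 : c₅ = c₁ := (mul_left_cancel₀ hz0 (show z * c₁ = z * c₅ by linear_combination q2)).symm
    have hLd : L d = c₁ • d := by
      rw [h41] at h4
      linear_combination (norm := module) h4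
    refine ⟨c₁, fun x => ?_⟩
    rw [hdec x]
    simp only [map_add, map_smul, h1, h2, h21, hLd, smul_add, smul_comm c₁]
  refine ⟨σ c, fun x => ?_⟩
  have h := congrArg (fun v => T (S.act g v)) (hc x)
  simp only [L, LinearMap.coe_mk, AddHom.coe_mk, S.act_act_inv, map_smul, Tsmul] at h
  rwa [show T (Te'.symm (S.act k (T x))) = S.act k (T x) from Te'.apply_symm_apply _] at h

end CfsgLib.PolarAut
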